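import Cfsg.Agent.Fusion.PPrimeResidual
import Cfsg.Agent.FusionLayer.ExtensionCondition

/-!
# Subsystems of index prime to `p` with a prescribed automizer of the top subgroup

Let `O` be a saturated subsystem of a saturated system `W` over `D` such that every map of `W` is an
element of `Aut_W(D)` composed with a map of `O`. For every `Γ` between `Aut_O(D)` and `Aut_W(D)`
the maps `α ∘ o` with `α ∈ Γ` and `o` in `O` form a saturated system.
-/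

set_option autoImplicit false

namespace CfsgLib.FusionComponents

open Cfsg Cfsg.FusionSystem CfsgLib.Fusion

variable {Ω : Type*} [Group Ω] {S D : Subgroup Ω} {F : FusionSystem S}
  {W O : FusionSystem D} {p : ℕ}

/-- Transport of a map of `O` by an automorphism of `D`, through values. -/
theorem exists_transport (hinv : AutInvariant O F) {P : Subgroup Ω} {φ : P →* Ω}
    (hφ : φ ∈ O.Hom P) {α : MulAut D} (hα : α ∈ F.autGroup D) {R : Subgroup Ω}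
    (hR : ∀ y ∈ R, ∃ x : P, (α ⟨x, le_left hφ x.2⟩ : Ω) = y) :
    ∃ χ ∈ O.Hom R, ∀ (x : P) (y : R), (α ⟨x, le_left hφ x.2⟩ : Ω) = y →
      χ y = (α ⟨φ x, apply_mem hφ x⟩ : Ω) := by
  obtain ⟨χ, hχ, hv⟩ := exists_conj_hom hinv hφ hα hR
  refine ⟨χ, hχ, fun x y hy => ?_⟩
  rw [show y = ⟨(α ⟨x, le_left hφ x.2⟩ : Ω), hy ▸ y.2⟩ from Subtype.ext hy.symm]
  exact hv x _

theorem exists_autExtension [Finite D] [Fact p.Prime] (hD : IsPGroup p D)
    (hW : W.IsSaturated p) (hO : O.IsSaturated p) (hOW : O.IsSubsystemOf W)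
    (hinv : AutInvariant O W)
    (hdec : ∀ (P : Subgroup Ω) (φ : P →* Ω), φ ∈ W.Hom P → ∃ α ∈ W.autGroup D,
      ∃ o ∈ O.Hom P, ∀ (x : P) (hx : o x ∈ D), φ x = (α ⟨o x, hx⟩ : Ω))
    (Γ : Subgroup (MulAut D)) (hΓW : Γ ≤ W.autGroup D) (hOΓ : O.autGroup D ≤ Γ) :
    ∃ Δ : FusionSystem D, Δ.IsSaturated p ∧ Δ.IsSubsystemOf W ∧ O.IsSubsystemOf Δ ∧
      Δ.autGroup D = Γ ∧ ∀ (P : Subgroup Ω) (φ : P →* Ω), φ ∈ Δ.Hom P ↔
        ∃ α ∈ Γ, ∃ o ∈ O.Hom P, ∀ (x : P) (hx : o x ∈ D), φ x = (α ⟨o x, hx⟩ : Ω) := by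
  let Δ : FusionSystem D :=
    { Hom := fun P => {φ | ∃ α ∈ Γ, ∃ o ∈ O.Hom P,
        ∀ (x : P) (hx : o x ∈ D), φ x = (α ⟨o x, hx⟩ : Ω)}
      le_of_mem := by
        rintro P φ ⟨α, -, o, ho, hv⟩
        exact ⟨le_left ho, fun x => hv x (apply_mem ho x) ▸ (α _).2⟩
      injective_of_mem := by
        rintro P φ ⟨α, -, o, ho, hv⟩ a b hab
        rw [hv a (apply_mem ho a), hv b (apply_mem ho b)] at hab
        exact O.injective_of_mem ho (congrArg Subtype.val (α.injective (Subtype.ext hab)) :)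
      conj_mem := fun {P g} hP hg =>
        ⟨1, one_mem _, conjHom P g, O.conj_mem hP hg, fun _ _ => rfl⟩
      comp_mem := by
        rintro P Q φ ψ ⟨α, hα, o, ho, hv⟩ ⟨β, hβ, o', ho', hv'⟩ h
        have hφ : ∀ x, φ x = (α ⟨o x, apply_mem ho x⟩ : Ω) := fun x => hv x _
        obtain ⟨χ, hχ, hχv⟩ := exists_transport hinv ho' (hΓW (inv_mem hα)) (R := o.range) (by
          rintro _ ⟨x, rfl⟩
          refine ⟨⟨φ x, h x⟩, ?_⟩
          rw [show (⟨φ x, le_left ho' (h x)⟩ : D) = α ⟨o x, apply_mem ho x⟩ from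
            Subtype.ext (hφ x), MulAut.inv_apply_self])
        refine ⟨β * α, mul_mem hβ hα, _, O.comp_mem ho hχ fun x => ⟨x, rfl⟩, fun x hx => ?_⟩
        have h1 : χ ⟨o x, x, rfl⟩ = (α⁻¹ ⟨o' ⟨φ x, h x⟩, apply_mem ho' _⟩ : Ω) :=
          hχv ⟨φ x, h x⟩ ⟨o x, x, rfl⟩ (by
            show ((α⁻¹ ⟨φ x, le_left ho' (h x)⟩ : D) : Ω) = o x
            rw [show (⟨φ x, le_left ho' (h x)⟩ : D) = α ⟨o x, apply_mem ho x⟩ from
              Subtype.ext (hφ x), MulAut.inv_apply_self])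
        show ψ ⟨φ x, h x⟩ = _
        rw [hv' ⟨φ x, h x⟩ (apply_mem ho' _), MulAut.mul_apply]
        refine congrArg (fun w => (β w : Ω)) ?_
        refine Eq.trans ?_ (congrArg α (Subtype.ext h1.symm))
        rw [MulAut.apply_inv_self]
      inv_mem := by
        rintro P φ ⟨α, hα, o, ho, hv⟩
        have hφ : ∀ x, φ x = (α ⟨o x, apply_mem ho x⟩ : Ω) := fun x => hv x _
        obtain ⟨i, hi, hiv⟩ := O.inv_mem ho
        obtain ⟨χ, hχ, hχv⟩ := exists_transport hinv hi (hΓW hα) (R := φ.range) (by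
          rintro _ ⟨x, rfl⟩
          exact ⟨⟨o x, x, rfl⟩, (hφ x).symm⟩)
        let ψ : φ.range →* Ω :=
          (D.subtype.comp α⁻¹.toMonoidHom).comp (χ.codRestrict D (apply_mem hχ))
        have hψv : ∀ x : P, ψ ⟨φ x, x, rfl⟩ = (x : Ω) := fun x => by
          show ((α⁻¹ ⟨χ ⟨φ x, x, rfl⟩, _⟩ : D) : Ω) = x
          rw [show (⟨χ ⟨φ x, x, rfl⟩, apply_mem hχ _⟩ : D) = α ⟨i ⟨o x, x, rfl⟩, apply_mem hi _⟩ from
            Subtype.ext (hχv ⟨o x, x, rfl⟩ ⟨φ x, x, rfl⟩ (hφ x).symm), MulAut.inv_apply_self]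
          exact hiv x
        exact ⟨ψ, ⟨α⁻¹, inv_mem hα, χ, hχ, fun _ _ => rfl⟩, hψv⟩ }
  have hΔW : Δ.IsSubsystemOf W := by
    rintro P φ ⟨α, hα, o, ho, hv⟩
    exact mem_of_comp (hOW P ho) ((mem_autGroup_iff le_rfl).1 (hΓW hα)) (apply_mem ho)
      fun x => hv x _
  have hOΔ : O.IsSubsystemOf Δ := fun P φ hφ => ⟨1, one_mem _, φ, hφ, fun _ _ => rfl⟩
  have haut : Δ.autGroup D = Γ := by
    refine le_antisymm (fun a ha => ?_) fun a ha =>
      IsIso.mem_autGroup ⟨a, ha, D.subtype, subtype_mem le_rfl, fun _ _ => rfl⟩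
    obtain ⟨α, hα, o, ho, hv⟩ := (mem_autGroup_iff le_rfl).1 ha
    obtain ⟨e, he, hev⟩ := exists_iso ho (Q := D) (by
      refine Subgroup.eq_of_le_of_card_ge (range_le ho) ?_
      rw [← imgHom_self, card_imgHom (O.injective_of_mem ho) le_rfl])
    have : a = α * e := MulEquiv.ext fun x => Subtype.ext ((hv x (apply_mem ho x)).trans
      (congrArg (fun w => (α w : Ω)) (Subtype.ext (hev x).symm)))
    exact this ▸ mul_mem hα (hOΓ he.mem_autGroup)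
  refine ⟨Δ, fun P hP => ?_, hΔW, hOΔ, haut, fun P φ => Iff.rfl⟩
  -- saturation
  obtain ⟨Q, ⟨φ, hφ, hr⟩, hQ⟩ := exists_fullyNormalized (F := W) hP
  obtain ⟨α, hα, o, ho, hv⟩ := hdec P φ hφ
  have hR : W.IsFullyNormalized o.range := by
    refine PPrimeResidual.isFullyNormalized_aut hQ (α := α⁻¹)
      (isConj_trans (isConj_symm ⟨φ, hφ, hr⟩) ⟨o, hOW P ho, rfl⟩) fun x hx => ?_
    obtain ⟨y, hy⟩ : (x : Ω) ∈ φ.range := hr ▸ hx
    refine ⟨y, ?_⟩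
    rw [show x = α ⟨o y, apply_mem ho y⟩ from Subtype.ext (hy.symm.trans (hv y _)),
      MulAut.inv_apply_self]
  refine ⟨o.range, ⟨o, hOΔ P ho, rfl⟩, ⟨hR.1, ?_⟩, hR.1, fun X θ hθ hθr => ?_⟩
  · have := finite_of_le hR.1
    exact IsSylowIn.mono (H := W.autGroup o.range) (automized_receptive hD hW hR).1.2
      (autInducedBy_le_autGroup hR.1)
      fun β hβ => (mem_autGroup_iff hR.1).2 (hΔW _ ((mem_autGroup_iff hR.1).1 hβ))
  · obtain ⟨β, hβ, o', ho', hv'⟩ := id hθ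
    have hθ' : ∀ x, θ x = (β ⟨o' x, apply_mem ho' x⟩ : Ω) := fun x => hv' x _
    have hR' : W.IsFullyNormalized o'.range := by
      refine PPrimeResidual.isFullyNormalized_aut hR (α := β⁻¹)
        (isConj_trans (isConj_symm ⟨θ, hΔW _ hθ, hθr⟩) ⟨o', hOW X ho', rfl⟩) fun x hx => ?_
      obtain ⟨y, hy⟩ : (x : Ω) ∈ θ.range := hθr ▸ hx
      refine ⟨y, ?_⟩
      rw [show x = β ⟨o' y, apply_mem ho' y⟩ from Subtype.ext (hy.symm.trans (hθ' y)),
        MulAut.inv_apply_self]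
    have hRO : O.IsFullyNormalized o'.range := ⟨hR'.1, fun Y ⟨g, hg, hgr⟩ =>
      hR'.2 Y ⟨g, hOW _ hg, hgr⟩⟩
    obtain ⟨e, he, hev⟩ := exists_iso_range ho'
    obtain ⟨ψ, hψ, hψv⟩ := (automized_receptive hD hO hRO).2.2 X o' ho' rfl
    have hle : extender D X θ ≤ extender D X o' := fun g hg => by
      obtain ⟨hgD, hgN, d, hd, hdv⟩ := mem_extender_iff.1 hg
      refine mem_extender_iff.2 ⟨hgD, hgN, (β⁻¹ ⟨d, hd⟩ : Ω), (β⁻¹ ⟨d, hd⟩).2, fun x hx => ?_⟩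
      refine congrArg Subtype.val (β.injective (Subtype.ext ?_) :
        (⟨o' ⟨_, hx⟩, apply_mem ho' _⟩ : D) =
          β⁻¹ ⟨d, hd⟩ * ⟨o' x, apply_mem ho' x⟩ * (β⁻¹ ⟨d, hd⟩)⁻¹)
      rw [map_mul, map_mul, map_inv, MulAut.apply_inv_self]
      show (β ⟨o' ⟨_, hx⟩, _⟩ : Ω) = d * (β ⟨o' x, _⟩ : Ω) * d⁻¹
      rw [← hθ', ← hθ']
      exact hdv x hx
    let φ' : extender D X θ →* Ω :=
      (D.subtype.comp β.toMonoidHom).comp ((restrictHom ψ hle).codRestrict D fun x => apply_mem hψ _)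
    refine ⟨φ', ⟨β, hβ, restrictHom ψ hle, restrict_mem hψ hle, fun _ _ => rfl⟩, fun x hx hN => ?_⟩
    show (β ⟨ψ ⟨x, hle hN⟩, _⟩ : Ω) = θ ⟨x, hx⟩
    rw [hθ']
    exact congrArg (fun w => (β w : Ω)) (Subtype.ext (hψv x hx (hle hN)))

end CfsgLib.FusionComponents
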