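import Cfsg.Agent.FusionComponents.Fitting
import Cfsg.Agent.FusionNormal.CentralFocal

/-!
# Components and normal subsystems centralize each other
-/

set_option autoImplicit false

namespace CfsgLib.FusionComponents

open Cfsg Cfsg.FusionSystem CfsgLib.Fusion

variable {Ω : Type*} [Group Ω] {S T U : Subgroup Ω} {F : FusionSystem S} {E : FusionSystem T}
  {C : FusionSystem U} {p : ℕ}

/-- A normal subsystem centralizes every perfect system centralizing its underlying subgroup. -/
theorem le_centralizerHom_of_centralizes [Finite S] [Fact p.Prime] (hS : IsPGroup p S)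
    (hE : E.IsNormalIn F p) (hperf : C.hyperfocalSubgroup p = U)
    (hC : ∀ P, C.Hom P ⊆ F.centralizerHom T P) (P : Subgroup Ω) :
    E.Hom P ⊆ F.centralizerHom U P := by
  obtain ⟨D, hD⟩ := exists_isCentralizerSystem F hE.1.2.2.2.1.1
  refine fun φ hφ => centralizerHom_anti ?_ P
    (FusionNormal.subset_centralizerHom_focal hS hE.1.2.1 hE hD P hφ)
  refine hperf.ge.trans ((Subgroup.closure_le _).2 ?_)
  rintro _ ⟨Q, α, x, hQ, -, rfl⟩
  exact Subgroup.subset_closure
    ⟨Q, _, x, (hD Q).ge (hC Q ((mem_autGroup_iff hQ).1 α.2)), rfl⟩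

/-- **A component lies in a normal subsystem or the two centralize each other.** -/
theorem component_mutual [Finite S] [Fact p.Prime] (hS : IsPGroup p S)
    (hC : C.IsComponentIn F p) (hE : E.IsNormalIn F p) :
    C.IsSubsystemOf E ∨ (U ≤ centralizerIn S T ∧ (∀ P, C.Hom P ⊆ F.centralizerHom T P) ∧
      ∀ P, E.Hom P ⊆ F.centralizerHom U P) := by
  rcases component_dichotomy hS hC hE with h | ⟨hU, h⟩
  · exact Or.inl h
  · exact Or.inr ⟨hU, h, le_centralizerHom_of_centralizes hS hE hC.2.2.1 h⟩

theorem isSubnormalIn_of_le (h : C.IsSubnormalIn F p) :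
    ∀ [Finite S] [Fact p.Prime], IsPGroup p S → C.Quasisimple p →
      ∀ {T : Subgroup Ω} (E : FusionSystem T), E.IsNormalIn F p → C.IsSubsystemOf E →
        C.IsSubnormalIn E p := by
  induction h with
  | @refl F p =>
    intro _ _ hS hq T E hE hle
    obtain ⟨rfl, hhom⟩ := eq_of_isSubsystemOf hle hE.1.2.2.1
    obtain rfl := fusionSystem_ext hhom
    exact .refl _ _
  | @step U S' S C D F hsn hD ih =>
    intro _ _ hS hq T E hE hle
    have := finite_of_le hD.1.2.2.2.1.1
    obtain ⟨W, hW, hWE, hWD⟩ := exists_normal_inter hS hE hD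
    have hCW :=
      component_le_inter hS ⟨.step hsn hD, hq⟩ hW hle (isSubsystemOf_of_subnormal hsn)
    exact .step (ih (hS.to_le hD.1.2.2.2.1.1) hq W hWD hCW) hWE

/-- A component lying in a normal subsystem is a component of it. -/
theorem isComponentIn_of_le [Finite S] [Fact p.Prime] (hS : IsPGroup p S)
    (hC : C.IsComponentIn F p) (hE : E.IsNormalIn F p) (hle : C.IsSubsystemOf E) :
    C.IsComponentIn E p :=
  ⟨isSubnormalIn_of_le hC.1 hS hC.2 E hE hle, hC.2⟩

/-- A component of a normal subsystem is a component. -/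
theorem isComponentIn_of_normal (hC : C.IsComponentIn E p) (hE : E.IsNormalIn F p) :
    C.IsComponentIn F p := ⟨.step hC.1 hE, hC.2⟩

end CfsgLib.FusionComponents
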