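import Cfsg.Agent.FusionComponents.ComponentNormal
import Cfsg.Agent.FusionConstrained.Inherit

/-!
# The generalized Fitting subsystem is self-centralizing
-/

set_option autoImplicit false

universe u

namespace CfsgLib.FusionComponents

open Cfsg Cfsg.FusionSystem CfsgLib.Fusion CfsgLib.FusionLayer.Product

variable {Ω : Type u} [Group Ω] {S U : Subgroup Ω} {F : FusionSystem S} {D : FusionSystem U}
  {p : ℕ}

/-- **`F*(F)` is self-centralizing.** -/
theorem fitting_selfCentralizing [Finite S] [Fact p.Prime] (hS : IsPGroup p S)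
    (hF : F.IsSaturated p) (hD : D.IsGeneralizedFittingOf F p) :
    (D.center ≤ centralizerIn S U ∧ ∀ P : Subgroup Ω, D.Hom P ⊆ F.centralizerHom D.center P) ∧
      ∀ Y : Subgroup Ω, Y ≤ centralizerIn S U →
        (∀ P : Subgroup Ω, D.Hom P ⊆ F.centralizerHom Y P) → Y ≤ D.center := by
  obtain ⟨T, E, hE, rfl, -, hDp, hDn, hc, hZ₁, hZ₂⟩ := generalizedFitting_spec hS hF hD
  have hUS := hDn.1.2.2.2.1.1
  have := finite_of_le hUS
  have := finite_of_le hE.1.1.2.2.2.1.1
  have := finite_of_le (FusionFactor.isNormal_core F).1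
  have hcen := FusionFactor.isCentral_center D
  have hZS : D.center ≤ centralizerIn S (F.core ⊔ T) := fun z hz =>
    ⟨hUS (hcen.1 hz), D.center_le_centralizer hz⟩
  refine ⟨⟨hZS, fun P φ hφ => ?_⟩, fun Y hY hDY => ?_⟩
  · obtain ⟨ψ, hψ, h1, h2⟩ := hcen.2 P φ hφ
    have hPC : ∀ x ∈ F.core ⊔ T, x ∈ centralizerIn S D.center := fun x hx =>
      mem_centralizerIn.2 ⟨hUS hx, fun z hz =>
        ((mem_centralizerIn.1 (hZS hz)).2 x hx).symm⟩
    exact ⟨hDn.1.2.2.1 P hφ, fun x hx => hPC x (le_left hφ hx),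
      fun x => hPC _ (apply_mem hφ x), ψ, hDn.1.2.2.1 _ hψ, h1, h2⟩
  obtain ⟨Y₀, hY₀, hDY₀, hmax⟩ := exists_largest_centralized hS hDn
  obtain ⟨M, hM, hMD⟩ := exists_normal_centralizer hS hDn hY₀ hDY₀ hmax
  have hY₀S := hY₀.trans (centralizerIn_le S _)
  have := finite_of_le hY₀S
  have hMc : M.IsConstrained p := by
    by_contra hnc
    obtain ⟨W, C, hC⟩ := FusionLayer.exists_component _ (hS.to_le hY₀S) M le_rfl hM.1.1 hnc
    have := finite_of_le (le_of_isSubsystemOf (isSubsystemOf_of_subnormal hC.1))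
    refine not_centralized hC.2 ((le_of_isSubsystemOf
      (hE.2.1 W C (isComponentIn_of_normal hC hM))).trans le_sup_right) fun P φ hφ => hMD P
        (isSubsystemOf_of_subnormal hC.1 P hφ)
  have hcore : M.core ≤ F.core :=
    le_sSup (FusionLayer.isNormal_core_of_invariant hS hF hM.1.2.2)
  have hYU : Y ≤ F.core ⊔ T := fun y hy => Subgroup.mem_sup_left (hcore
    (FusionConstrained.core_centralizer_le hMc (mem_centralizerIn.2 ⟨hmax Y hY hDY hy,
      fun z hz => (mem_centralizerIn.1 (hY hy)).2 z (Subgroup.mem_sup_left (hcore hz))⟩)))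
  refine le_sSup (isCentral_of_forall (hS.to_le hUS) hDn.1.1 hYU fun x hx y hy => ?_)
  obtain ⟨φ, hφ, rfl⟩ := hy
  obtain ⟨-, -, -, ψ, -, h1, h2⟩ := hDY _ hφ
  exact (h1 ⟨x, Subgroup.mem_zpowers x⟩).symm.trans (h2 ⟨x, hx⟩)

end CfsgLib.FusionComponents
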