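import Cfsg.Agent.FusionComponents.Master
import Cfsg.Agent.FusionNormal.CentralFocal

/-!
# A criterion for the extension condition

An automorphism of order prime to `p` of a subgroup `Q` containing the strongly closed `T`, normal
in `S` and trivial modulo `T`, normalizes a `p`-group of automorphisms containing those induced by
`C_S(T)`. An extension to `T C_S(T)` moving `C_S(T)` only within `Q` is then trivial modulo `T`.
-/

set_option autoImplicit false

namespace CfsgLib.FusionComponents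

open Cfsg Cfsg.FusionSystem CfsgLib.Fusion CfsgLib.FusionClosed

variable {Ω : Type*} [Group Ω] {S T T' V Q : Subgroup Ω} {F : FusionSystem S} {p : ℕ}

/-- The automorphisms of `V` in `F` fixing `V ⊓ T` and trivial modulo `T`. -/
def fixMod (F : FusionSystem S) (T V : Subgroup Ω) : Subgroup (MulAut V) where
  carrier := {u | u ∈ F.autGroup V ∧ (∀ v : V, (v : Ω) ∈ T → u v = v) ∧
    ∀ v : V, (v : Ω)⁻¹ * (u v : Ω) ∈ T}
  one_mem' := ⟨one_mem _, fun _ _ => rfl, fun v => by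
    rw [MulAut.one_apply, inv_mul_cancel]; exact one_mem _⟩
  mul_mem' := fun {u w} ⟨hu, hu1, hu2⟩ ⟨hw, hw1, hw2⟩ =>
    ⟨mul_mem hu hw, fun v hv => by rw [MulAut.mul_apply, hw1 v hv, hu1 v hv], fun v => by
      have := T.mul_mem (hw2 v) (hu2 (w v))
      rwa [mul_assoc, mul_inv_cancel_left] at this⟩
  inv_mem' := fun {u} ⟨hu, hu1, hu2⟩ =>
    ⟨inv_mem hu, fun v hv => by conv_lhs => rw [← hu1 v hv, MulAut.inv_apply_self], fun v => by
      have := T.inv_mem (hu2 (u⁻¹ v))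
      rwa [MulAut.apply_inv_self, mul_inv_rev, inv_inv] at this⟩

theorem conj_mem_fixMod (hT : F.StronglyClosed T) (hV : V ≤ S) {k u : MulAut V}
    (hk : k ∈ F.autGroup V) (hu : u ∈ fixMod F T V) : k * u * k⁻¹ ∈ fixMod F T V := by
  obtain ⟨hu, hu1, hu2⟩ := hu
  have hpr : ∀ a ∈ F.autGroup V, ∀ v : V, (v : Ω) ∈ T → (a v : Ω) ∈ T := fun a ha v hv =>
    apply_mem_stronglyClosed hT ((mem_autGroup_iff hV).1 ha) hv
  refine ⟨mul_mem (mul_mem hk hu) (inv_mem hk), fun v hv => ?_, fun v => ?_⟩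
  · rw [MulAut.mul_apply, MulAut.mul_apply, hu1 _ (hpr _ (inv_mem hk) v hv),
      MulAut.apply_inv_self]
  · obtain ⟨w, rfl⟩ := k.surjective v
    show (k w : Ω)⁻¹ * (k (u (k⁻¹ (k w))) : Ω) ∈ T
    rw [MulAut.inv_apply_self, ← InvMemClass.coe_inv, ← Subgroup.coe_mul, ← map_inv, ← map_mul]
    exact hpr k hk _ (hu2 w)

theorem fixMod_isPGroup [Finite S] [Fact p.Prime] (hS : IsPGroup p S) (hV : V ≤ S) :
    IsPGroup p (fixMod F T V) := by
  have := finite_of_le hV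
  rintro ⟨u, hu, hu1, hu2⟩
  obtain ⟨i, hi⟩ := (hS.to_le hV).exists_card_eq
  exact ⟨i, Subtype.ext (FusionLayer.pow_eq_one_of_displacement (fun v => hu1 _ (hu2 v))
    fun v => by rw [← hi]; exact pow_card_eq_one')⟩

/-- A subgroup normal in `S` is fully normalized. -/
theorem fullyNormalized_of_normal [Finite S] (hQ : Q ≤ S)
    (hn : S ≤ Subgroup.normalizer (Q : Set Ω)) : F.IsFullyNormalized Q :=
  ⟨hQ, fun _ _ => by
    have := finite_of_le (normalizerIn_le S Q)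
    exact Subgroup.card_le_of_le fun x hx => ⟨hx.1, hn hx.1⟩⟩

/-- A normal `p`-subgroup of the automizer of a fully automized subgroup is induced by `S`. -/
theorem fixMod_le_autInducedBy [Finite S] [Fact p.Prime] (hS : IsPGroup p S)
    (hT : F.StronglyClosed T) (hQ : F.IsFullyAutomized p Q) :
    fixMod F T Q ≤ autInducedBy S Q := by
  obtain ⟨α, hα, hαc⟩ := exists_conj_autInducedBy hQ (X := fixMod F T Q) (fun u hu => hu.1)
    (fixMod_isPGroup (T := T) hS hQ.1)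
  intro u hu
  have := hαc _ (conj_mem_fixMod hT hQ.1 (inv_mem hα) hu)
  rwa [inv_inv, show α * (α⁻¹ * u * α) * α⁻¹ = u by group] at this

/-- An automorphism trivial modulo `T` normalizes a `p`-group of induced automorphisms. -/
theorem exists_modGroup [Finite S] [Fact p.Prime] (hS : IsPGroup p S) (hF : F.IsSaturated p)
    (hT : F.StronglyClosed T) (hQS : Q ≤ S) (hQn : S ≤ Subgroup.normalizer (Q : Set Ω))
    {g : MulAut Q} (hg : g ∈ F.autGroup Q) (hd : ∀ q : Q, (q : Ω)⁻¹ * (g q : Ω) ∈ T) :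
    ∃ X : Subgroup (MulAut Q), X ≤ autInducedBy S Q ∧ Inn Q ≤ X ∧
      (∀ x ∈ X, g * x * g⁻¹ ∈ X) ∧ autInducedBy (centralizerIn S T) Q ≤ X := by
  have hQa := (automized_receptive hS hF (fullyNormalized_of_normal hQS hQn)).1
  obtain ⟨X, hX⟩ : ∃ X, X = autInducedBy (centralizerIn S T) Q ⊔ Inn Q ⊔ fixMod F T Q :=
    ⟨_, rfl⟩
  have hCX : autInducedBy (centralizerIn S T) Q ≤ X := hX ▸ le_sup_left.trans le_sup_left
  refine ⟨X, ?_, hX ▸ le_sup_right.trans le_sup_left, ?_, hCX⟩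
  · rw [hX]
    refine sup_le (sup_le (autInducedBy_mono (centralizerIn_le S T) Q) ?_)
      (fixMod_le_autInducedBy hS hT hQa)
    rw [Inn_eq]
    exact autInducedBy_mono hQS Q
  have hpr : ∀ a ∈ F.autGroup Q, ∀ v : Q, (v : Ω) ∈ T → (a v : Ω) ∈ T := fun a ha v hv =>
    apply_mem_stronglyClosed hT ((mem_autGroup_iff hQS).1 ha) hv
  have hgd : ∀ q : Q, (q : Ω)⁻¹ * ((g⁻¹ q : Q) : Ω) ∈ T := fun q => by
    have := T.inv_mem (hd (g⁻¹ q))
    rwa [MulAut.apply_inv_self, mul_inv_rev, inv_inv] at this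
  have hle : X ≤ X.comap (MulAut.conj g).toMonoidHom := by
    conv_lhs => rw [hX]
    refine sup_le (sup_le (fun x hx => ?_) fun x hx => ?_) fun x hx => ?_
    · show g * x * g⁻¹ ∈ X
      obtain ⟨c, hc, hcn, hcv⟩ := mem_autInducedBy_iff.1 hx
      have hxT : ∀ v : Q, (v : Ω) ∈ T → x v = v := fun v hv => Subtype.ext (by
        rw [hcv, ← (mem_centralizerIn.1 hc).2 _ hv, mul_inv_cancel_right])
      have hxF : x ∈ F.autGroup Q :=
        autInducedBy_le_autGroup hQS (autInducedBy_mono (centralizerIn_le S T) Q hx)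
      have hu : x⁻¹ * g * x * g⁻¹ ∈ fixMod F T Q := by
        refine ⟨mul_mem (mul_mem (mul_mem (inv_mem hxF) hg) hxF) (inv_mem hg), fun v hv => ?_,
          fun v => ?_⟩
        · rw [MulAut.mul_apply, MulAut.mul_apply, MulAut.mul_apply,
            hxT _ (hpr _ (inv_mem hg) v hv), MulAut.apply_inv_self]
          conv_lhs => rw [← hxT v hv, MulAut.inv_apply_self]
        · obtain ⟨w, rfl⟩ := g.surjective v
          show (g w : Ω)⁻¹ * ((x⁻¹ (g (x (g⁻¹ (g w)))) : Q) : Ω) ∈ T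
          rw [MulAut.inv_apply_self]
          have h1 := hpr _ (inv_mem hxF) ((x w)⁻¹ * g (x w)) (hd (x w))
          rw [map_mul, map_inv, MulAut.inv_apply_self, Subgroup.coe_mul, InvMemClass.coe_inv] at h1
          have h2 := T.mul_mem (T.inv_mem (hd w)) h1
          rwa [mul_inv_rev, inv_inv, mul_assoc, mul_inv_cancel_left] at h2
      have := mul_mem (hCX hx) (hX ▸ Subgroup.mem_sup_right hu :
        x⁻¹ * g * x * g⁻¹ ∈ X)
      rwa [show x * (x⁻¹ * g * x * g⁻¹) = g * x * g⁻¹ by group] at this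
    · show g * x * g⁻¹ ∈ X
      rw [hX]
      exact Subgroup.mem_sup_left (Subgroup.mem_sup_right ((Inn_normal Q).conj_mem x hx g))
    · show g * x * g⁻¹ ∈ X
      rw [hX]
      exact Subgroup.mem_sup_right (conj_mem_fixMod hT hQS hg hx)
  exact fun x hx => hle hx

/-- An extension to `T C_S(T)` moving `C_S(T)` within `Q`, and `C_S(T) ∩ Q` within `T`, is
trivial. -/
theorem trivialExt_of_extension [Finite S] [Fact p.Prime] (hS : IsPGroup p S)
    (hT : F.StronglyClosed T) {α : MulAut T} {β : MulAut ↥(T ⊔ centralizerIn S T)}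
    (hβ : β ∈ F.autGroup (T ⊔ centralizerIn S T)) (hβp : (orderOf β).Coprime p)
    (hβT : Agrees le_sup_left α β)
    (hd₁ : ∀ c : ↥(T ⊔ centralizerIn S T), (c : Ω) ∈ centralizerIn S T →
      (c : Ω)⁻¹ * (β c : Ω) ∈ Q)
    (hd₂ : ∀ c : ↥(T ⊔ centralizerIn S T), (c : Ω) ∈ centralizerIn S T → (c : Ω) ∈ Q →
      (c : Ω)⁻¹ * (β c : Ω) ∈ T) : FusionLayer.TrivialExt F T α := by
  refine ⟨β, hβ, fun x => hβT x, fun c hc => ?_⟩
  have hWS : T ⊔ centralizerIn S T ≤ S := sup_le hT.1 (centralizerIn_le S T)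
  have hpres : ∀ w : ↥(T ⊔ centralizerIn S T), (w : Ω) ∈ T → (β w : Ω) ∈ T := fun w hw =>
    apply_mem_stronglyClosed hT ((mem_autGroup_iff hWS).1 hβ) hw
  have hβc := FusionNormal.apply_mem_centralizerIn hT.1 hpres
  have hdC : (c : Ω)⁻¹ * (β c : Ω) ∈ centralizerIn S T :=
    mul_mem (inv_mem hc) (hβc c hc)
  refine ⟨?_, hdC.2⟩
  have hTn : (T.subgroupOf (T ⊔ centralizerIn S T)).Normal :=
    Subgroup.normal_subgroupOf_of_le_normalizer (hWS.trans (stronglyClosed_le_normalizer hT))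
  have := finite_of_le hWS
  have := FusionLayer.displacement_mem (a := β) hβp hTn (fun x hx => hpres x hx) (x := c)
    (hd₂ (c⁻¹ * β c) hdC (hd₁ c hc)) ((hS.to_le hWS (c⁻¹ * β c)).imp fun k hk => hk)
  exact this

/-- The restriction to `T C_S(T)` of a map extending an automorphism of `T`. -/
theorem exists_aut_sup_centralizer [Finite S] (hT : F.StronglyClosed T)
    {ψ : V →* Ω} (hψ : ψ ∈ F.Hom V) (hV : T ⊔ centralizerIn S T ≤ V) :
    ∃ β ∈ F.autGroup (T ⊔ centralizerIn S T),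
      ∀ x : ↥(T ⊔ centralizerIn S T), (β x : Ω) = ψ ⟨x, hV x.2⟩ := by
  have hTV : T ≤ V := le_sup_left.trans hV
  have := finite_of_le hT.1
  obtain ⟨a, -, hav⟩ := exists_aut_restrict hψ hTV fun x hx =>
    apply_mem_stronglyClosed hT hψ (x := ⟨x, hTV hx⟩) hx
  refine exists_aut_restrict hψ hV fun x hx => forall_mem_sup (restrictHom ψ hV) le_sup_left
    le_sup_right (fun y hy => Subgroup.mem_sup_left (apply_mem_stronglyClosed hT hψ
      (x := ⟨y, hTV hy⟩) hy)) (fun y hy => ?_) hx hx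
  refine Subgroup.mem_sup_right (mem_centralizerIn.2 ⟨apply_mem hψ _, fun t ht => ?_⟩)
  obtain ⟨t₀, ht₀⟩ := a.surjective ⟨t, ht⟩
  have e : ψ ⟨t₀, hTV t₀.2⟩ = t := (hav t₀).symm.trans (congrArg Subtype.val ht₀)
  show t * ψ _ = ψ _ * t
  rw [← e, ← map_mul, ← map_mul]
  exact congrArg ψ (Subtype.ext ((mem_centralizerIn.1 hy).2 t₀ t₀.2))

/-- **A criterion for the extension condition.** -/
theorem trivialExt_of_fix [Finite S] [Fact p.Prime] (hS : IsPGroup p S) (hF : F.IsSaturated p)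
    (hT : F.StronglyClosed T) (hQS : Q ≤ S) (hQn : S ≤ Subgroup.normalizer (Q : Set Ω))
    (hTQ : T ≤ Q) (hT'Q : T' ≤ Q) (hT'n : S ≤ Subgroup.normalizer (T' : Set Ω))
    (hC : centralizerIn S T ⊓ centralizerIn S T' ≤ Q) {α : MulAut T} {g : MulAut Q}
    (hg : g ∈ F.autGroup Q) (hgp : (orderOf g).Coprime p) (hgα : Agrees hTQ α g)
    (hd : ∀ q : Q, (q : Ω)⁻¹ * (g q : Ω) ∈ T) (hfix : ∀ q : Q, (q : Ω) ∈ T' → g q = q) :
    FusionLayer.TrivialExt F T α := by
  have := finite_of_le hQS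
  obtain ⟨X, hXS, -, hgX, hCX⟩ := exists_modGroup hS hF hT hQS hQn hg hd
  obtain ⟨-, hQr⟩ := automized_receptive hS hF (fullyNormalized_of_normal (F := F) hQS hQn)
  obtain ⟨ψ, hψ, hψv⟩ := exists_extension (T := Q ⊔ centralizerIn S T) hQr
    ((mem_autGroup_iff hQS).1 hg) (sup_le (le_extender hQS fun x => hQS (g x).2) fun c hc => by
      refine mem_extender_of_congr ⟨hc.1, hQn hc.1⟩
        (α := Q.normalizerMonoidHom ⟨c, hQn hc.1⟩) (fun _ => rfl) ?_
      rw [congr_self_eq]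
      exact hXS (hgX _ (hCX (mem_autInducedBy_iff.2 ⟨c, hc, hQn hc.1, fun _ => rfl⟩))))
  have hWV : T ⊔ centralizerIn S T ≤ Q ⊔ centralizerIn S T := sup_le_sup_right hTQ _
  obtain ⟨β₁, hβ₁, hβ₁v⟩ := exists_aut_sup_centralizer hT hψ hWV
  have hWS : T ⊔ centralizerIn S T ≤ S := sup_le hT.1 (centralizerIn_le S T)
  have := finite_of_le hWS
  have := finite_mulAut (V := T ⊔ centralizerIn S T)
  obtain ⟨k, hkp, hk⟩ := FusionLayer.exists_coprime_pow hgp β₁
  have h1 : ∀ (n : ℕ) (x : ↥(T ⊔ centralizerIn S T)) (hx : (x : Ω) ∈ Q),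
      ((β₁ ^ n) x : Ω) = ((g ^ n) ⟨x, hx⟩ : Ω) := by
    intro n
    induction n with
    | zero => exact fun x hx => rfl
    | succ n ih =>
      intro x hx
      have e : (β₁ x : Ω) = (g ⟨x, hx⟩ : Ω) := (hβ₁v x).trans (hψv ⟨x, hx⟩ _)
      rw [pow_succ, pow_succ, MulAut.mul_apply, MulAut.mul_apply,
        ih (β₁ x) (e ▸ (g ⟨x, hx⟩).2)]
      exact congrArg (fun w : Q => ((g ^ n) w : Ω)) (Subtype.ext e)
  have hag : ∀ (x : ↥(T ⊔ centralizerIn S T)) (hx : (x : Ω) ∈ Q),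
      ((β₁ ^ k) x : Ω) = (g ⟨x, hx⟩ : Ω) := fun x hx => by rw [h1 k x hx, hk]
  refine trivialExt_of_extension (Q := Q) hS hT (pow_mem hβ₁ k) hkp
    (fun x => (hag _ (hTQ x.2)).trans (hgα x)) (fun c hc => hC ⟨?_, ?_⟩)
    fun c _ hcQ => by rw [hag c hcQ]; exact hd ⟨c, hcQ⟩
  · exact Subgroup.mul_mem _ (Subgroup.inv_mem _ hc) (FusionNormal.apply_mem_centralizerIn hT.1 (fun w hw =>
      apply_mem_stronglyClosed hT ((mem_autGroup_iff hWS).1 (pow_mem hβ₁ k)) hw) c hc)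
  -- `β` commutes with the action of `C_S(T)` on `T'`
  have hn : ∀ (n : ℕ) (c : ↥(T ⊔ centralizerIn S T)), (c : Ω) ∈ centralizerIn S T →
      ((β₁ ^ n) c : Ω) ∈ centralizerIn S T ∧
        (c : Ω)⁻¹ * ((β₁ ^ n) c : Ω) ∈ centralizerIn S T' := by
    intro n
    induction n with
    | zero => exact fun c hc => ⟨hc, by simp [one_mem]⟩
    | succ n ih =>
      intro c hc
      have hc' : (β₁ c : Ω) ∈ centralizerIn S T :=
        FusionNormal.apply_mem_centralizerIn hT.1 (fun w hw =>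
          apply_mem_stronglyClosed hT ((mem_autGroup_iff hWS).1 hβ₁) hw) c hc
      obtain ⟨h2, h3⟩ := ih (β₁ c) hc'
      rw [pow_succ, MulAut.mul_apply]
      refine ⟨h2, ?_⟩
      have h4 : (c : Ω)⁻¹ * (β₁ c : Ω) ∈ centralizerIn S T' := by
        refine mem_centralizerIn.2 ⟨S.mul_mem (S.inv_mem hc.1) hc'.1, fun t ht => ?_⟩
        have htQ : t ∈ Q := hT'Q ht
        have hct : (c : Ω) * t * (c : Ω)⁻¹ ∈ T' :=
          (Subgroup.mem_normalizer_iff.1 (hT'n hc.1) t).1 ht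
        obtain ⟨cv, hcv⟩ : ∃ cv : ↥(Q ⊔ centralizerIn S T), (cv : Ω) = c :=
          ⟨⟨c, Subgroup.mem_sup_right hc⟩, rfl⟩
        obtain ⟨tv, htv⟩ : ∃ tv : ↥(Q ⊔ centralizerIn S T), (tv : Ω) = t :=
          ⟨⟨t, Subgroup.mem_sup_left htQ⟩, rfl⟩
        have e1 : ψ tv = t := by
          rw [show tv = ⟨((⟨t, htQ⟩ : Q) : Ω), Subgroup.mem_sup_left htQ⟩ from Subtype.ext htv,
            hψv, hfix _ ht]
        have e2 : ψ (cv * tv * cv⁻¹) = (c : Ω) * t * (c : Ω)⁻¹ := by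
          rw [show cv * tv * cv⁻¹ = ⟨((⟨_, hT'Q hct⟩ : Q) : Ω),
            Subgroup.mem_sup_left (hT'Q hct)⟩ from Subtype.ext (by
              simp [hcv, htv]), hψv, hfix _ hct]
        have e3 : ψ cv = (β₁ c : Ω) := by
          rw [hβ₁v]; exact congrArg ψ (Subtype.ext hcv)
        rw [map_mul, map_mul, map_inv, e1, e3] at e2
        have e4 : (β₁ c : Ω) * t = (c : Ω) * t * (c : Ω)⁻¹ * (β₁ c : Ω) := by
          rw [← e2, inv_mul_cancel_right]
        calc t * ((c : Ω)⁻¹ * (β₁ c : Ω)) =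
            (c : Ω)⁻¹ * ((c : Ω) * t * (c : Ω)⁻¹ * (β₁ c : Ω)) := by group
          _ = (c : Ω)⁻¹ * (β₁ c : Ω) * t := by rw [← e4, mul_assoc]
      have := mul_mem h4 h3
      rwa [mul_assoc, mul_inv_cancel_left] at this
  exact (hn k c hc).2

end CfsgLib.FusionComponents
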