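import Cfsg.Agent.FusionComponents.CentralizerClosed
import Cfsg.Agent.FusionComponents.TrivExtMod
import Cfsg.Agent.Fusion.PPowerIndexNormal
import Cfsg.Agent.Fusion.PPowerIndex
import Cfsg.Agent.FusionLayer.Constrained
import Cfsg.Agent.FusionLayer.Residual.TrivialExt

/-!
# The centralizer of a normal subsystem

For `E` normal in `F` over `T` there is a normal subsystem over the largest subgroup of `C_S(T)`
centralized by `E`, contained in `C_F(T)`.
-/

set_option autoImplicit false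

namespace CfsgLib.FusionComponents

open Cfsg Cfsg.FusionSystem CfsgLib.Fusion CfsgLib.FusionClosed CfsgLib.FusionPIndex
open CfsgLib.PPowerIndexNormal

variable {Ω : Type*} [Group Ω] {S T Y : Subgroup Ω} {F : FusionSystem S} {E : FusionSystem T}
  {p : ℕ}

/-- The centralizer of a subgroup normal in `S` in another one is normal in `S`. -/
theorem le_normalizer_centralizerIn {A B : Subgroup Ω} [Finite A]
    (hA : S ≤ Subgroup.normalizer (A : Set Ω)) (hB : S ≤ Subgroup.normalizer (B : Set Ω)) :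
    S ≤ Subgroup.normalizer (centralizerIn A B : Set Ω) := by
  intro s hs
  have := finite_of_le (centralizerIn_le A B)
  refine SatCriterion.mem_normalizer_of_finite fun x hx => mem_centralizerIn.2
    ⟨(Subgroup.mem_normalizer_iff.1 (hA hs) x).1 hx.1, fun b hb => ?_⟩
  have h := (mem_centralizerIn.1 hx).2 _ ((Subgroup.mem_normalizer_iff''.1 (hB hs) b).1 hb)
  calc b * (s * x * s⁻¹) = s * ((s⁻¹ * b * s) * x) * s⁻¹ := by group
    _ = s * x * s⁻¹ * b := by rw [h]; group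

/-- Two subgroups normalized by `S` have a normalized join. -/
theorem le_normalizer_sup [Finite S] {A B : Subgroup Ω} (hAS : A ≤ S) (hBS : B ≤ S)
    (hA : S ≤ Subgroup.normalizer (A : Set Ω)) (hB : S ≤ Subgroup.normalizer (B : Set Ω)) :
    S ≤ Subgroup.normalizer ((A ⊔ B : Subgroup Ω) : Set Ω) := by
  intro s hs
  have := finite_of_le (sup_le hAS hBS)
  have hle : A ⊔ B ≤ (A ⊔ B).comap (MulAut.conj s).toMonoidHom := sup_le
    (fun x hx => Subgroup.mem_sup_left ((Subgroup.mem_normalizer_iff.1 (hA hs) x).1 hx))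
    fun x hx => Subgroup.mem_sup_right ((Subgroup.mem_normalizer_iff.1 (hB hs) x).1 hx)
  exact SatCriterion.mem_normalizer_of_finite fun x hx => hle hx

/-- It suffices to check the extension condition on automorphisms of order prime to `p`. -/
theorem trivialExt_of_coprime_parts [Finite S] [Fact p.Prime] (hS : IsPGroup p S)
    (hT : F.StronglyClosed T) (hE : E.IsSaturated p)
    (h : ∀ α ∈ E.autGroup T, (orderOf α).Coprime p → FusionLayer.TrivialExt F T α)
    {α : MulAut T} (hα : α ∈ E.autGroup T) : FusionLayer.TrivialExt F T α := by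
  have hTS := hT.1
  have := finite_of_le hTS
  have := finite_mulAut (V := T)
  obtain ⟨a₁, a₂, ha₁, ha₂, ⟨k, hk⟩, ha₂p, h12⟩ := LocalStructure.exists_pPart_mul (p := p) α
  have ha₁E : a₁ ∈ E.autGroup T := Subgroup.zpowers_le.2 hα ha₁
  have ha₂E : a₂ ∈ E.autGroup T := Subgroup.zpowers_le.2 hα ha₂
  obtain ⟨γ, -, hγc⟩ := exists_conj_autInducedBy
    (automized_receptive (hS.to_le hTS) hE (isFullyNormalized_self (F := E))).1
    (X := Subgroup.zpowers a₁) (Subgroup.zpowers_le.2 ha₁E)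
    (isPGroup_zpowers_of_pow_eq_one (k := k) (by rw [← hk, pow_orderOf_eq_one]))
  have hinn : a₁ ∈ autInducedBy T T := by
    rw [← Inn_eq]
    have h1 := hγc _ (Subgroup.mem_zpowers a₁)
    rw [← Inn_eq] at h1
    have := (Inn_normal T).conj_mem _ h1 γ⁻¹
    rwa [show γ⁻¹ * (γ * a₁ * γ⁻¹) * γ⁻¹⁻¹ = a₁ by group] at this
  obtain ⟨t, ht, htN, htv⟩ := mem_autInducedBy_iff.1 hinn
  have h1 : FusionLayer.TrivialExt F T a₁ := by
    rw [show a₁ = T.normalizerMonoidHom ⟨t, htN⟩ from MulEquiv.ext fun x => Subtype.ext (htv x)]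
    exact FusionLayer.trivialExt_conj_of_mem hT le_rfl inf_le_left ht htN
  rw [← h12]
  exact h1.mul hTS (h a₂ ha₂E ha₂p)

/-- The normal subsystem over the centralizer of a normal subsystem, normal also in the
centralizer system. -/
theorem exists_normal_centralizer' [Finite S] [Fact p.Prime] (hS : IsPGroup p S)
    (hE : E.IsNormalIn F p) (hY : Y ≤ centralizerIn S T)
    (hEY : ∀ P, E.Hom P ⊆ F.centralizerHom Y P)
    (hmax : ∀ Y' : Subgroup Ω, Y' ≤ centralizerIn S T →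
      (∀ P, E.Hom P ⊆ F.centralizerHom Y' P) → Y' ≤ Y) :
    ∃ D : FusionSystem Y, D.IsNormalIn F p ∧ (∀ P, D.Hom P ⊆ F.centralizerHom T P) ∧
      ∀ C : FusionSystem (centralizerIn S T), F.IsCentralizerSystem T C → D.IsNormalIn C p := by
  classical
  have hF := hE.1.2.1
  have hinv := hE.1.2.2
  have hT := hinv.2.1
  have hTS := hT.1
  have := finite_of_le hTS
  have hgood := @good_of_mem Ω _ S T Y F E p _ _ hS hF hinv hY hEY hmax
  have hYS : Y ≤ S := hY.trans (centralizerIn_le S T)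
  have := finite_of_le hYS
  have := finite_mulAut (V := Y)
  have hYsc : F.StronglyClosed Y := ⟨hYS, fun R hR φ hφ x => ((hgood hφ).1 x).2 (hR x.2)⟩
  obtain ⟨C, hC⟩ := exists_isCentralizerSystem F hTS
  have hCs := isSaturated_centralizerSystem hS hF
    (FusionLayer.isFullyCentralized_of_stronglyClosed hT) hC
  have hCS : centralizerIn S T ≤ S := centralizerIn_le S T
  have := finite_of_le hCS
  have hCp : IsPGroup p (centralizerIn S T) := hS.to_le hCS
  have hfoc : C.focalSubgroup ≤ Y := hmax _ ((Subgroup.closure_le _).2 fun _ ⟨P, φ, x, hφ, hy⟩ =>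
      hy ▸ Subgroup.mul_mem _ (Subgroup.inv_mem _ (le_left hφ x.2)) (apply_mem hφ x))
    (FusionNormal.subset_centralizerHom_focal hS hF hE hC)
  have hhyp : C.hyperfocalSubgroup p ≤ Y := by
    refine le_trans ((Subgroup.closure_le _).2 ?_) hfoc
    rintro _ ⟨P, α, x, hP, -, rfl⟩
    exact Subgroup.subset_closure ⟨P, _, x, (mem_autGroup_iff hP).1 α.2, rfl⟩
  obtain ⟨D, hDs, hDi⟩ := PPowerIndex.exists_pPowerIndex (p := p) _ hCp C hCs Y hY hhyp
    (Nat.le_add_left _ _)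
  have hDC : D.IsNormalIn C p := isNormalIn_of_pPowerIndex hCp hCs hY
    (fun s hs t ht => FusionFactor.conj_mem_of_stronglyClosed hYsc (hCS hs) ht) hDs hDi
  have hDcen : ∀ P, D.Hom P ⊆ F.centralizerHom T P := fun P φ h => by
    rw [← hC P]
    exact hDi.1 P h
  have hDF : D.IsSubsystemOf F := fun P φ h => (hDcen P h).1
  -- invariance
  have hai : AutInvariant D F := by
    intro P hPY φ hφ α hα
    obtain ⟨-, χ, hχ, hχv⟩ := hgood ((mem_autGroup_iff hYS).1 hα)
    have hαv : ∀ (y : Ω) (hy : y ∈ Y),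
        χ ⟨y, Subgroup.mem_sup_left ⟨hy, hy⟩⟩ = (α ⟨y, hy⟩ : Ω) := fun y hy => hχv y ⟨hy, hy⟩
    have hsub : D.IsSubsystemOf (transport D α) := by
      refine isSubsystemOf_of_pResidual (hS.to_le hYS) hDs le_rfl fun Q hQ => ?_
      rintro β hβ
      obtain ⟨γ, hγ, rfl⟩ := pResidual_autGroup_mono hDi.1 hQ hβ
      have := finite_of_le (hQ.trans hYS)
      obtain ⟨e, he, hev⟩ : ∃ e : Q ≃* img α Q, IsIso F e ∧
          ∀ x : Q, (e x : Ω) = (α ⟨x, hQ x.2⟩ : Ω) :=
        exists_iso_restrict ((mem_autGroup_iff hYS).1 hα) hQ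
      have himgY : img α Q ≤ Y := by
        rintro _ ⟨z, -, rfl⟩
        exact (α z).2
      have himgC : img α Q ≤ centralizerIn S T := himgY.trans hY
      have key : ∀ c ∈ C.autGroup Q, MulAut.congr e c ∈ C.autGroup (img α Q) := by
        intro c hc
        have hcm := (mem_autGroup_iff (hQ.trans hY)).1 hc
        rw [IsIso, hC Q] at hcm
        obtain ⟨hcF, -, -, ω, hω, hω1, hω2⟩ := hcm
        obtain ⟨W, hW⟩ : ∃ W, W = Q ⊔ T := ⟨_, rfl⟩
        have hWY : W ≤ (Y ⊓ Y) ⊔ T := hW ▸ sup_le_sup_right (le_inf hQ hQ) T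
        have hWS := hWY.trans (sup_le (inf_le_left.trans hYS) hTS)
        have := finite_of_le hWS
        obtain ⟨ω', hω', hω'v⟩ := exists_aut_restrict hω (P := W) hW.le fun w hw =>
          forall_mem_sup (restrictHom ω hW.le) (show Q ≤ W from hW ▸ le_sup_left)
            (show T ≤ W from hW ▸ le_sup_right)
            (fun y hy => by
              show ω (Subgroup.inclusion le_sup_left (⟨y, hy⟩ : Q)) ∈ W
              rw [hω1]; exact hW ▸ Subgroup.mem_sup_left (c _).2)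
            (fun y hy => by
              show ω (Subgroup.inclusion le_sup_right (⟨y, hy⟩ : T)) ∈ W
              rw [hω2]; exact hW ▸ Subgroup.mem_sup_right hy) hw (hW ▸ hw)
        obtain ⟨e', he', he'v⟩ := exists_iso_restrict hχ hWY
        refine (mem_autGroup_iff himgC).2 ?_
        rw [IsIso, hC (img α Q)]
        have hcF' : MulAut.congr e c ∈ F.autGroup (img α Q) :=
          congr_mem_autGroup he ((mem_autGroup_iff (hQ.trans hYS)).2 hcF)
        have hle : img α Q ⊔ T ≤ imgHom χ W := by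
          refine sup_le ?_ fun t ht => ?_
          · rintro _ ⟨z, hz, rfl⟩
            exact ⟨⟨z, Subgroup.mem_sup_left ⟨z.2, z.2⟩⟩, hW ▸ Subgroup.mem_sup_left hz,
              hαv z z.2⟩
          · obtain ⟨a, -, hav⟩ := exists_aut_restrict hχ (le_sup_right : T ≤ (Y ⊓ Y) ⊔ T)
              fun x hx => apply_mem_stronglyClosed hT hχ (x := ⟨x, Subgroup.mem_sup_right hx⟩) hx
            obtain ⟨t₀, ht₀⟩ := a.surjective ⟨t, ht⟩
            exact ⟨⟨t₀, Subgroup.mem_sup_right t₀.2⟩, hW ▸ Subgroup.mem_sup_right t₀.2,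
              (hav t₀).symm.trans (congrArg Subtype.val ht₀)⟩
        have hWimgS : imgHom χ W ≤ S := imgHom_le hχ W
        refine ⟨(mem_autGroup_iff (himgY.trans hYS)).1 hcF', himgC, fun x => himgC (Subtype.mem _),
          restrictHom ((imgHom χ W).subtype.comp (MulAut.congr e' ω').toMonoidHom) hle,
          restrict_mem ((mem_autGroup_iff hWimgS).1
            (congr_mem_autGroup he' hω')) hle, fun x => ?_, fun t => ?_⟩
        · obtain ⟨q, rfl⟩ := e.surjective x
          obtain ⟨w, hw⟩ : ∃ w : W, (w : Ω) = q := ⟨⟨q, hW ▸ Subgroup.mem_sup_left q.2⟩, rfl⟩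
          have hew : (e' w : Ω) = (e q : Ω) := by
            rw [he'v, hev, ← hαv q (hQ q.2)]
            exact congrArg χ (Subtype.ext hw)
          show (MulAut.congr e' ω' ⟨(e q : Ω), _⟩ : Ω) = ((MulAut.congr e c) (e q) : Ω)
          rw [show (⟨(e q : Ω), hle (Subgroup.mem_sup_left (e q).2)⟩ : imgHom χ W) = e' w from
            Subtype.ext hew.symm, congr_apply, congr_apply, he'v, hev, ← hαv _ (hQ (c q).2)]
          refine congrArg χ (Subtype.ext ?_)
          show (ω' w : Ω) = (c q : Ω)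
          rw [hω'v]
          exact (congrArg ω (Subtype.ext hw)).trans (hω1 q)
        · obtain ⟨v, hv, hvt⟩ := hle (Subgroup.mem_sup_right t.2)
          have hvT : (v : Ω) ∈ T := by
            obtain ⟨a, -, hav⟩ := exists_aut_restrict hχ (le_sup_right : T ≤ (Y ⊓ Y) ⊔ T)
              fun x hx => apply_mem_stronglyClosed hT hχ (x := ⟨x, Subgroup.mem_sup_right hx⟩) hx
            obtain ⟨t₀, ht₀⟩ := a.surjective t
            have h0 : χ ⟨t₀, Subgroup.mem_sup_right t₀.2⟩ = (t : Ω) :=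
              (hav t₀).symm.trans (congrArg Subtype.val ht₀)
            rw [show (v : Ω) = t₀ from congrArg Subtype.val
              (F.injective_of_mem hχ (hvt.trans h0.symm))]
            exact t₀.2
          have hev' : (e' ⟨(v : Ω), hv⟩ : Ω) = t := (he'v _).trans hvt
          show (MulAut.congr e' ω' ⟨(t : Ω), _⟩ : Ω) = t
          rw [show (⟨(t : Ω), hle (Subgroup.mem_sup_right t.2)⟩ : imgHom χ W) = e' ⟨(v : Ω), hv⟩
            from Subtype.ext hev'.symm, congr_apply,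
            show ω' ⟨(v : Ω), hv⟩ = ⟨(v : Ω), hv⟩ from
              Subtype.ext ((hω'v _).trans (hω2 ⟨v, hvT⟩))]
          exact hev'
      let f : C.autGroup Q →* C.autGroup (img α Q) :=
        { toFun := fun β => ⟨MulAut.congr e β, key β β.2⟩
          map_one' := Subtype.ext (map_one _)
          map_mul' := fun a b => Subtype.ext (map_mul _ _ _) }
      have hmem : MulAut.congr e (γ : MulAut Q) ∈ D.autGroup (img α Q) := hDi.2.2 _ himgY
        ⟨f γ, CfsgLib.Transfer.map_pResidual_le f ⟨γ, hγ, rfl⟩, rfl⟩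
      refine IsIso.mem_autGroup ⟨hQ, fun x => hQ ((γ : MulAut Q) x).2,
        (img α Q).subtype.comp (MulAut.congr e (γ : MulAut Q)).toMonoidHom,
        (mem_autGroup_iff himgY).1 hmem, fun x h => ?_⟩
      show ((MulAut.congr e (γ : MulAut Q)) ⟨_, h⟩ : Ω) = _
      rw [show (⟨(α ⟨x, hQ x.2⟩ : Ω), h⟩ : img α Q) = e x from Subtype.ext (hev x).symm,
        congr_apply, hev]
      rfl
    obtain ⟨_, hv, χ', hχ', hχ'v⟩ := hsub P hφ
    exact ⟨χ', hχ', fun x hφx hαx => hχ'v x hαx⟩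
  refine ⟨D, ⟨⟨hDs, hF, hDF, hYsc, hai, fun P hP φ hφ => ?_⟩, fun α hα => ?_⟩, hDcen,
    fun C' hC' => fusionSystem_ext (fun P => (hC P).trans (hC' P).symm) ▸ hDC⟩
  · -- the Frattini condition
    obtain ⟨hpres, χ, hχ, hχv⟩ := hgood hφ
    have hTW : T ≤ (P ⊓ Y) ⊔ T := le_sup_right
    have hχT : ∀ x (hx : x ∈ T), χ ⟨x, hTW hx⟩ ∈ T := fun x hx =>
      apply_mem_stronglyClosed hT hχ (x := ⟨x, hTW hx⟩) hx
    obtain ⟨a, ha, hav⟩ := exists_aut_restrict hχ hTW hχT
    obtain ⟨β, hβ, hβa, -⟩ := FusionLayer.exists_ext_centralizer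
      (automized_receptive hS hF (FusionLayer.isFullyNormalized_of_stronglyClosed hT)).2 ha
    have hTC : T ⊔ centralizerIn S T ≤ S := sup_le hTS hCS
    have := finite_of_le hTC
    have hβI := (mem_autGroup_iff hTC).1 hβ
    have hYW : Y ≤ T ⊔ centralizerIn S T := hY.trans le_sup_right
    obtain ⟨b, hb, hbv⟩ := exists_aut_restrict hβI hYW fun x hx =>
      apply_mem_stronglyClosed hYsc hβI (x := ⟨x, hYW hx⟩) hx
    -- `b⁻¹ φ` centralizes `T`
    obtain ⟨ω, hω⟩ : ∃ ω, ω = (T ⊔ centralizerIn S T).subtype.comp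
        (β⁻¹ : MulAut ↥(T ⊔ centralizerIn S T)).toMonoidHom := ⟨_, rfl⟩
    have hωm : ω ∈ F.Hom _ := hω ▸ (mem_autGroup_iff hTC).1 (inv_mem hβ)
    have hφY : ∀ x : P, φ x ∈ Y := fun x => (hpres x).2 (hP x.2)
    have hχW : ∀ z, χ z ∈ T ⊔ centralizerIn S T := fun z => forall_mem_sup χ le_sup_left
      le_sup_right (fun y hy => Subgroup.mem_sup_right (by
        rw [hχv y hy]; exact hY (hφY _))) (fun y hy => Subgroup.mem_sup_left (hχT y hy)) z.2 z.2
    have hle : P ⊔ T ≤ (P ⊓ Y) ⊔ T := sup_le_sup_right (le_inf le_rfl hP) T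
    obtain ⟨ψ, hψ, hψv⟩ : ∃ ψ ∈ F.Hom (P ⊔ T), ∀ z, ψ z =
        ((β⁻¹ ⟨χ ⟨z, hle z.2⟩, hχW _⟩ : ↥(T ⊔ centralizerIn S T)) : Ω) :=
      ⟨_, F.comp_mem (restrict_mem hχ hle) hωm fun z => hχW _, fun z => by rw [hω]; rfl⟩
    obtain ⟨φ₁, hφ₁v⟩ : ∃ φ₁ : P →* Ω, ∀ x, φ₁ x = (b⁻¹ ⟨φ x, hφY x⟩ : Ω) :=
      ⟨(Y.subtype.comp (b⁻¹ : MulAut Y).toMonoidHom).comp (φ.codRestrict Y hφY), fun _ => rfl⟩
    have hag : Agrees hYW b β := fun y => (hbv y).symm
    have hψP : ∀ x : P, ψ (Subgroup.inclusion le_sup_left x) = φ₁ x := fun x => by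
      rw [hψv, hφ₁v, ← hag.inv]
      exact congrArg (fun w => ((β⁻¹ w : ↥(T ⊔ centralizerIn S T)) : Ω))
        (Subtype.ext (hχv x ⟨x.2, hP x.2⟩))
    have hψT : ∀ t : T, ψ (Subgroup.inclusion le_sup_right t) = t := fun t => by
      rw [hψv]
      have e : (⟨χ ⟨t, hle (Subgroup.mem_sup_right t.2)⟩, hχW _⟩ : ↥(T ⊔ centralizerIn S T)) =
          β (Subgroup.inclusion le_sup_left t) := Subtype.ext ((hav t).symm.trans (hβa t).symm)
      rw [show (⟨χ ⟨(Subgroup.inclusion (le_sup_right : T ≤ P ⊔ T) t : Ω), _⟩, _⟩ :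
          ↥(T ⊔ centralizerIn S T)) = β (Subgroup.inclusion le_sup_left t) from e,
        MulAut.inv_apply_self]
      rfl
    have hφ₁F : φ₁ ∈ F.Hom P := mem_of_agree hψ le_sup_left fun x => (hψP x).symm
    have hφ₁C : φ₁ ∈ C.Hom P := by
      rw [hC P]
      exact ⟨hφ₁F, hP.trans hY, fun x => hφ₁v x ▸ hY (Subtype.mem _), ψ, hψ, hψP, hψT⟩
    obtain ⟨α₀, hα₀, φ₀, hφ₀, hv⟩ := hDC.1.2.2.2.2.2 P hP φ₁ hφ₁C
    have hα₀F : α₀ ∈ F.autGroup Y := by
      have h := (mem_autGroup_iff hY).1 hα₀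
      rw [IsIso, hC Y] at h
      exact (mem_autGroup_iff hYS).2 h.1
    refine ⟨b * α₀, mul_mem hb hα₀F, φ₀, hφ₀, fun x hx => ?_⟩
    rw [MulAut.mul_apply, ← show b⁻¹ ⟨φ x, hφY x⟩ = α₀ ⟨φ₀ x, hx⟩ from
      Subtype.ext ((hφ₁v x).symm.trans (hv x hx)), MulAut.apply_inv_self]
  · -- the extension condition
    refine trivialExt_of_coprime_parts hS hYsc hDs (fun α hα hαp => ?_) hα
    obtain ⟨β₀, hβ₀, hβ₀Y, hβ₀C⟩ := hDC.2 α hα
    obtain ⟨W₀, hW₀⟩ : ∃ W₀, W₀ = Y ⊔ centralizerIn (centralizerIn S T) Y := ⟨_, rfl⟩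
    have hW₀C : W₀ ≤ centralizerIn S T := hW₀ ▸ sup_le hY (centralizerIn_le _ Y)
    subst hW₀
    have hm := (mem_autGroup_iff hW₀C).1 hβ₀
    rw [IsIso, hC] at hm
    obtain ⟨-, -, -, ω, hω, hω1, hω2⟩ := hm
    obtain ⟨Q, hQ⟩ : ∃ Q, Q = (Y ⊔ centralizerIn (centralizerIn S T) Y) ⊔ T := ⟨_, rfl⟩
    subst hQ
    have hQS : (Y ⊔ centralizerIn (centralizerIn S T) Y) ⊔ T ≤ S :=
      sup_le (hW₀C.trans hCS) hTS
    have := finite_of_le hQS
    have := finite_mulAut (V := (Y ⊔ centralizerIn (centralizerIn S T) Y) ⊔ T)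
    obtain ⟨g₁, hg₁, hg₁v⟩ := exists_aut_restrict hω le_rfl fun x hx =>
      forall_mem_sup ω le_sup_left le_sup_right
        (fun y hy => by
          rw [show (⟨y, _⟩ : ↥((Y ⊔ centralizerIn (centralizerIn S T) Y) ⊔ T)) =
            Subgroup.inclusion le_sup_left (⟨y, hy⟩ :
              ↥(Y ⊔ centralizerIn (centralizerIn S T) Y)) from rfl, hω1]
          exact Subgroup.mem_sup_left (Subtype.mem _))
        (fun y hy => by
          rw [show (⟨y, _⟩ : ↥((Y ⊔ centralizerIn (centralizerIn S T) Y) ⊔ T)) =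
            Subgroup.inclusion le_sup_right (⟨y, hy⟩ : T) from rfl, hω2]
          exact Subgroup.mem_sup_right hy) hx hx
    obtain ⟨k, hkp, hk⟩ := FusionLayer.exists_coprime_pow hαp g₁
    have hYQ : Y ≤ (Y ⊔ centralizerIn (centralizerIn S T) Y) ⊔ T := le_sup_left.trans le_sup_left
    have hag : Agrees hYQ α g₁ := fun y => by
      rw [hg₁v]
      exact (hω1 (Subgroup.inclusion le_sup_left y)).trans (hβ₀Y y)
    have hTn := stronglyClosed_le_normalizer hT
    have hYn := stronglyClosed_le_normalizer hYsc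
    have hCn : S ≤ Subgroup.normalizer (centralizerIn S T : Set Ω) :=
      le_normalizer_centralizerIn Subgroup.le_normalizer hTn
    have hC₁n := le_normalizer_centralizerIn hCn hYn
    have hQn := le_normalizer_sup (hW₀C.trans hCS) hTS
      (le_normalizer_sup hYS ((centralizerIn_le _ Y).trans hCS) hYn hC₁n) hTn
    -- `g₁` is trivial modulo `Y`
    have hd₁ : ∀ q : ↥((Y ⊔ centralizerIn (centralizerIn S T) Y) ⊔ T),
        (q : Ω)⁻¹ * (g₁ q : Ω) ∈ Y := by
      intro q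
      obtain ⟨t, ht, w, hw, htw⟩ := FusionLayer.exists_mul_of_mem_sup
        ((hW₀C.trans hCS).trans hTn) (sup_comm _ T ▸ q.2 :
          (q : Ω) ∈ T ⊔ (Y ⊔ centralizerIn (centralizerIn S T) Y))
      obtain ⟨y, hy, c, hc, hyc⟩ := FusionLayer.exists_mul_of_mem_sup
        (((centralizerIn_le _ Y).trans hCS).trans hYn) hw
      have e1 : (g₁ ⟨t, Subgroup.mem_sup_right ht⟩ : Ω) = t := by
        rw [hg₁v]; exact hω2 ⟨t, ht⟩
      have e2 : (g₁ ⟨y, hYQ hy⟩ : Ω) ∈ Y := by rw [hag ⟨y, hy⟩]; exact (α _).2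
      have e3 : c⁻¹ * (g₁ ⟨c, Subgroup.mem_sup_left (Subgroup.mem_sup_right hc)⟩ : Ω) ∈ Y := by
        rw [hg₁v]
        have h1 := hω1 ⟨c, Subgroup.mem_sup_right hc⟩
        exact (congrArg (fun z => c⁻¹ * z ∈ Y) h1).mpr
          (hβ₀C ⟨c, Subgroup.mem_sup_right hc⟩ hc).1
      rw [show q = ⟨t, Subgroup.mem_sup_right ht⟩ * (⟨y, hYQ hy⟩ *
        ⟨c, Subgroup.mem_sup_left (Subgroup.mem_sup_right hc)⟩) from
          Subtype.ext (by simp [hyc, htw]), map_mul, map_mul]
      simp only [Subgroup.coe_mul, e1]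
      rw [show (t * (y * c))⁻¹ * (t * ((g₁ ⟨y, hYQ hy⟩ : Ω) *
          (g₁ ⟨c, Subgroup.mem_sup_left (Subgroup.mem_sup_right hc)⟩ : Ω))) =
        c⁻¹ * (y⁻¹ * (g₁ ⟨y, hYQ hy⟩ : Ω)) * c *
          (c⁻¹ * (g₁ ⟨c, Subgroup.mem_sup_left (Subgroup.mem_sup_right hc)⟩ : Ω)) by group]
      exact Y.mul_mem ((Subgroup.mem_normalizer_iff''.1 (hYn ((hCS hc.1))) _).1
        (Y.mul_mem (Y.inv_mem hy) e2)) e3
    have hd : ∀ (n : ℕ) (q : ↥((Y ⊔ centralizerIn (centralizerIn S T) Y) ⊔ T)),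
        (q : Ω)⁻¹ * ((g₁ ^ n) q : Ω) ∈ Y := by
      intro n
      induction n with
      | zero => exact fun q => by simp [Y.one_mem]
      | succ n ih =>
        intro q
        have := Y.mul_mem (hd₁ q) (ih (g₁ q))
        rwa [mul_assoc, mul_inv_cancel_left, ← MulAut.mul_apply, ← pow_succ] at this
    refine trivialExt_of_fix hS hF hYsc hQS hQn hYQ le_sup_right hTn (fun x hx => ?_)
      (pow_mem hg₁ k) hkp (hk ▸ hag.pow k) (hd k) fun q hq => ?_
    · exact Subgroup.mem_sup_left (Subgroup.mem_sup_right ⟨hx.2, hx.1.2⟩)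
    · have h1 : g₁ q = q := Subtype.ext ((hg₁v q).trans (hω2 ⟨q, hq⟩))
      clear hkp hk
      induction k with
      | zero => rfl
      | succ k ih => rw [pow_succ, MulAut.mul_apply, h1, ih]

/-- **The normal subsystem over the centralizer of a normal subsystem.** -/
theorem exists_normal_centralizer [Finite S] [Fact p.Prime] (hS : IsPGroup p S)
    (hE : E.IsNormalIn F p) (hY : Y ≤ centralizerIn S T)
    (hEY : ∀ P, E.Hom P ⊆ F.centralizerHom Y P)
    (hmax : ∀ Y' : Subgroup Ω, Y' ≤ centralizerIn S T →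
      (∀ P, E.Hom P ⊆ F.centralizerHom Y' P) → Y' ≤ Y) :
    ∃ D : FusionSystem Y, D.IsNormalIn F p ∧ ∀ P, D.Hom P ⊆ F.centralizerHom T P := by
  obtain ⟨D, hD, hDT, -⟩ := exists_normal_centralizer' hS hE hY hEY hmax
  exact ⟨D, hD, hDT⟩

end CfsgLib.FusionComponents
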