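import Cfsg.Agent.FusionComponents.TrivExtMod
import Cfsg.Agent.FusionComponents.NormalCentralizer

/-!
# Invariant normal subsystems of normal subsystems

A normal subsystem `L` of a normal subsystem `M` of `F` invariant under the automorphisms in `F` of
the subgroup under `M` is normal in `F`.
-/

set_option autoImplicit false

namespace CfsgLib.FusionComponents

open Cfsg Cfsg.FusionSystem CfsgLib.Fusion CfsgLib.FusionClosed

variable {Ω : Type*} [Group Ω] {S T U : Subgroup Ω} {F : FusionSystem S} {M : FusionSystem T}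
  {L : FusionSystem U} {p : ℕ}

/-- **Invariant normal subsystems of normal subsystems are normal.** -/
theorem isNormalIn_of_invariant_normal [Finite S] [Fact p.Prime] (hS : IsPGroup p S)
    (hM : M.IsNormalIn F p) (hL : L.IsNormalIn M p)
    (hstab : ∀ α ∈ F.autGroup T, ∀ x : T, (x : Ω) ∈ U → (α x : Ω) ∈ U)
    (hmaps : ∀ α ∈ F.autGroup T, ∀ (P : Subgroup Ω) (hPT : P ≤ T) (φ : P →* Ω), φ ∈ L.Hom P →
      ∃ χ ∈ L.Hom ((P.subgroupOf T).map (T.subtype.comp α.toMonoidHom)),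
        ∀ (x : P) (hφx : φ x ∈ T)
          (hαx : (α ⟨x, hPT x.2⟩ : Ω) ∈ (P.subgroupOf T).map (T.subtype.comp α.toMonoidHom)),
          χ ⟨(α ⟨x, hPT x.2⟩ : Ω), hαx⟩ = (α ⟨φ x, hφx⟩ : Ω)) :
    L.IsNormalIn F p := by
  classical
  obtain ⟨⟨hMs, hF, hMF, hT, hMai, hMfr⟩, -⟩ := id hM
  obtain ⟨⟨hLs, -, hLM, hUM, hLai, hLfr⟩, hLext⟩ := id hL
  have hTS := hT.1
  have hUT := hUM.1
  have hUS := hUT.trans hTS
  have := finite_of_le hTS
  have := finite_of_le hUS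
  have := finite_mulAut (V := U)
  have hUsc : F.StronglyClosed U := by
    refine ⟨hUS, fun R hR φ hφ x => ?_⟩
    obtain ⟨a, ha, m, hm, hv⟩ := hMfr R (hR.trans hUT) φ hφ
    rw [hv x (apply_mem hm x)]
    exact hstab a ha _ (hUM.2 R hR m hm x)
  have hres : ∀ a ∈ F.autGroup T, ∃ b ∈ F.autGroup U, ∀ x : U,
      (b x : Ω) = (a ⟨x, hUT x.2⟩ : Ω) := fun a ha =>
    exists_aut_restrict ((mem_autGroup_iff hTS).1 ha) hUT fun x hx => hstab a ha ⟨x, hUT hx⟩ hx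
  have hai : AutInvariant L F := by
    intro P hPU φ hφ α hα
    obtain ⟨a, ha, m, hm, hv⟩ := hMfr U hUT _ ((mem_autGroup_iff hUS).1 hα)
    obtain ⟨mU, hmU, hmUv⟩ := exists_aut_restrict hm le_rfl fun x hx =>
      hUM.2 U le_rfl m hm ⟨x, hx⟩
    have hcomp : ∀ u : U, (α u : Ω) = (a ⟨mU u, hUT (mU u).2⟩ : Ω) := fun u =>
      (hv u (apply_mem hm u)).trans
        (congrArg (fun w : T => (a w : Ω)) (Subtype.ext (hmUv u).symm))
    obtain ⟨χ₁, hχ₁, hχ₁v⟩ := hLai P hPU φ hφ mU hmU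
    have hP₁T : (P.subgroupOf U).map (U.subtype.comp mU.toMonoidHom) ≤ T :=
      (le_left hχ₁).trans hUT
    obtain ⟨χ₂, hχ₂, hχ₂v⟩ := hmaps a ha _ hP₁T χ₁ hχ₁
    have hle : (P.subgroupOf U).map (U.subtype.comp α.toMonoidHom) ≤
        (((P.subgroupOf U).map (U.subtype.comp mU.toMonoidHom)).subgroupOf T).map
          (T.subtype.comp a.toMonoidHom) := by
      rintro _ ⟨u, hu, rfl⟩
      exact ⟨⟨mU u, hUT (mU u).2⟩, ⟨u, hu, rfl⟩, (hcomp u).symm⟩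
    refine ⟨restrictHom χ₂ hle, restrict_mem hχ₂ hle, fun x hφx hαx => ?_⟩
    have hx₁ : ((mU ⟨x, hPU x.2⟩ : U) : Ω) ∈ (P.subgroupOf U).map (U.subtype.comp mU.toMonoidHom) :=
      ⟨⟨x, hPU x.2⟩, x.2, rfl⟩
    have h1 := hχ₁v x hφx hx₁
    have h2 := hχ₂v ⟨_, hx₁⟩ (h1 ▸ hUT (mU _).2) ⟨⟨mU ⟨x, hPU x.2⟩, hUT (mU _).2⟩, hx₁, rfl⟩
    show χ₂ _ = _
    refine ((congrArg χ₂ ?_).trans h2).trans ?_
    · exact Subtype.ext (hcomp ⟨x, hPU x.2⟩)
    rw [hcomp]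
    exact congrArg (fun w : T => (a w : Ω)) (Subtype.ext h1)
  refine ⟨⟨hLs, hF, fun P φ h => hMF P (hLM P h), hUsc, hai, fun P hP φ hφ => ?_⟩, fun α hα => ?_⟩
  · obtain ⟨a, ha, m, hm, hv⟩ := hMfr P (hP.trans hUT) φ hφ
    obtain ⟨α₁, hα₁, l, hl, hlv⟩ := hLfr P hP m hm
    obtain ⟨b, hb, hbv⟩ := hres a ha
    have hα₁F : α₁ ∈ F.autGroup U :=
      (mem_autGroup_iff hUS).2 (hMF _ ((mem_autGroup_iff hUT).1 hα₁))
    refine ⟨b * α₁, mul_mem hb hα₁F, l, hl, fun x hx => ?_⟩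
    rw [MulAut.mul_apply, hbv, hv x (apply_mem hm x)]
    exact congrArg (fun w : T => (a w : Ω)) (Subtype.ext (hlv x hx))
  -- the extension condition
  refine trivialExt_of_coprime_parts hS hUsc hLs (fun α hα hαp => ?_) hα
  obtain ⟨β₀, hβ₀, hβ₀U, hβ₀C⟩ := hLext α hα
  obtain ⟨Q, hQ⟩ : ∃ Q, Q = U ⊔ centralizerIn T U := ⟨_, rfl⟩
  subst hQ
  have hQT : U ⊔ centralizerIn T U ≤ T := sup_le hUT (centralizerIn_le T U)
  have hQS := hQT.trans hTS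
  have := finite_of_le hQS
  have := finite_mulAut (V := U ⊔ centralizerIn T U)
  obtain ⟨k, hkp, hk⟩ := FusionLayer.exists_coprime_pow hαp β₀
  have hag : Agrees le_sup_left α β₀ := fun x => hβ₀U x
  have hUn := stronglyClosed_le_normalizer hUsc
  have hd₁ : ∀ q : ↥(U ⊔ centralizerIn T U), (q : Ω)⁻¹ * (β₀ q : Ω) ∈ U := by
    intro q
    obtain ⟨u, hu, c, hc, huc⟩ := FusionLayer.exists_mul_of_mem_sup
      (((centralizerIn_le T U).trans hTS).trans hUn) q.2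
    have e2 : (β₀ ⟨u, Subgroup.mem_sup_left hu⟩ : Ω) ∈ U := (hag ⟨u, hu⟩).symm ▸ (α _).2
    rw [show q = ⟨u, Subgroup.mem_sup_left hu⟩ * ⟨c, Subgroup.mem_sup_right hc⟩ from
      Subtype.ext huc.symm, map_mul, Subgroup.coe_mul, Subgroup.coe_mul]
    rw [show (u * c)⁻¹ * ((β₀ ⟨u, Subgroup.mem_sup_left hu⟩ : Ω) *
        (β₀ ⟨c, Subgroup.mem_sup_right hc⟩ : Ω)) = c⁻¹ * (u⁻¹ *
          (β₀ ⟨u, Subgroup.mem_sup_left hu⟩ : Ω)) * c *
        (c⁻¹ * (β₀ ⟨c, Subgroup.mem_sup_right hc⟩ : Ω)) by group]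
    exact U.mul_mem ((Subgroup.mem_normalizer_iff''.1 (hUn (hTS hc.1)) _).1
      (U.mul_mem (U.inv_mem hu) e2)) (hβ₀C ⟨c, Subgroup.mem_sup_right hc⟩ hc).1
  have hd : ∀ (n : ℕ) (q : ↥(U ⊔ centralizerIn T U)), (q : Ω)⁻¹ * ((β₀ ^ n) q : Ω) ∈ U := by
    intro n
    induction n with
    | zero => exact fun q => by simp [U.one_mem]
    | succ n ih =>
      intro q
      have := U.mul_mem (hd₁ q) (ih (β₀ q))
      rwa [mul_assoc, mul_inv_cancel_left, ← MulAut.mul_apply, ← pow_succ] at this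
  have hQn : S ≤ Subgroup.normalizer ((U ⊔ centralizerIn T U : Subgroup Ω) : Set Ω) :=
    le_normalizer_sup hUS ((centralizerIn_le T U).trans hTS) hUn
      (le_normalizer_centralizerIn (stronglyClosed_le_normalizer hT) hUn)
  have hgM : β₀ ^ k ∈ M.autGroup (U ⊔ centralizerIn T U) := pow_mem hβ₀ k
  have hgF : β₀ ^ k ∈ F.autGroup (U ⊔ centralizerIn T U) :=
    (mem_autGroup_iff hQS).2 (hMF _ ((mem_autGroup_iff hQT).1 hgM))
  obtain ⟨X, hXS, hI, hgX, hCX⟩ := exists_modGroup hS hF hUsc hQS hQn hgF (hd k)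
  obtain ⟨hQW, β, hβ, hβp, hβg, hβd⟩ := master hS hM hQT (fullyNormalized_of_normal hQS hQn) hgM
    hkp hXS hI hgX
  have hle : U ⊔ centralizerIn S U ≤ kNormalizer S (U ⊔ centralizerIn T U) X :=
    sup_le (le_sup_left.trans hQW) fun c hc => mem_kNormalizer.2 ⟨hc.1,
      (U ⊔ centralizerIn T U).normalizerMonoidHom ⟨c, hQn hc.1⟩,
      hCX (mem_autInducedBy_iff.2 ⟨c, hc, hQn hc.1, fun _ => rfl⟩), fun _ => rfl⟩
  have hkS := kNormalizer_le (S := S) (Q := U ⊔ centralizerIn T U) X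
  obtain ⟨β₁, hβ₁, hβ₁v⟩ := exists_aut_sup_centralizer hUsc ((mem_autGroup_iff hkS).1 hβ) hle
  have hag₁ : Agrees hle β₁ β := fun x => (hβ₁v x).symm
  have hβ₁p : (orderOf β₁).Coprime p := by
    refine hβp.coprime_dvd_left (orderOf_dvd_of_pow_eq_one ?_)
    have h1 := hag₁.pow (orderOf β)
    rw [pow_orderOf_eq_one] at h1
    exact h1.unique (Agrees.one hle)
  have hval : ∀ (c : ↥(U ⊔ centralizerIn S U)) (hc : (c : Ω) ∈ U ⊔ centralizerIn T U),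
      (β₁ c : Ω) = ((β₀ ^ k) ⟨c, hc⟩ : Ω) := fun c hc => (hβ₁v c).trans (hβg ⟨c, hc⟩)
  refine trivialExt_of_extension (Q := U ⊔ centralizerIn T U) hS hUsc hβ₁ hβ₁p
    (fun x => (hval _ (Subgroup.mem_sup_left x.2)).trans ((hk ▸ hag.pow k) x)) (fun c hc => ?_)
    fun c _ hcQ => by rw [hval c hcQ]; exact hd k ⟨c, hcQ⟩
  have hWS : U ⊔ centralizerIn S U ≤ S := sup_le hUS (centralizerIn_le S U)
  have h1 : (c : Ω)⁻¹ * (β₁ c : Ω) ∈ T := by rw [hβ₁v]; exact hβd ⟨c, hle c.2⟩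
  exact Subgroup.mem_sup_right ⟨h1, (Subgroup.mul_mem _ (Subgroup.inv_mem _ hc)
    (FusionNormal.apply_mem_centralizerIn hUS (fun w hw =>
      apply_mem_stronglyClosed hUsc ((mem_autGroup_iff hWS).1 hβ₁) hw) c hc)).2⟩

end CfsgLib.FusionComponents
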