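import Cfsg.Agent.FusionComponents.Master
import Cfsg.Agent.FusionLayer.Constrained
import Cfsg.Agent.Fusion.CentralizerSubsystemClosure
import Cfsg.Agent.Fusion.Hyperfocal

/-!
# Automorphisms fixing the intersection of two strongly closed subgroups

If `M` is normal in `F` over `T`, `T'` is strongly closed, `T' ⊓ T ≤ Q ≤ T` and `g ∈ Aut_M(Q)` has
order prime to `p` and fixes `T' ⊓ T`, then `g` extends to `Q ⊔ T'` fixing `T'`. Consequently a
subsystem of `M` generated by elements of order prime to `p` which centralizes `T' ⊓ T` in `M`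
centralizes `T'` in `F`.
-/

set_option autoImplicit false

namespace CfsgLib.FusionComponents

open Cfsg Cfsg.FusionSystem CfsgLib.Fusion CfsgLib.FusionClosed

variable {Ω : Type*} [Group Ω] {S T T' U Q : Subgroup Ω} {F : FusionSystem S}
  {M : FusionSystem T} {C : FusionSystem U} {p : ℕ}

/-- An automorphism of order prime to `p` fixing its displacement, a `p`-element, fixes the
element. -/
theorem apply_eq_of_fixed_displacement {G : Type*} [Group G] {a : MulAut G}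
    (ha : (orderOf a).Coprime p) {x : G} (hfix : a (x⁻¹ * a x) = x⁻¹ * a x)
    (hp : ∃ k : ℕ, (x⁻¹ * a x) ^ p ^ k = 1) : a x = x := by
  have h := FusionLayer.displacement_mem (N := (⊥ : Subgroup G)) ha inferInstance
    (fun y hy => by rw [Subgroup.mem_bot] at hy ⊢; rw [hy, map_one]) (x := x)
    (by rw [hfix, inv_mul_cancel]; exact one_mem _) hp
  exact (inv_mul_eq_one.1 (Subgroup.mem_bot.1 h)).symm

/-- **Extension fixing a strongly closed subgroup.** -/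
theorem exists_extension_fix [Finite S] [Fact p.Prime] (hS : IsPGroup p S) (hn : M.IsNormalIn F p)
    (hT' : F.StronglyClosed T') (hQT : Q ≤ T) (hDQ : T' ⊓ T ≤ Q) {g : MulAut Q}
    (hg : g ∈ M.autGroup Q) (hgp : (orderOf g).Coprime p)
    (hgD : ∀ q : Q, (q : Ω) ∈ T' → g q = q) :
    ∃ χ ∈ F.Hom (Q ⊔ T'), (∀ q : Q, χ ⟨q, Subgroup.mem_sup_left q.2⟩ = (g q : Ω)) ∧
      ∀ (t : Ω) (ht : t ∈ T'), χ ⟨t, Subgroup.mem_sup_right ht⟩ = t := by
  classical
  obtain ⟨⟨hMs, hF, hinv⟩, -⟩ := id hn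
  have hT : F.StronglyClosed T := hinv.2.1
  have hTS : T ≤ S := hT.1
  have hQS : Q ≤ S := hQT.trans hTS
  have := finite_of_le hQS
  have := finite_of_le hT'.1
  have := finite_mulAut (V := Q)
  have hTn : ∀ t ∈ T', ∀ q ∈ Q, q⁻¹ * (t * q * t⁻¹) ∈ T' ⊓ T := fun t ht q hq => by
    refine ⟨?_, T.mul_mem (inv_mem (hQT hq))
      (FusionFactor.conj_mem_of_stronglyClosed hT (hT'.1 ht) (hQT hq))⟩
    rw [show q⁻¹ * (t * q * t⁻¹) = q⁻¹ * t * q⁻¹⁻¹ * t⁻¹ by group]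
    exact T'.mul_mem (FusionFactor.conj_mem_of_stronglyClosed hT' (S.inv_mem (hQS hq)) ht)
      (T'.inv_mem ht)
  have hT'N : T' ≤ Subgroup.normalizer (Q : Set Ω) := fun t ht =>
    SatCriterion.mem_normalizer_of_finite fun q hq => by
      have := Q.mul_mem hq (hDQ (hTn t ht q hq))
      rwa [mul_inv_cancel_left] at this
  -- automorphisms trivial modulo `D = T' ⊓ T` inducing an element of `T'` on `D`
  let L : Subgroup (MulAut Q) :=
    { carrier := {a | a ∈ F.autGroup Q ∧ (∀ q : Q, (q : Ω)⁻¹ * (a q : Ω) ∈ T') ∧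
        ∃ t ∈ T', ∀ q : Q, (q : Ω) ∈ T' → (a q : Ω) = t * q * t⁻¹}
      one_mem' := ⟨one_mem _, fun q => by rw [MulAut.one_apply, inv_mul_cancel]; exact one_mem _,
        1, one_mem _, fun q _ => by simp⟩
      mul_mem' := fun {a b} ⟨ha, ha1, t, ht, ha2⟩ ⟨hb, hb1, s, hs, hb2⟩ =>
        ⟨mul_mem ha hb, fun q => by
          have := T'.mul_mem (hb1 q) (ha1 (b q))
          rwa [mul_assoc, mul_inv_cancel_left] at this,
          t * s, mul_mem ht hs, fun q hq => by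
            have hbq : (b q : Ω) ∈ T' := by
              have := T'.mul_mem hq (hb1 q)
              rwa [mul_inv_cancel_left] at this
            rw [MulAut.mul_apply, ha2 _ hbq, hb2 q hq]
            group⟩
      inv_mem' := fun {a} ⟨ha, ha1, t, ht, ha2⟩ =>
        ⟨inv_mem ha, fun q => by
          have := T'.inv_mem (ha1 (a⁻¹ q))
          rwa [MulAut.apply_inv_self, mul_inv_rev, inv_inv] at this,
          t⁻¹, inv_mem ht, fun q hq => by
            have h1 : (a⁻¹ q : Ω) ∈ T' := by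
              have := T'.mul_mem hq (T'.inv_mem (ha1 (a⁻¹ q)))
              rwa [MulAut.apply_inv_self, mul_inv_rev, inv_inv, mul_inv_cancel_left] at this
            have h2 := ha2 _ h1
            rw [MulAut.apply_inv_self] at h2
            rw [h2]
            group⟩ }
  have hLp : IsPGroup p L := by
    refine FusionLayer.isPGroup_of_coprime_trivial fun ⟨a, ha, ha1, t, ht, ha2⟩ hap => ?_
    have hap' : (orderOf a).Coprime p := (Subgroup.orderOf_coe (⟨a, ha, ha1, t, ht, ha2⟩ : L)).symm ▸ hap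
    obtain ⟨j, hj⟩ := hS.to_le hT'.1 ⟨t, ht⟩
    have hj' : t ^ p ^ j = 1 := congrArg Subtype.val hj
    have hn : ∀ (n : ℕ) (q : Q), (q : Ω) ∈ T' → ((a ^ n) q : Ω) = t ^ n * q * (t ^ n)⁻¹ := by
      intro n
      induction n with
      | zero => intro q _; simp
      | succ n ih =>
        intro q hq
        have h1 : (a q : Ω) ∈ T' := by
          have := T'.mul_mem hq (ha1 q)
          rwa [mul_inv_cancel_left] at this
        rw [pow_succ, MulAut.mul_apply, ih _ h1, ha2 q hq, pow_succ]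
        group
    obtain ⟨r, hr⟩ := exists_pow_eq_self_of_coprime (n := p ^ j) (x := a)
      (hap'.pow_right j).symm
    have hfix : ∀ q : Q, (q : Ω) ∈ T' → a q = q := fun q hq => Subtype.ext (by
      conv_lhs => rw [← hr, ← pow_mul]
      rw [hn _ q hq, pow_mul, hj', one_pow]
      simp)
    refine Subtype.ext (MulEquiv.ext fun q => ?_)
    exact apply_eq_of_fixed_displacement hap' (hfix _ (ha1 q))
      (((hS.to_le hQS) _).imp fun k hk => hk)
  have hIn : Inn Q ≤ Subgroup.normalizer (L : Set (MulAut Q)) := by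
    intro i hi
    refine SatCriterion.mem_normalizer_of_finite fun a ⟨ha, ha1, t, ht, ha2⟩ => ?_
    obtain ⟨r, rfl⟩ := hi
    have hcr : ∀ z ∈ T', (r : Ω) * z * (r : Ω)⁻¹ ∈ T' := fun z hz =>
      FusionFactor.conj_mem_of_stronglyClosed hT' (hQS r.2) hz
    refine ⟨mul_mem (mul_mem (Inn_le_autGroup hQS ⟨r, rfl⟩) ha)
      (inv_mem (Inn_le_autGroup hQS ⟨r, rfl⟩)), fun q => ?_, _, hcr t ht, fun q hq => ?_⟩
    · obtain ⟨q, rfl⟩ := (MulAut.conj r).surjective q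
      rw [MulAut.mul_apply, MulAut.mul_apply, MulAut.inv_apply_self]
      show ((r : Ω) * q * (r : Ω)⁻¹)⁻¹ * ((r : Ω) * (a q : Ω) * (r : Ω)⁻¹) ∈ T'
      rw [show ((r : Ω) * q * (r : Ω)⁻¹)⁻¹ * ((r : Ω) * (a q : Ω) * (r : Ω)⁻¹) =
        (r : Ω) * ((q : Ω)⁻¹ * (a q : Ω)) * (r : Ω)⁻¹ by group]
      exact hcr _ (ha1 q)
    · obtain ⟨q, rfl⟩ := (MulAut.conj r).surjective q
      rw [MulAut.mul_apply, MulAut.mul_apply, MulAut.inv_apply_self]
      have hq' : (q : Ω) ∈ T' := by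
        have := FusionFactor.conj_mem_of_stronglyClosed hT' (inv_mem (hQS r.2)) hq
        simpa [mul_assoc] using this
      show (r : Ω) * (a q : Ω) * (r : Ω)⁻¹ =
        (r : Ω) * t * (r : Ω)⁻¹ * ((r : Ω) * q * (r : Ω)⁻¹) * ((r : Ω) * t * (r : Ω)⁻¹)⁻¹
      rw [ha2 q hq']
      group
  obtain ⟨X, hX⟩ : ∃ X, X = L ⊔ Inn Q := ⟨_, rfl⟩
  have hXF : X ≤ F.autGroup Q := hX ▸ sup_le (fun a ha => ha.1) (Inn_le_autGroup hQS)
  have hXp : IsPGroup p X := hX ▸ hLp.to_sup_of_normal_left'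
    (Inn_eq Q ▸ isPGroup_autInducedBy (hS.to_le hQS) Q) hIn
  have hgI : ∀ x ∈ X, g * x * g⁻¹ ∈ X := by
    have hle : X ≤ X.comap (MulAut.conj g).toMonoidHom := by
      conv_lhs => rw [hX]
      refine sup_le (fun a ⟨ha, ha1, t, ht, ha2⟩ => ?_) fun i hi => ?_
      · rw [hX]
        refine Subgroup.mem_sup_left ⟨mul_mem (mul_mem ?_ ha) (inv_mem ?_), fun q => ?_, t, ht,
          fun q hq => ?_⟩
        · exact (mem_autGroup_iff hQS).2 (hinv.1 _ ((mem_autGroup_iff hQT).1 hg))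
        · exact (mem_autGroup_iff hQS).2 (hinv.1 _ ((mem_autGroup_iff hQT).1 hg))
        · obtain ⟨r, rfl⟩ := g.surjective q
          show (g r : Ω)⁻¹ * (g (a (g⁻¹ (g r))) : Ω) ∈ T'
          rw [MulAut.inv_apply_self, ← InvMemClass.coe_inv, ← Subgroup.coe_mul, ← map_inv,
            ← map_mul, hgD _ (ha1 r)]
          exact ha1 r
        · show (g (a (g⁻¹ q)) : Ω) = _
          have e : g⁻¹ q = q := g.injective (by rw [MulAut.apply_inv_self, hgD q hq])
          have h1 : (a q : Ω) ∈ T' := by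
            have := T'.mul_mem hq (ha1 q)
            rwa [mul_inv_cancel_left] at this
          rw [e, hgD _ h1, ha2 q hq]
      · rw [hX]
        exact Subgroup.mem_sup_right ((Inn_normal Q).conj_mem i hi g)
    exact fun x hx => hle hx
  have hTX : ∀ t (ht : t ∈ T'), Q.normalizerMonoidHom ⟨t, hT'N ht⟩ ∈ X := fun t ht =>
    hX ▸ Subgroup.mem_sup_left ⟨(mem_autGroup_iff hQS).2
      (conj_mem' hQS (hT'.1 ht) fun _ => rfl), fun q => (hTn t ht q q.2).1, t, ht,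
      fun q _ => rfl⟩
  -- transport to a fully normalized conjugate
  obtain ⟨Q', hQQ', hQ'n⟩ := exists_fullyNormalized (F := F) hQS
  obtain ⟨hQ'a, hQ'r⟩ := automized_receptive hS hF hQ'n
  obtain ⟨e₀, he₀⟩ := isConj_iff.1 hQQ'
  obtain ⟨δ, hδ, hδX⟩ := exists_conj_autInducedBy hQ'a
    (X := X.map (MulAut.congr e₀).toMonoidHom)
    (by rintro _ ⟨x, hx, rfl⟩; exact congr_mem_autGroup he₀ (hXF hx)) (hXp.map _)
  obtain ⟨e, hedef⟩ : ∃ e, e = e₀.trans δ := ⟨_, rfl⟩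
  have he : IsIso F e := hedef ▸ he₀.trans ((mem_autGroup_iff hQ'n.1).1 hδ)
  have hXS : ∀ x ∈ X, MulAut.congr e x ∈ autInducedBy S Q' := fun x hx => by
    rw [hedef, congr_trans, congr_self_eq]
    exact hδX _ ⟨x, hx, rfl⟩
  have hQ'T : Q' ≤ T := by
    rintro y hy
    obtain ⟨q, hq⟩ := e.surjective ⟨y, hy⟩
    have := hT.2 Q hQT _ he q
    change (e q : Ω) ∈ T at this
    rwa [hq] at this
  have hg' : MulAut.congr e g ∈ M.autGroup Q' :=
    congr_mem_of_invariant (strongInvariant_of_invariant hinv) hQT hQ'T he hg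
  have hgp' : (orderOf (MulAut.congr e g)).Coprime p := by
    rwa [MulEquiv.orderOf_eq]
  obtain ⟨X', hX'⟩ : ∃ X', X' = X.map (MulAut.congr e).toMonoidHom := ⟨_, rfl⟩
  obtain ⟨hQW, β, hβ, hβp, hβA, hβd⟩ := master hS hn hQ'T hQ'n hg' hgp' (X := X')
    (by rw [hX']; rintro _ ⟨x, hx, rfl⟩; exact hXS x hx)
    (by
      rintro _ ⟨r, rfl⟩
      rw [hX']
      obtain ⟨r, rfl⟩ := e.surjective r
      refine ⟨MulAut.conj r, hX ▸ Subgroup.mem_sup_right ⟨r, rfl⟩, MulEquiv.ext fun y => ?_⟩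
      obtain ⟨y, rfl⟩ := e.surjective y
      show MulAut.congr e (MulAut.conj r) (e y) = e r * e y * (e r)⁻¹
      rw [congr_apply]
      simp)
    (by
      rw [hX']
      rintro _ ⟨x, hx, rfl⟩
      exact ⟨g * x * g⁻¹, hgI x hx, by
        show MulAut.congr e (g * x * g⁻¹) = _
        rw [map_mul, map_mul, map_inv]; rfl⟩)
  obtain ⟨ψ, hψ, hψv⟩ := exists_extension (T := Q ⊔ T') hQ'r he
    (sup_le (le_extender hQS fun x => hQ'n.1 (e x).2) fun t ht =>
      mem_extender_of_congr ⟨hT'.1 ht, hT'N ht⟩ (α := Q.normalizerMonoidHom ⟨t, hT'N ht⟩)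
        (fun _ => rfl) (hXS _ (hTX t ht)))
  have hψQ : ∀ q : Q, ψ ⟨q, Subgroup.mem_sup_left q.2⟩ = (e q : Ω) := fun q =>
    hψv q (Subgroup.mem_sup_left q.2)
  have hψT : ∀ t (ht : t ∈ T'), ψ ⟨t, Subgroup.mem_sup_right ht⟩ ∈ T' := fun t ht =>
    apply_mem_stronglyClosed hT' hψ (x := ⟨t, Subgroup.mem_sup_right ht⟩) ht
  have hψTs : ∀ y ∈ T', ∃ t, ∃ ht : t ∈ T', ψ ⟨t, Subgroup.mem_sup_right ht⟩ = y := by
    intro y hy
    have hinj : Function.Injective
        (fun t : T' => (⟨ψ ⟨t, Subgroup.mem_sup_right t.2⟩, hψT _ t.2⟩ : T')) :=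
      fun a b h => Subtype.ext (congrArg Subtype.val
        (F.injective_of_mem hψ (congrArg Subtype.val h)) :)
    obtain ⟨t, ht⟩ := Finite.injective_iff_surjective.1 hinj ⟨y, hy⟩
    exact ⟨t, t.2, congrArg Subtype.val ht⟩
  have hT'W : T' ≤ kNormalizer S Q' X' := fun y hy => by
    obtain ⟨t, ht, rfl⟩ := hψTs y hy
    refine mem_kNormalizer.2 ⟨hT'.1 hy, MulAut.congr e (Q.normalizerMonoidHom ⟨t, hT'N ht⟩),
      hX' ▸ ⟨_, hTX t ht, rfl⟩, fun q => ?_⟩
    obtain ⟨q, rfl⟩ := e.surjective q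
    rw [congr_apply, ← hψQ, ← hψQ, ← map_inv, ← map_mul, ← map_mul]
    exact congrArg ψ (Subtype.ext rfl)
  have hQW' : ψ.range ≤ kNormalizer S Q' X' := by
    rintro _ ⟨⟨x, hx⟩, rfl⟩
    exact forall_mem_sup ψ le_sup_left le_sup_right
      (fun q hq => hQW ((hψQ ⟨q, hq⟩).symm ▸ (e ⟨q, hq⟩).2))
      (fun t ht => hT'W (hψT t ht)) hx hx
  -- `β` fixes `T'`
  have hβT : ∀ y (hy : y ∈ T'), β ⟨y, hT'W hy⟩ = ⟨y, hT'W hy⟩ := by
    intro y hy
    have h1 := hβd ⟨y, hT'W hy⟩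
    have hβy : (β ⟨y, hT'W hy⟩ : Ω) ∈ T' :=
      apply_mem_stronglyClosed hT' ((mem_autGroup_iff (kNormalizer_le X')).1 hβ) hy
    obtain ⟨t, ht, htv⟩ := hψTs _ (mul_mem (inv_mem hy) hβy)
    have htT : t ∈ T := by
      obtain ⟨ψi, hψi, hψiv⟩ := F.inv_mem hψ
      have := apply_mem_stronglyClosed hT hψi (x := ⟨_, ⟨_, rfl⟩⟩) (htv.symm ▸ h1)
      rwa [hψiv] at this
    have htQ : t ∈ Q := hDQ ⟨ht, htT⟩
    refine apply_eq_of_fixed_displacement hβp ?_
      ((hS.to_le (kNormalizer_le X') _).imp fun k hk => hk)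
    have hq : (⟨y, hT'W hy⟩ : kNormalizer S Q' X')⁻¹ * β ⟨y, hT'W hy⟩ =
        ⟨(e ⟨t, htQ⟩ : Ω), hQW (e _).2⟩ :=
      Subtype.ext (htv.symm.trans (hψQ ⟨t, htQ⟩))
    rw [hq]
    refine Subtype.ext ((hβA (e ⟨t, htQ⟩)).trans ?_)
    rw [congr_apply, hgD ⟨t, htQ⟩ ht]
  -- the composite
  obtain ⟨ψi, hψi, hψiv⟩ := F.inv_mem hψ
  have hres : restrictHom ((kNormalizer S Q' X').subtype.comp β.toMonoidHom) hQW' ∈
      F.Hom ψ.range := restrict_mem ((mem_autGroup_iff (kNormalizer_le X')).1 hβ) _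
  have hmem : ∀ z, restrictHom ((kNormalizer S Q' X').subtype.comp β.toMonoidHom) hQW' z ∈
      ψ.range := by
    rintro ⟨_, ⟨x, hx⟩, rfl⟩
    refine forall_mem_sup ((restrictHom ((kNormalizer S Q' X').subtype.comp β.toMonoidHom)
      hQW').comp ψ.rangeRestrict) le_sup_left le_sup_right (fun q hq => ?_) (fun t ht => ?_) hx hx
    · refine ⟨⟨(g ⟨q, hq⟩ : Ω), Subgroup.mem_sup_left (g _).2⟩, ?_⟩
      show _ = (β ⟨ψ ⟨q, Subgroup.mem_sup_left hq⟩, _⟩ : Ω)
      rw [hψQ, show β ⟨ψ ⟨q, Subgroup.mem_sup_left hq⟩, hQW' ⟨_, rfl⟩⟩ =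
        β ⟨(e ⟨q, hq⟩ : Ω), hQW (e _).2⟩ from congrArg β (Subtype.ext (hψQ ⟨q, hq⟩)), hβA,
        congr_apply]
    · refine ⟨⟨t, Subgroup.mem_sup_right ht⟩, ?_⟩
      exact (congrArg Subtype.val (hβT _ (hψT t ht))).symm
  have h1 : (restrictHom ((kNormalizer S Q' X').subtype.comp β.toMonoidHom) hQW').comp
      (ψ.codRestrict ψ.range fun x => ⟨x, rfl⟩) ∈ F.Hom (Q ⊔ T') := F.comp_mem hψ hres _
  refine ⟨_, F.comp_mem h1 hψi fun x => hmem _, fun q => ?_, fun t ht => ?_⟩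
  · refine Eq.trans (congrArg ψi (Subtype.ext ?_ :
      _ = (⟨ψ ⟨(g q : Ω), Subgroup.mem_sup_left (g q).2⟩, ⟨_, rfl⟩⟩ : ψ.range))) (hψiv _)
    show (β ⟨ψ ⟨q, Subgroup.mem_sup_left q.2⟩, _⟩ : Ω) = _
    refine Eq.trans ?_ (hψQ (g q)).symm
    rw [show β ⟨ψ ⟨q, Subgroup.mem_sup_left q.2⟩, hQW' ⟨_, rfl⟩⟩ =
      β ⟨(e q : Ω), hQW (e _).2⟩ from congrArg β (Subtype.ext (hψQ q)), hβA, congr_apply]
  · refine Eq.trans (congrArg ψi (Subtype.ext ?_ :
      _ = (⟨ψ ⟨t, Subgroup.mem_sup_right ht⟩, ⟨_, rfl⟩⟩ : ψ.range))) (hψiv _)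
    exact (congrArg Subtype.val (hβT _ (hψT t ht)) :)

/-- **The centralizing criterion**: a system `C` equal to its `p`-residual, inside a normal
subsystem `M` over `T`, which centralizes `T' ⊓ T` in `M`, centralizes `T'` in `F`. -/
theorem le_centralizerHom_of_fix [Finite S] [Fact p.Prime] (hS : IsPGroup p S)
    (hn : M.IsNormalIn F p) (hT' : F.StronglyClosed T') (hUT : U ≤ T) (hC : C.IsSaturated p)
    (hperf : C.hyperfocalSubgroup p = U)
    (hfix : ∀ P, C.Hom P ⊆ M.centralizerHom (T' ⊓ T) P) :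
    U ≤ centralizerIn S T' ∧ ∀ P, C.Hom P ⊆ F.centralizerHom T' P := by
  obtain ⟨⟨hMs, hF, hinv⟩, -⟩ := id hn
  have hTS : T ≤ S := hinv.2.1.1
  have hUS : U ≤ S := hUT.trans hTS
  have := finite_of_le hTS
  have := finite_of_le hUS
  -- automorphisms of order prime to `p` of `C` extend fixing `T'`
  have key : ∀ (P : Subgroup Ω), P ≤ U → ∀ a ∈ C.autGroup P, (orderOf a).Coprime p →
      ∃ χ ∈ F.Hom (P ⊔ T'), (∀ x : P, χ ⟨x, Subgroup.mem_sup_left x.2⟩ = (a x : Ω)) ∧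
        ∀ (t : Ω) (ht : t ∈ T'), χ ⟨t, Subgroup.mem_sup_right ht⟩ = t := by
    intro P hP a ha hap
    obtain ⟨-, -, -, ψ, hψ, hψa, hψD⟩ := hfix P ((mem_autGroup_iff hP).1 ha)
    obtain ⟨Q, hQ⟩ : ∃ Q, Q = P ⊔ T' ⊓ T := ⟨_, rfl⟩
    have hQT : Q ≤ T := hQ ▸ sup_le (hP.trans hUT) inf_le_right
    have := finite_of_le (hQT.trans hTS)
    have := finite_mulAut (V := Q)
    have hmem : ∀ v (hv : v ∈ P ⊔ T' ⊓ T), ψ ⟨v, hv⟩ ∈ P ⊔ T' ⊓ T := fun v hv =>
      forall_mem_sup ψ le_sup_left le_sup_right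
        (fun x hx => Subgroup.mem_sup_left ((hψa ⟨x, hx⟩).symm ▸ (a ⟨x, hx⟩).2))
        (fun x hx => Subgroup.mem_sup_right ((hψD ⟨x, hx⟩).symm ▸ hx)) hv hv
    obtain ⟨b, hb, hbv⟩ := exists_aut_restrict hψ (P := Q) hQ.le
      fun v hv => hQ.ge (hmem v (hQ.le hv))
    obtain ⟨k, hkp, hka⟩ := FusionLayer.exists_coprime_pow hap b
    have hPQ : P ≤ Q := hQ ▸ le_sup_left
    have hag : Agrees hPQ a (b ^ k) := hka ▸ (Agrees.pow (h := hPQ)
      (fun x => (hbv ⟨x, hPQ x.2⟩).trans (hψa x)) k)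
    have hD : ∀ q : Q, (q : Ω) ∈ T' → (b ^ k) q = q := by
      intro q hq
      have hb1 : b q = q := Subtype.ext ((hbv q).trans (hψD ⟨q, hq, hQT q.2⟩))
      generalize k = n
      induction n with
      | zero => simp
      | succ n ih => rw [pow_succ, MulAut.mul_apply, hb1, ih]
    obtain ⟨χ, hχ, hχQ, hχT⟩ := exists_extension_fix hS hn hT' hQT (hQ ▸ le_sup_right)
      (pow_mem hb k) hkp hD
    exact ⟨restrictHom χ (sup_le_sup_right hPQ T'), restrict_mem hχ _,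
      fun x => (hχQ ⟨x, hPQ x.2⟩).trans (hag x), hχT⟩
  have hUC : U ≤ centralizerIn S T' := by
    refine hperf.ge.trans ((Subgroup.closure_le _).2 ?_)
    rintro _ ⟨P, α, x, hP, hα, rfl⟩
    suffices h : ∀ x : P, (x : Ω)⁻¹ * ((α : MulAut P) x : Ω) ∈ centralizerIn S T' from h x
    induction hα using Subgroup.closure_induction with
    | mem α hα =>
      intro x
      obtain ⟨χ, hχ, hχP, hχT⟩ := key P hP α α.2 (by rwa [Subgroup.orderOf_coe])
      refine mem_centralizerIn'.2 ⟨S.mul_mem (S.inv_mem (hP.trans hUS x.2))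
        (hP.trans hUS (Subtype.mem _)), fun t ht => ?_⟩
      have hxt : (x : Ω) * t * (x : Ω)⁻¹ ∈ T' :=
        FusionFactor.conj_mem_of_stronglyClosed hT' (hP.trans hUS x.2) ht
      have e : (⟨(x : Ω) * t * (x : Ω)⁻¹, Subgroup.mem_sup_right hxt⟩ : ↥(P ⊔ T')) =
          ⟨x, Subgroup.mem_sup_left x.2⟩ * ⟨t, Subgroup.mem_sup_right ht⟩ *
            ⟨x, Subgroup.mem_sup_left x.2⟩⁻¹ := Subtype.ext rfl
      have h1 := hχT _ hxt
      rw [e, map_mul, map_mul, map_inv, hχP, hχT t ht] at h1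
      calc (x : Ω)⁻¹ * ((α : MulAut P) x : Ω) * t * ((x : Ω)⁻¹ * ((α : MulAut P) x : Ω))⁻¹ =
            (x : Ω)⁻¹ * (((α : MulAut P) x : Ω) * t * ((α : MulAut P) x : Ω)⁻¹) * x := by group
        _ = t := by rw [h1]; group
    | one => intro x; simp
    | mul a b _ _ iha ihb =>
      intro x
      have := mul_mem (ihb x) (iha ((b : MulAut P) x))
      rwa [mul_assoc, mul_inv_cancel_left] at this
    | inv a _ iha =>
      intro x
      have := inv_mem (iha ((a : MulAut P)⁻¹ x))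
      rwa [MulAut.apply_inv_self, mul_inv_rev, inv_inv] at this
  refine ⟨hUC, fun P φ hφ => ?_⟩
  have hT'U : T' ≤ centralizerIn S U := fun t ht => mem_centralizerIn.2
    ⟨hT'.1 ht, fun u hu => ((mem_centralizerIn.1 (hUC hu)).2 t ht).symm⟩
  obtain ⟨hCsub, ψ, hψ, h1, h2⟩ := mem_le_of_pResidual (hS.to_le hUS) hC
    (D := fixSystem F C T' hUS hT'U) (fun P hP α hα => by
      refine (mem_autGroup_iff hP).1 ?_
      obtain ⟨a, ha, rfl⟩ := hα
      induction ha using Subgroup.closure_induction with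
      | mem a ha =>
        obtain ⟨χ, hχ, hχP, hχT⟩ := key P hP a a.2 (by rwa [Subgroup.orderOf_coe])
        exact (mem_autGroup_iff hP).2 ⟨(mem_autGroup_iff hP).1 a.2, χ, hχ,
          fun x => hχP x, fun t => hχT t t.2⟩
      | one => exact one_mem _
      | mul a b _ _ iha ihb => rw [map_mul]; exact mul_mem iha ihb
      | inv a _ iha => rw [map_inv]; exact inv_mem iha) hφ
  have hsub : φ ∈ M.Hom P := (hfix P hφ).1
  exact ⟨hinv.1 P hsub, (le_left hφ).trans hUC, fun x => hUC (apply_mem hφ x), ψ, hψ, h1, h2⟩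

end CfsgLib.FusionComponents
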