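import Cfsg.Agent.FusionComponents.Basic
import Cfsg.Agent.FusionComponents.FixExt
import Cfsg.Agent.FusionConstrained.Inherit

/-!
# Components centralize the largest normal subgroup

In a quasisimple system the largest normal subgroup is the centre; consequently every component of
a saturated system `F` centralizes `O_p(F)`.
-/

set_option autoImplicit false

namespace CfsgLib.FusionComponents

open Cfsg Cfsg.FusionSystem CfsgLib.Fusion

variable {Ω : Type*} [Group Ω] {S T U : Subgroup Ω} {F : FusionSystem S} {p : ℕ}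

/-- The centralizer systems of smaller subgroups are bigger. -/
theorem centralizerHom_anti {Z Z' : Subgroup Ω} (h : Z' ≤ Z) (P : Subgroup Ω) :
    F.centralizerHom Z P ⊆ F.centralizerHom Z' P := by
  rintro φ ⟨hφ, hP, hv, ψ, hψ, h1, h2⟩
  exact ⟨hφ, hP.trans (centralizerIn_anti h), fun x => centralizerIn_anti h (hv x),
    restrictHom ψ (sup_le_sup_left h P), restrict_mem hψ _, fun x => h1 x,
    fun c => h2 ⟨c, h c.2⟩⟩

/-- The inner system of a normal subgroup is a normal subsystem. -/
theorem inner_isNormalIn [Finite S] [Fact p.Prime] (hS : IsPGroup p S) (hF : F.IsSaturated p)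
    {R : Subgroup Ω} (hR : F.IsNormal R) : (innerFusionSystem R).IsNormalIn F p := by
  refine ⟨(FusionSub.isNormal_iff_inner_isWeaklyNormalIn hS hF hR.1).1 hR, fun α hα => ?_⟩
  obtain ⟨-, g, hg, hgv⟩ := (mem_autGroup_iff le_rfl).1 hα
  have hn : g ∈ Subgroup.normalizer ((R ⊔ centralizerIn S R : Subgroup Ω) : Set Ω) :=
    Subgroup.le_normalizer (Subgroup.mem_sup_left hg)
  refine ⟨(R ⊔ centralizerIn S R).normalizerMonoidHom ⟨g, hn⟩,
    autInducedBy_le_autGroup (sup_le hR.1 (centralizerIn_le S R))
      (mem_autInducedBy_iff.2 ⟨g, hR.1 hg, hn, fun _ => rfl⟩),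
    fun x => (hgv x).symm, fun c hc => ?_⟩
  show (c : Ω)⁻¹ * (g * c * g⁻¹) ∈ _
  rw [(mem_centralizerIn.1 hc).2 g hg, mul_inv_cancel_right, inv_mul_cancel]
  exact one_mem _

/-- The image of a normal subgroup in a factor system is normal. -/
theorem isNormal_factor_image [Finite S] [Fact p.Prime] (hS : IsPGroup p S) (hF : F.IsSaturated p)
    {Q Z : Subgroup Ω} (hQ : F.IsNormal Q) (hZ : F.StronglyClosed Z)
    {Ω' : Type*} [Group Ω'] {S' : Subgroup Ω'} {θ : S →* Ω'} {E : FusionSystem S'}
    (hE : F.IsFactorSystem Z θ E) : E.IsNormal ((Q.subgroupOf S).map θ) := by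
  have : Finite S' := by
    rw [← hE.2.2.1]
    exact Finite.of_surjective θ.rangeRestrict θ.rangeRestrict_surjective
  have hS' : IsPGroup p S' := by
    rw [← hE.2.2.1]
    exact hS.of_surjective θ.rangeRestrict θ.rangeRestrict_surjective
  have hEs := FusionFactor.isSaturated_factor hS hF hZ hE
  obtain ⟨n, L, hL0, hLn, hLm, hL⟩ := (isNormal_iff_series hS hF).1 hQ
  refine (isNormal_iff_series hS' hEs).2
    ⟨n, fun i => ((L i).subgroupOf S).map θ, by simp [hL0], by simp [hLn],
      fun i j hij => Subgroup.map_mono (fun x hx => hLm hij hx),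
      fun i => ⟨FusionSolvable.stronglyClosed_image hZ hE (hL i).1, ?_⟩⟩
  rw [← Subgroup.map_commutator]
  refine Subgroup.map_mono ?_
  rw [Subgroup.commutator_le]
  exact fun a ha b hb => (hL i).2 (Subgroup.commutator_mem_commutator ha hb)

/-- The largest normal subgroup of a quasisimple system is central. -/
theorem core_le_center [Finite S] [Fact p.Prime] (hS : IsPGroup p S) (hq : F.Quasisimple p) :
    F.core ≤ F.center := by
  obtain ⟨hF, -, hfac⟩ := id hq
  have hcc : F.IsCentral F.center := FusionFactor.isCentral_center F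
  have hcs := FusionLayer.stronglyClosed_of_central hcc
  obtain ⟨E, hE⟩ := FusionFactor.exists_factorSystem_quotient F F.center hcs
  obtain ⟨hEs, -, hsimple⟩ := hfac E hE
  have hR := FusionFactor.isNormal_core F
  have hRn := isNormal_factor_image hS hF hR hcs hE
  have : Finite (⊤ : Subgroup (↥S ⧸ (F.center).subgroupOf S)) :=
    Finite.of_surjective _ (Subgroup.topEquiv.symm.surjective.comp
      (QuotientGroup.mk'_surjective _))
  have hTop : IsPGroup p (⊤ : Subgroup (↥S ⧸ (F.center).subgroupOf S)) :=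
    (hS.to_quotient _).of_equiv Subgroup.topEquiv.symm
  rcases hsimple _ _ (inner_isNormalIn hTop hEs hRn) with hbot | ⟨htop, -⟩
  · intro r hr
    refine (hE.2.1 ⟨r, hR.1 hr⟩).1 (Subgroup.mem_bot.1 (hbot ▸ ?_))
    exact ⟨⟨r, hR.1 hr⟩, hr, rfl⟩
  · refine (FusionLayer.not_component_of_constrained hS ?_ ⟨.refl F p, hq⟩).elim
    refine ⟨hF, F.core, hR, FusionConstrained.isCentric_of_stronglyClosed
      (stronglyClosed_of_normal hR) fun c hc => ?_⟩
    obtain ⟨⟨r, hrS⟩, hr, hrv⟩ := htop.ge (Subgroup.mem_top (QuotientGroup.mk' _ ⟨c, hc.1⟩))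
    have hker := (hE.2.1 (⟨r, hrS⟩⁻¹ * ⟨c, hc.1⟩)).1 (by
      rw [map_mul, map_inv, hrv, inv_mul_cancel])
    have hZR : F.center ≤ F.core := le_sSup (FusionLayer.isNormal_of_isCentral hcc)
    have := F.core.mul_mem (hr : r ∈ F.core) (hZR hker)
    simp only [Subgroup.coe_subtype, Subgroup.coe_mul, InvMemClass.coe_inv, mul_inv_cancel_left] at this
    exact this

/-- The trace of a normal subgroup on a strongly closed subgroup is normal in a subsystem over
it. -/
theorem isNormal_inf_of_subsystem [Finite S] [Fact p.Prime] (hS : IsPGroup p S)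
    (hF : F.IsSaturated p) {D : FusionSystem U} (hD : D.IsSaturated p) (hsub : D.IsSubsystemOf F)
    (hU : F.StronglyClosed U) {R : Subgroup Ω} (hR : F.IsNormal R) : D.IsNormal (R ⊓ U) := by
  have := finite_of_le hU.1
  obtain ⟨n, L, hL0, hLn, hLm, hL⟩ := (isNormal_iff_series hS hF).1 hR
  refine (isNormal_iff_series (hS.to_le hU.1) hD).2
    ⟨n, fun i => L i ⊓ U, by simp [hL0], by simp [hLn],
      fun i j hij => inf_le_inf_right _ (hLm hij), fun i => ⟨⟨inf_le_right, ?_⟩, ?_⟩⟩
  · exact fun P hP φ hφ x => ⟨(hL i).1.2 P (hP.trans inf_le_left) φ (hsub P hφ) x,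
      hU.2 P (hP.trans inf_le_right) φ (hsub P hφ) x⟩
  · refine le_inf ((Subgroup.commutator_mono inf_le_left inf_le_left).trans (hL i).2) ?_
    exact (Subgroup.commutator_mono inf_le_right inf_le_right).trans
      (Subgroup.commutator_le_self U)

theorem subnormal_le_centralizerHom_core {C : FusionSystem T} (h : C.IsSubnormalIn F p) :
    ∀ [Finite S] [Fact p.Prime], IsPGroup p S → C.Quasisimple p →
      ∀ P : Subgroup Ω, C.Hom P ⊆ F.centralizerHom F.core P := by
  induction h with
  | refl F p =>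
    intro _ _ hS hq P φ hφ
    refine centralizerHom_anti (core_le_center hS hq) P ?_
    obtain ⟨ψ, hψ, h1, h2⟩ := (FusionFactor.isCentral_center F).2 P φ hφ
    have hle := F.center_le_centralizer
    have hc : ∀ {x : Ω}, x ∈ _ → x ∈ centralizerIn _ F.center := fun {x} hx =>
      Subgroup.mem_inf.2 ⟨hx, Subgroup.mem_centralizer_iff.2 fun z hz =>
        (Subgroup.mem_centralizer_iff.1 (hle hz) x hx).symm⟩
    exact ⟨hφ, fun x hx => hc (le_left hφ hx), fun x => hc (apply_mem hφ x), ψ, hψ, h1, h2⟩
  | @step U' S' C' D F p hsn hD ih =>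
    intro _ _ hS hq P
    obtain ⟨⟨hDs, hF, hinv⟩, -⟩ := id hD
    have hU := hinv.2.1
    have := finite_of_le hU.1
    have hR := FusionFactor.isNormal_core F
    have hle : F.core ⊓ U' ≤ D.core :=
      le_sSup (isNormal_inf_of_subsystem hS hF hDs hinv.1 hU hR)
    exact (le_centralizerHom_of_fix hS hD (stronglyClosed_of_normal hR)
      (FusionLayer.le_of_isSubnormalIn hsn) hq.1 hq.2.1 fun P φ hφ =>
        centralizerHom_anti hle P (ih (hS.to_le hU.1) hq P hφ)).2 P

/-- **Components centralize the largest normal subgroup.** -/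
theorem component_le_centralizerHom_core {C : FusionSystem T} [Finite S] [Fact p.Prime]
    (hS : IsPGroup p S) (hC : C.IsComponentIn F p) (P : Subgroup Ω) :
    C.Hom P ⊆ F.centralizerHom F.core P :=
  subnormal_le_centralizerHom_core hC.1 hS hC.2 P

end CfsgLib.FusionComponents
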