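import Cfsg.Agent.FusionComponents.CentralizerClosed
import Cfsg.Agent.FusionComponents.Core
import Cfsg.Agent.FusionNormal.GoodSection
import Cfsg.Agent.FusionNormal.FixUnique
import Cfsg.Agent.FusionNormal.CentralFocal
import Cfsg.Agent.FusionSub.Generation

/-!
# The largest subgroup centralized by a normal subsystem

The elements of `C_S(T)` fixed by a normal subsystem `E` over `T` generate a subgroup centralized by
`E`; hence there is a largest subgroup of `C_S(T)` centralized by `E`.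
-/

set_option autoImplicit false

universe u

namespace CfsgLib.FusionComponents

open Cfsg Cfsg.FusionSystem CfsgLib.Fusion CfsgLib.FusionClosed

variable {Ω : Type u} [Group Ω] {S T R : Subgroup Ω} {F : FusionSystem S} {E : FusionSystem T}
  {p : ℕ}

/-- The elements of `C_S(T)` centralized by `E`. -/
def fixedElts (F : FusionSystem S) (E : FusionSystem T) : Set Ω :=
  {c | c ∈ centralizerIn S T ∧ ∀ P, E.Hom P ⊆ F.centralizerHom (Subgroup.zpowers c) P}

/-- The automorphisms in `E` of a fully normalized centric subgroup fix these elements. -/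
theorem autGroup_le_fixClosure [Finite S] [Fact p.Prime] (hS : IsPGroup p S)
    (hE : E.IsNormalIn F p) (hTS : T ≤ S) {X : Subgroup Ω}
    (hX : X = Subgroup.closure (fixedElts F E)) (hXC : X ≤ centralizerIn S T)
    (hRT : R ≤ T) (hRn : F.IsFullyNormalized R) (hcen : centralizerIn T R ≤ R) :
    E.autGroup R ≤ (fixSystem F E X hTS hXC).autGroup R := by
  classical
  have hF := hE.1.2.1
  have hinv := hE.1.2.2
  have := finite_of_le hTS
  have hRS := hRT.trans hTS
  have := finite_of_le hRS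
  have := finite_mulAut (V := R)
  obtain ⟨σ, hσ, hσT⟩ := FusionNormal.exists_goodSection hS hF hE hRT hRn hcen
  have hXR : X ≤ centralizerIn S R := hXC.trans (centralizerIn_anti hRT)
  have hWS : R ⊔ centralizerIn S R ≤ S := sup_le hRS (centralizerIn_le S R)
  let H : Subgroup (E.autGroup R) :=
    { carrier := {a | ∀ (c : Ω) (hc : c ∈ X),
        σ a ⟨c, Subgroup.mem_sup_right (hXR hc)⟩ = ⟨c, Subgroup.mem_sup_right (hXR hc)⟩}
      one_mem' := fun c hc => by rw [map_one]; rfl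
      mul_mem' := fun {a b} ha hb c hc => by rw [map_mul, MulAut.mul_apply, hb c hc, ha c hc]
      inv_mem' := fun {a} ha c hc => by
        conv_lhs => rw [map_inv, ← ha c hc, MulAut.inv_apply_self] }
  have hsuff : ∀ a : E.autGroup R, (∀ c ∈ fixedElts F E, ∀ hc : c ∈ X,
      σ a ⟨c, Subgroup.mem_sup_right (hXR hc)⟩ = ⟨c, Subgroup.mem_sup_right (hXR hc)⟩) →
      a ∈ H := by
    intro a ha
    let Fix : Subgroup Ω :=
      { carrier := {x | ∃ w : ↥(R ⊔ centralizerIn S R), (w : Ω) = x ∧ σ a w = w}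
        one_mem' := ⟨1, rfl, map_one _⟩
        mul_mem' := fun {x y} ⟨w, hw, hw'⟩ ⟨v, hv, hv'⟩ =>
          ⟨w * v, by rw [Subgroup.coe_mul, hw, hv], by rw [map_mul, hw', hv']⟩
        inv_mem' := fun {x} ⟨w, hw, hw'⟩ =>
          ⟨w⁻¹, by rw [InvMemClass.coe_inv, hw], by rw [map_inv, hw']⟩ }
    have hle : X ≤ Fix := by
      conv_lhs => rw [hX]
      refine (Subgroup.closure_le _).2 fun c hc => ?_
      exact ⟨_, rfl, ha c hc (hX ▸ Subgroup.subset_closure hc)⟩
    intro c hc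
    obtain ⟨w, hw, hw'⟩ := hle hc
    rwa [show w = ⟨c, Subgroup.mem_sup_right (hXR hc)⟩ from Subtype.ext hw] at hw'
  have hH : H = ⊤ := by
    obtain ⟨⟨-, P, hP⟩, -⟩ := automized_receptive (hS.to_le hTS) hE.1.1
      (FusionNormal.fullyNormalized_of_le hS hF hinv hRT hRn)
    refine FusionNormal.eq_top_of_sylow_le P (fun a ha => ?_) fun a hap => ?_
    · rw [hP] at ha
      obtain ⟨t, ht, htN, hv⟩ := mem_autInducedBy_iff.1 (Subgroup.mem_subgroupOf.1 ha)
      refine hsuff a fun c hc hcX => Subtype.ext ?_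
      rw [hσT t ht htN a hv]
      show t * c * t⁻¹ = c
      rw [(mem_centralizerIn.1 hc.1).2 t ht, mul_inv_cancel_right]
    · refine hsuff a fun c hc hcX => Subtype.ext ?_
      have hσp : (orderOf (σ a)).Coprime p := hap.coprime_dvd_left (orderOf_map_dvd σ a)
      obtain ⟨-, -, -, θ, hθ, h1, h2⟩ := hc.2 R ((mem_autGroup_iff hRT).1 a.2)
      exact FusionNormal.goodLift_fix_of_fixed hS hF
        (fullyCentralized_of_normalized hS hF hRn) (hσ a) hσp (hXR hcX) hθ (fun r => h1 r)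
        (h2 ⟨c, Subgroup.mem_zpowers c⟩)
  intro a ha
  have hfix : (⟨a, ha⟩ : E.autGroup R) ∈ H := hH ▸ Subgroup.mem_top _
  obtain ⟨hσF, hσR, -⟩ := hσ ⟨a, ha⟩
  exact IsIso.mem_autGroup ⟨(mem_autGroup_iff hRT).1 ha,
    restrictHom ((R ⊔ centralizerIn S R).subtype.comp (σ ⟨a, ha⟩).toMonoidHom)
      (sup_le_sup_left hXR R), restrict_mem ((mem_autGroup_iff hWS).1 hσF) _,
    fun r => hσR r, fun c => congrArg Subtype.val (hfix c c.2)⟩

/-- Membership in the fixing system is transported along automorphisms preserving `X`. -/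
theorem mem_fixSystem_of_transport [Finite S] {hTS : T ≤ S} {X : Subgroup Ω}
    {hXC : X ≤ centralizerIn S T} {R₀ Rn : Subgroup Ω} (hR₀ : R₀ ≤ T) (hRn : Rn ≤ T)
    {β : MulAut ↥(T ⊔ centralizerIn S T)} (hβ : β ∈ F.autGroup (T ⊔ centralizerIn S T))
    (hβX : ∀ x (hx : x ∈ X), (β ⟨x, Subgroup.mem_sup_right (hXC hx)⟩ : Ω) ∈ X)
    {eα : R₀ ≃* Rn}
    (heα : ∀ y : R₀, (eα y : Ω) = (β ⟨y, Subgroup.mem_sup_left (hR₀ y.2)⟩ : Ω))
    {b : MulAut R₀} (hb : b ∈ E.autGroup R₀)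
    (hb' : MulAut.congr eα b ∈ (fixSystem F E X hTS hXC).autGroup Rn) :
    b ∈ (fixSystem F E X hTS hXC).autGroup R₀ := by
  have hTW : T ⊔ centralizerIn S T ≤ S := sup_le hTS (centralizerIn_le S T)
  have hXS : X ≤ S := hXC.trans (centralizerIn_le S T)
  have := finite_of_le hXS
  have := finite_of_le hTW
  obtain ⟨-, ψ, hψ, hψ1, hψ2⟩ := (mem_autGroup_iff hRn).1 hb'
  obtain ⟨W₀, hW₀⟩ : ∃ W₀, W₀ = R₀ ⊔ X := ⟨_, rfl⟩
  have hW₀W : W₀ ≤ T ⊔ centralizerIn S T := hW₀ ▸ sup_le_sup hR₀ hXC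
  have := finite_of_le (hW₀W.trans hTW)
  obtain ⟨e, he, hev⟩ := exists_iso_restrict ((mem_autGroup_iff hTW).1 hβ) hW₀W
  obtain ⟨W₁, hW₁⟩ : ∃ W₁, W₁ = imgHom ((T ⊔ centralizerIn S T).subtype.comp β.toMonoidHom) W₀ :=
    ⟨_, rfl⟩
  subst hW₁
  have hsurjX : ∀ x ∈ X, ∃ y ∈ X, ∀ hy : y ∈ T ⊔ centralizerIn S T, (β ⟨y, hy⟩ : Ω) = x := by
    intro x hx
    obtain ⟨q, hq⟩ := (Finite.injective_iff_surjective (f := fun x : X =>
      (⟨β ⟨x, Subgroup.mem_sup_right (hXC x.2)⟩, hβX x x.2⟩ : X))).1 (fun a b e => Subtype.ext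
        (congrArg Subtype.val (β.injective (Subtype.ext
          (congrArg (Subtype.val : X → Ω) e))) :)) ⟨x, hx⟩
    exact ⟨q, q.2, fun _ => congrArg Subtype.val hq⟩
  have hW₁ : imgHom ((T ⊔ centralizerIn S T).subtype.comp β.toMonoidHom) W₀ = Rn ⊔ X := by
    refine le_antisymm ?_ (sup_le (fun z hz => ?_) fun x hx => ?_)
    · rintro _ ⟨w, hw, rfl⟩
      exact forall_mem_sup ((T ⊔ centralizerIn S T).subtype.comp β.toMonoidHom)
        (hR₀.trans le_sup_left) (hXC.trans le_sup_right)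
        (fun y hy => Subgroup.mem_sup_left (by
          show (β ⟨y, _⟩ : Ω) ∈ Rn
          rw [← heα ⟨y, hy⟩]; exact Subtype.mem _))
        (fun y hy => Subgroup.mem_sup_right (hβX y hy)) w.2 (hW₀ ▸ hw)
    · refine ⟨⟨eα.symm ⟨z, hz⟩, Subgroup.mem_sup_left (hR₀ (Subtype.mem _))⟩,
        hW₀ ▸ Subgroup.mem_sup_left (eα.symm ⟨z, hz⟩).2, ?_⟩
      show (β _ : Ω) = z
      rw [← heα (eα.symm ⟨z, hz⟩), eα.apply_symm_apply]
    · obtain ⟨y, hy, hyx⟩ := hsurjX x hx
      exact ⟨⟨y, Subgroup.mem_sup_right (hXC hy)⟩, hW₀ ▸ Subgroup.mem_sup_right hy, hyx _⟩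
  have hW₁S := imgHom_le ((mem_autGroup_iff hTW).1 hβ) W₀
  have := finite_of_le hW₁S
  obtain ⟨ω, hω, hωv⟩ := exists_aut_restrict hψ hW₁.le fun w hw =>
    hW₁.ge <| forall_mem_sup ψ le_sup_left le_sup_right
      (fun y hy => Subgroup.mem_sup_left (by
        rw [show (⟨y, _⟩ : ↥(Rn ⊔ X)) = Subgroup.inclusion le_sup_left (⟨y, hy⟩ : Rn) from rfl,
          hψ1]
        exact Subtype.mem _))
      (fun y hy => Subgroup.mem_sup_right (by
        rw [show (⟨y, _⟩ : ↥(Rn ⊔ X)) = Subgroup.inclusion le_sup_right (⟨y, hy⟩ : X) from rfl,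
          hψ2]
        exact hy)) (hW₁.le hw) (hW₁.le hw)
  have hle : R₀ ⊔ X ≤ W₀ := hW₀.ge
  refine IsIso.mem_autGroup ⟨(mem_autGroup_iff hR₀).1 hb,
    restrictHom (W₀.subtype.comp (MulAut.congr e.symm ω).toMonoidHom) hle,
    restrict_mem ((mem_autGroup_iff (hW₀W.trans hTW)).1 (congr_mem_autGroup he.symm hω)) hle,
    fun y => ?_, fun x => ?_⟩
  · have h1 : ω (e ⟨y, hle (Subgroup.mem_sup_left y.2)⟩) =
        e ⟨b y, hle (Subgroup.mem_sup_left (b y).2)⟩ := by
      refine Subtype.ext ((hωv _).trans (Eq.trans ?_ (hev _).symm))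
      refine Eq.trans ?_ (((hψ1 (eα y)).trans (congrArg Subtype.val (congr_apply b y))).trans
        (heα (b y)))
      exact congrArg ψ (Subtype.ext ((hev _).trans (heα y).symm))
    show ((e.symm (ω (e ⟨y, _⟩)) : W₀) : Ω) = (b y : Ω)
    rw [h1, e.symm_apply_apply]
  · have hxX : (e ⟨x, hle (Subgroup.mem_sup_right x.2)⟩ : Ω) ∈ X := by
      rw [hev]; exact hβX x x.2
    have h1 : ω (e ⟨x, hle (Subgroup.mem_sup_right x.2)⟩) =
        e ⟨x, hle (Subgroup.mem_sup_right x.2)⟩ :=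
      Subtype.ext ((hωv _).trans (hψ2 ⟨_, hxX⟩))
    show ((e.symm (ω (e ⟨x, _⟩)) : W₀) : Ω) = (x : Ω)
    rw [h1, e.symm_apply_apply]

/-- **The largest subgroup centralized by a normal subsystem.** -/
theorem exists_largest_centralized [Finite S] [Fact p.Prime] (hS : IsPGroup p S)
    (hE : E.IsNormalIn F p) :
    ∃ Y : Subgroup Ω, Y ≤ centralizerIn S T ∧ (∀ P, E.Hom P ⊆ F.centralizerHom Y P) ∧
      ∀ Y' : Subgroup Ω, Y' ≤ centralizerIn S T →
        (∀ P, E.Hom P ⊆ F.centralizerHom Y' P) → Y' ≤ Y := by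
  classical
  have hF := hE.1.2.1
  have hinv := hE.1.2.2
  have hEs := hE.1.1
  have hT := hinv.2.1
  have hTS := hT.1
  have := finite_of_le hTS
  have hTp : IsPGroup p T := hS.to_le hTS
  obtain ⟨X, hX⟩ : ∃ X, X = Subgroup.closure (fixedElts F E) := ⟨_, rfl⟩
  have hXC : X ≤ centralizerIn S T := hX ▸ (Subgroup.closure_le _).2 fun c hc => hc.1
  have hTC : T ⊔ centralizerIn S T ≤ S := sup_le hTS (centralizerIn_le S T)
  refine ⟨X, hXC, fun P φ hφ => ?_, fun Y' hY' hEY' c hc => hX ▸ Subgroup.subset_closure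
    ⟨hY' hc, fun P φ hφ => centralizerHom_anti (Subgroup.zpowers_le.2 hc) P (hEY' P hφ)⟩⟩
  have hEK : E ≤ fixSystem F E X hTS hXC := by
    refine FusionSub.le_of_autGroups_induction hTp hEs _ fun R hR hRc _ IH a ha => ?_
    have hRT := hR.1
    have hRS : R ≤ S := hRT.trans hTS
    have := finite_of_le hRS
    rcases eq_or_ne R T with rfl | hne
    · exact autGroup_le_fixClosure hS hE hTS hX hXC le_rfl
        (FusionLayer.isFullyNormalized_of_stronglyClosed hT)
        (centralizerIn_le_of_centric hRc) ha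
    obtain ⟨Rn, hconj, hRn⟩ := exists_fullyNormalized (F := F) hRS
    obtain ⟨hRna, hRnr⟩ := automized_receptive hS hF hRn
    obtain ⟨η, hη, -, hηR⟩ := exists_map_normalizerIn hS hRna hRnr hconj
    have hNle : normalizerIn T R ≤ normalizerIn S R := fun x hx => ⟨hTS hx.1, hx.2⟩
    obtain ⟨α, hα, ψ₀, hψ₀, hψ₀v⟩ := hinv.2.2.2 _ (normalizerIn_le T R) _ (restrict_mem hη hNle)
    have hRN : R ≤ normalizerIn T R := le_normalizerIn hRT
    have := finite_of_le (normalizerIn_le T R)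
    have hlt : Nat.card R < Nat.card (normalizerIn T R) := Set.Finite.card_lt_card (Set.toFinite _)
      (lt_normalizerIn hTp (lt_of_le_of_ne hRT hne))
    obtain ⟨e₀, he₀, he₀v⟩ := exists_iso_restrict (IH _ hlt hψ₀) hRN
    have he₀E : IsIso E e₀ := mem_congr (restrict_mem hψ₀ hRN) he₀v
    have hR₀T : imgHom ψ₀ R ≤ T := imgHom_le hψ₀ R
    obtain ⟨β, hβ, hβα, -⟩ := FusionLayer.exists_ext_centralizer
      (automized_receptive hS hF (FusionLayer.isFullyNormalized_of_stronglyClosed hT)).2 hα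
    have hval : ∀ x : R, (η ⟨x, hNle (hRN x.2)⟩ : Ω) =
        (β ⟨(e₀ x : Ω), Subgroup.mem_sup_left (hR₀T (e₀ x).2)⟩ : Ω) := fun x => by
      refine (hψ₀v ⟨x, hRN x.2⟩ (apply_mem hψ₀ _)).trans ((hβα _).symm.trans ?_)
      exact congrArg (fun w : ↥(T ⊔ centralizerIn S T) => (β w : Ω))
        (Subtype.ext (he₀v x).symm)
    have hRnT : Rn ≤ T := by
      rw [← hηR]
      rintro _ ⟨w, hw, rfl⟩
      exact apply_mem_stronglyClosed hT hη (hRT hw)
    obtain ⟨eα, heα, heαv⟩ := exists_iso (Q := Rn) (restrict_mem ((mem_autGroup_iff hTC).1 hβ)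
        (hR₀T.trans (le_sup_left : T ≤ T ⊔ centralizerIn S T))) (by
      ext z
      rw [← hηR]
      constructor
      · rintro ⟨w, rfl⟩
        obtain ⟨x, rfl⟩ := e₀.surjective w
        exact ⟨⟨x, hNle (hRN x.2)⟩, x.2, hval x⟩
      · rintro ⟨w, hw, rfl⟩
        exact ⟨e₀ ⟨w, hw⟩, (hval ⟨w, hw⟩).symm⟩)
    have hcR₀ : MulAut.congr e₀ a ∈ E.autGroup (imgHom ψ₀ R) := congr_mem_autGroup he₀E ha
    have hcRn : MulAut.congr eα (MulAut.congr e₀ a) ∈ E.autGroup Rn :=
      congr_mem_of_invariant (strongInvariant_of_invariant hinv) hR₀T hRnT heα hcR₀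
    have hcen := FusionNormal.centralizerIn_le_of_isConj hinv hRc hconj
    have hβX : ∀ x (hx : x ∈ X), (β ⟨x, Subgroup.mem_sup_right (hXC hx)⟩ : Ω) ∈ X := by
      have hle : X ≤ (X.comap ((T ⊔ centralizerIn S T).subtype.comp β.toMonoidHom)).map
          (T ⊔ centralizerIn S T).subtype := by
        conv_lhs => rw [hX]
        refine (Subgroup.closure_le _).2 fun c hc => ?_
        refine ⟨⟨c, Subgroup.mem_sup_right hc.1⟩, ?_, rfl⟩
        show (β _ : Ω) ∈ X
        obtain ⟨h1, h2⟩ := centralized_image hinv (Subgroup.zpowers_le.2 hc.1) hc.2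
          ((mem_autGroup_iff hTC).1 hβ) le_sup_left
        have hmem : (β ⟨c, Subgroup.mem_sup_right hc.1⟩ : Ω) ∈
            imgHom ((T ⊔ centralizerIn S T).subtype.comp β.toMonoidHom)
              (Subgroup.zpowers c ⊓ (T ⊔ centralizerIn S T)) :=
          ⟨⟨c, Subgroup.mem_sup_right hc.1⟩,
            ⟨Subgroup.mem_zpowers c, Subgroup.mem_sup_right hc.1⟩, rfl⟩
        rw [hX]
        exact Subgroup.subset_closure ⟨h1 hmem, fun P φ hφ =>
          centralizerHom_anti (Subgroup.zpowers_le.2 hmem) P (h2 P hφ)⟩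
      intro x hx
      obtain ⟨w, hw, hwx⟩ := hle hx
      subst hwx
      exact hw
    have h0 := mem_fixSystem_of_transport hR₀T hRnT hβ hβX heαv hcR₀
      (autGroup_le_fixClosure hS hE hTS hX hXC hRnT hRn hcen hcRn)
    exact (congr_mem_autGroup_iff he₀).1 h0
  obtain ⟨hφE, ψ, hψ, h1, h2⟩ := hEK P hφ
  refine ⟨hinv.1 P hφE, fun z hz => ?_, fun z => ?_, ψ, hψ, h1, h2⟩
  · exact mem_centralizerIn.2 ⟨hTS (le_left hφE hz), fun x hx =>
      ((mem_centralizerIn.1 (hXC hx)).2 z (le_left hφE hz)).symm⟩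
  · exact mem_centralizerIn.2 ⟨hTS (apply_mem hφE z), fun x hx =>
      ((mem_centralizerIn.1 (hXC hx)).2 _ (apply_mem hφE z)).symm⟩

end CfsgLib.FusionComponents
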