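import Cfsg.Agent.FusionComponents.TrivExtMod
import Cfsg.Agent.FusionLayer.Product.Normal

/-!
# Normal subsystems of the factors of a central product
-/

set_option autoImplicit false

namespace CfsgLib.FusionComponents

open Cfsg Cfsg.FusionSystem CfsgLib.Fusion CfsgLib.FusionClosed CfsgLib.FusionLayer.Product

variable {Ω : Type*} [Group Ω] {T₁ T₂ T U : Subgroup Ω} {E₁ : FusionSystem T₁}
  {E₂ : FusionSystem T₂} {D : FusionSystem T} {C : FusionSystem U} {p : ℕ}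

/-- The factors of a central product may be exchanged. -/
theorem prodMaps_swap (hD : ProdMaps E₁ E₂ D) (hc : ∀ a ∈ T₁, ∀ b ∈ T₂, a * b = b * a) :
    ProdMaps E₂ E₁ D := by
  intro P φ
  rw [hD P φ]
  constructor
  · rintro ⟨P₁, P₂, φ₁, hφ₁, φ₂, hφ₂, hex, hv⟩
    refine ⟨P₂, P₁, φ₂, hφ₂, φ₁, hφ₁, fun x => ?_, fun x b a e => ?_⟩
    · obtain ⟨a, b, e⟩ := hex x
      exact ⟨b, a, (hc _ (le_left hφ₁ a.2) _ (le_left hφ₂ b.2)).symm.trans e⟩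
    · rw [← hc _ (le_left hφ₁ a.2) _ (le_left hφ₂ b.2)] at e
      rw [hv x a b e]
      exact hc _ (apply_mem hφ₁ a) _ (apply_mem hφ₂ b)
  · rintro ⟨P₂, P₁, φ₂, hφ₂, φ₁, hφ₁, hex, hv⟩
    refine ⟨P₁, P₂, φ₁, hφ₁, φ₂, hφ₂, fun x => ?_, fun x a b e => ?_⟩
    · obtain ⟨b, a, e⟩ := hex x
      exact ⟨a, b, (hc _ (le_left hφ₁ a.2) _ (le_left hφ₂ b.2)).trans e⟩
    · rw [hc _ (le_left hφ₁ a.2) _ (le_left hφ₂ b.2)] at e
      rw [hv x b a e]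
      exact (hc _ (apply_mem hφ₁ a) _ (apply_mem hφ₂ b)).symm

/-- The first factor is a subsystem. -/
theorem left_isSubsystemOf [Finite T₁] [Finite T₂] (hD : ProdMaps E₁ E₂ D)
    (hZ₁ : T₁ ⊓ T₂ ≤ E₁.center) (hZ₂ : T₁ ⊓ T₂ ≤ E₂.center) : E₁.IsSubsystemOf D :=
  fun P φ hφ => hD.mk_mem hZ₁ hZ₂ hφ (subtype_mem (F := E₂) bot_le) fun x =>
    ⟨x, (1 : (⊥ : Subgroup Ω)), mul_one _, (mul_one _).symm⟩

/-- On the first factor the product has only the maps of that factor. -/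
theorem mem_left_of_le [Finite T₁] [Finite T₂] (hD : ProdMaps E₁ E₂ D)
    (hZ₁ : T₁ ⊓ T₂ ≤ E₁.center) (hZ₂ : T₁ ⊓ T₂ ≤ E₂.center) {P : Subgroup Ω} {φ : P →* Ω}
    (hφ : φ ∈ D.Hom P) (hP : P ≤ T₁) : φ ∈ E₁.Hom P := by
  obtain ⟨P₁, P₂, φ₁, hφ₁, φ₂, hφ₂, hex, hv⟩ := (hD P φ).1 hφ
  obtain ⟨ψ₁, hψ₁, h11, h12⟩ := exists_ext_center hφ₁
  obtain ⟨ψ₂, hψ₂, h21, h22⟩ := exists_ext_center hφ₂
  have key : ∀ x : P, ∃ h : (x : Ω) ∈ P₁ ⊔ E₁.center, φ x = ψ₁ ⟨x, h⟩ := by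
    intro x
    obtain ⟨a, b, e⟩ := hex x
    have hb : (b : Ω) ∈ T₁ ⊓ T₂ := by
      refine ⟨?_, le_left hφ₂ b.2⟩
      rw [← inv_mul_cancel_left (a : Ω) (b : Ω), e]
      exact T₁.mul_mem (T₁.inv_mem (le_left hφ₁ a.2)) (hP x.2)
    have hbZ : (b : Ω) ∈ E₁.center := hZ₁ hb
    refine ⟨e ▸ Subgroup.mul_mem_sup a.2 hbZ, ?_⟩
    rw [show (⟨(x : Ω), _⟩ : ↥(P₁ ⊔ E₁.center)) =
      (Subgroup.inclusion le_sup_left a : ↥(P₁ ⊔ E₁.center)) * Subgroup.inclusion le_sup_right (⟨b, hbZ⟩ : E₁.center) from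
        Subtype.ext e.symm, map_mul, h11, h12, hv x a b e]
    refine congrArg (φ₁ a * ·) ((h21 b).symm.trans ?_)
    exact h22 ⟨b, hZ₂ hb⟩
  exact mem_of_agree hψ₁ (fun x hx => (key ⟨x, hx⟩).1) fun x => (key x).2

/-- **A normal subsystem of a factor is normal in the central product.** -/
theorem isNormalIn_of_prodMaps [Finite T₁] [Finite T₂] [Finite T] (hD : ProdMaps E₁ E₂ D)
    (hT : T = T₁ ⊔ T₂) (hDs : D.IsSaturated p) (hc : ∀ a ∈ T₁, ∀ b ∈ T₂, a * b = b * a)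
    (hZ₁ : T₁ ⊓ T₂ ≤ E₁.center) (hZ₂ : T₁ ⊓ T₂ ≤ E₂.center) (hC : C.IsNormalIn E₁ p) :
    C.IsNormalIn D p := by
  classical
  subst hT
  obtain ⟨⟨hCs, -, hCE, hU, hCai, hCfr⟩, hCext⟩ := hC
  have hUT₁ := hU.1
  have hUT : U ≤ T₁ ⊔ T₂ := hUT₁.trans le_sup_left
  have := finite_of_le hUT₁
  have hsub := left_isSubsystemOf hD hZ₁ hZ₂
  refine ⟨⟨hCs, hDs, fun P φ h => hsub P (hCE P h), ⟨hUT, fun R hR φ hφ x =>
      hU.2 R hR φ (mem_left_of_le hD hZ₁ hZ₂ hφ (hR.trans hUT₁)) x⟩, ?_, ?_⟩, fun α hα => ?_⟩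
  · intro P hP φ hφ α hα
    exact hCai P hP φ hφ α ((mem_autGroup_iff hUT₁).2
      (mem_left_of_le hD hZ₁ hZ₂ ((mem_autGroup_iff hUT).1 hα) hUT₁))
  · intro P hP φ hφ
    obtain ⟨α, hα, φ₀, hφ₀, hv⟩ :=
      hCfr P hP φ (mem_left_of_le hD hZ₁ hZ₂ hφ (hP.trans hUT₁))
    exact ⟨α, (mem_autGroup_iff hUT).2 (hsub U ((mem_autGroup_iff hUT₁).1 hα)), φ₀, hφ₀, hv⟩
  -- the extension condition
  obtain ⟨β₀, hβ₀, hβ₀U, hβ₀C⟩ := hCext α hα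
  have hW₁ : U ⊔ centralizerIn T₁ U ≤ T₁ := sup_le hUT₁ (centralizerIn_le T₁ U)
  have hψ₁ := (mem_autGroup_iff hW₁).1 hβ₀
  have hψ₂ : T₂.subtype ∈ E₂.Hom T₂ := subtype_mem le_rfl
  obtain ⟨W, hW⟩ : ∃ W, W = U ⊔ centralizerIn (T₁ ⊔ T₂) U := ⟨_, rfl⟩
  have hT₂U : ∀ b ∈ T₂, ∀ u ∈ U, u * b = b * u := fun b hb u hu => hc u (hUT₁ hu) b hb
  have hdec : ∀ c ∈ centralizerIn (T₁ ⊔ T₂) U, ∃ a ∈ centralizerIn T₁ U, ∃ b ∈ T₂, a * b = c := by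
    intro c hcm
    obtain ⟨a, ha, b, hb, e⟩ := exists_mul_eq hc hcm.1
    refine ⟨a, mem_centralizerIn.2 ⟨ha, fun u hu => ?_⟩, b, hb, e⟩
    have h1 := (mem_centralizerIn.1 hcm).2 u hu
    rw [← e] at h1
    apply mul_right_cancel (b := b)
    rw [mul_assoc, h1, mul_assoc a b u, ← hT₂U b hb u hu, ← mul_assoc]
  have hdecW : ∀ x : W, ∃ (a : ↥(U ⊔ centralizerIn T₁ U)) (b : T₂), (a : Ω) * b = x := by
    intro x
    have hCn : centralizerIn (T₁ ⊔ T₂) U ≤ Subgroup.normalizer (U : Set Ω) :=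
      (centralizerIn_le_normalizerIn _ U).trans inf_le_right
    obtain ⟨u, hu, c, hcm, e⟩ := FusionLayer.exists_mul_of_mem_sup hCn (hW.le x.2)
    obtain ⟨a, ha, b, hb, e'⟩ := hdec c hcm
    exact ⟨⟨u * a, Subgroup.mul_mem_sup hu ha⟩, ⟨b, hb⟩, by rw [← e, ← e', mul_assoc]⟩
  choose fa fb hfab using hdecW
  obtain ⟨ψ, hψ⟩ : ∃ ψ, ψ = (U ⊔ centralizerIn T₁ U).subtype.comp β₀.toMonoidHom := ⟨_, rfl⟩
  have hψ₁ : ψ ∈ E₁.Hom _ := hψ ▸ hψ₁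
  have huniq : ∀ (x : W) (a : ↥(U ⊔ centralizerIn T₁ U)) (b : T₂), (a : Ω) * b = x →
      ψ (fa x) * (fb x : Ω) = ψ a * (b : Ω) := fun x a b e =>
    decomp_unique hZ₁ hZ₂ hψ₁ hψ₂ ((hfab x).trans e.symm)
  let f : W →* Ω := MonoidHom.mk' (fun x => ψ (fa x) * (fb x : Ω)) fun x y => by
    have e : ((fa x * fa y : ↥(U ⊔ centralizerIn T₁ U)) : Ω) * ((fb x * fb y : T₂) : Ω) =
        ((x * y : W) : Ω) := by
      simp only [Subgroup.coe_mul]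
      rw [← hfab x, ← hfab y,
        mul_assoc (fa x : Ω) (fa y : Ω), ← mul_assoc (fa y : Ω) (fb x : Ω),
        hc _ (hW₁ (fa y).2) _ (fb x).2]
      simp only [mul_assoc]
    show ψ (fa (x * y)) * (fb (x * y) : Ω) = _
    rw [huniq _ _ _ e, map_mul, Subgroup.coe_mul, mul_assoc (ψ (fa x)),
      ← mul_assoc (ψ (fa y)), hc _ (apply_mem hψ₁ _) _ (fb x).2]
    simp only [mul_assoc]
  have hfD : f ∈ D.Hom W := hD.mk_mem hZ₁ hZ₂ hψ₁ hψ₂ fun x => ⟨fa x, fb x, hfab x, rfl⟩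
  have hfv : ∀ (x : W) (a : ↥(U ⊔ centralizerIn T₁ U)) (b : T₂), (a : Ω) * b = x →
      f x = ψ a * (b : Ω) := huniq
  have hfU : ∀ (u : Ω) (hu : u ∈ U) (h : u ∈ W), f ⟨u, h⟩ = (α ⟨u, hu⟩ : Ω) := fun u hu h => by
    rw [hfv ⟨u, h⟩ ⟨u, Subgroup.mem_sup_left hu⟩ 1 (mul_one u), hψ]
    exact (mul_one _).trans (hβ₀U ⟨u, hu⟩)
  have hfC : ∀ (c : Ω) (hcm : c ∈ centralizerIn (T₁ ⊔ T₂) U) (h : c ∈ W),
      c⁻¹ * f ⟨c, h⟩ ∈ U ⊓ Subgroup.centralizer (U : Set Ω) := fun c hcm h => by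
    obtain ⟨a, ha, b, hb, e⟩ := hdec c hcm
    rw [hfv ⟨c, h⟩ ⟨a, Subgroup.mem_sup_right ha⟩ ⟨b, hb⟩ e, hψ]
    have h1 := hβ₀C ⟨a, Subgroup.mem_sup_right ha⟩ ha
    show c⁻¹ * ((β₀ ⟨a, _⟩ : Ω) * b) ∈ _
    rw [← e, mul_inv_rev, mul_assoc, ← mul_assoc a⁻¹, hT₂U b hb _ h1.1, inv_mul_cancel_left]
    exact h1
  subst hW
  obtain ⟨β, hβ, hβv⟩ := exists_aut_restrict hfD le_rfl fun x hx =>
    forall_mem_sup f le_sup_left le_sup_right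
      (fun y hy => Subgroup.mem_sup_left (by rw [hfU y hy]; exact Subtype.mem _))
      (fun y hy => by
        have h := hfC y hy (Subgroup.mem_sup_right hy)
        have := Subgroup.mul_mem (U ⊔ centralizerIn (T₁ ⊔ T₂) U) (Subgroup.mem_sup_right hy)
          (Subgroup.mem_sup_left h.1)
        rwa [mul_inv_cancel_left] at this) hx hx
  refine ⟨β, hβ, fun x => (hβv _).trans (hfU x x.2 _), fun c hcm => ?_⟩
  rw [hβv]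
  exact hfC c hcm c.2

end CfsgLib.FusionComponents
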