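import Cfsg.Agent.FusionComponents.Mutual
import Cfsg.Agent.FusionComponents.Char
import Cfsg.Agent.FusionComponents.Largest
import Cfsg.Agent.FusionComponents.ProdNormal
import Cfsg.Agent.FusionSub.LayerChar

/-!
# Components are normal in the layer
-/

set_option autoImplicit false

universe u

namespace CfsgLib.FusionComponents

open Cfsg Cfsg.FusionSystem CfsgLib.Fusion CfsgLib.FusionLayer.Product

variable {Ω : Type u} [Group Ω] {S T U : Subgroup Ω} {F : FusionSystem S} {E : FusionSystem T}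
  {p : ℕ}

/-- An automorphism of `F` on the subgroup under a normal subsystem is a morphism of it. -/
theorem isMorphism_of_autGroup (hE : E.IsNormalIn F p) {α : MulAut T} (hα : α ∈ F.autGroup T) :
    E.IsMorphism E (T.subtype.comp α.toMonoidHom) := by
  refine ⟨fun s => (α s).2, fun P φ hφ => ?_⟩
  obtain ⟨χ, hχ, hv⟩ := hE.1.2.2.2.2.1 P (le_left hφ) φ hφ α hα
  exact ⟨χ, hχ, le_left hφ, apply_mem hφ, fun x => ⟨⟨x, le_left hφ x.2⟩, x.2, rfl⟩,
    fun x => hv x (apply_mem hφ x) _⟩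

/-- **The layer of a normal subsystem is normal.** -/
theorem layer_isNormalIn [Finite S] [Fact p.Prime] (hS : IsPGroup p S) (hE : E.IsNormalIn F p)
    {L : FusionSystem U} (hL : L.IsLayerOf E p) : L.IsNormalIn F p := by
  have hTS := hE.1.2.2.2.1.1
  have := finite_of_le hTS
  have hinvL : ∀ α ∈ F.autGroup T, imageAlong (T.subtype.comp α.toMonoidHom) U = U ∧
      ∀ (P : Subgroup Ω) (φ : P →* Ω), φ ∈ L.Hom P →
        ∀ φ' : imageAlong (T.subtype.comp α.toMonoidHom) P →* Ω,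
          InducedAlong (T.subtype.comp α.toMonoidHom) φ φ' →
            φ' ∈ L.Hom (imageAlong (T.subtype.comp α.toMonoidHom) P) := fun α hα =>
    FusionSub.layer_invariant (hS.to_le hTS) α (isMorphism_of_autGroup hE hα)
      (isMorphism_of_autGroup hE (inv_mem hα)) L hL
  refine isNormalIn_of_invariant_normal hS hE hL.1 (fun α hα x hx => ?_)
    fun α hα P hPT φ hφ => ?_
  · exact (hinvL α hα).1.le ⟨x, hx, rfl⟩
  · obtain ⟨χ, hχ, hv⟩ := hE.1.2.2.2.2.1 P hPT φ (hL.1.1.2.2.1 P hφ) α hα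
    exact ⟨χ, (hinvL α hα).2 P φ hφ χ ⟨hPT, apply_mem (hL.1.1.2.2.1 P hφ),
      fun x => ⟨⟨x, hPT x.2⟩, x.2, rfl⟩,
      fun x => hv x (apply_mem (hL.1.1.2.2.1 P hφ) x) _⟩, hv⟩

/-- The layer of the layer is the layer. -/
theorem layer_isLayerOf_self [Finite S] [Fact p.Prime] (hS : IsPGroup p S)
    (hE : E.IsLayerOf F p) : E.IsLayerOf E p := by
  have hTS := hE.1.1.2.2.2.1.1
  have := finite_of_le hTS
  obtain ⟨U, L, hL⟩ := exists_layer (hS.to_le hTS) hE.1.1.1
  have hEL : E.IsSubsystemOf L := hE.2.2 U L (layer_isNormalIn hS hE.1 hL) fun V C hC =>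
    hL.2.1 V C (isComponentIn_of_le hS hC hE.1 (hE.2.1 V C hC))
  obtain ⟨rfl, hhom⟩ := eq_of_isSubsystemOf hEL hL.1.1.2.2.1
  obtain rfl := fusionSystem_ext hhom
  exact hL

/-- A subnormal subsystem is the whole system or lies in a proper normal subsystem. -/
theorem exists_proper_normal {C : FusionSystem U} (h : C.IsSubnormalIn F p) :
    (U = S ∧ ∀ P, C.Hom P = F.Hom P) ∨ ∃ (V : Subgroup Ω) (D : FusionSystem V),
      D.IsNormalIn F p ∧ C.IsSubnormalIn D p ∧
        ∃ (P : Subgroup Ω) (φ : P →* Ω), φ ∈ F.Hom P ∧ φ ∉ D.Hom P := by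
  induction h with
  | refl F p => exact Or.inl ⟨rfl, fun _ => rfl⟩
  | @step V S' C D F p hsn hD ih =>
    by_cases hp : ∃ (P : Subgroup Ω) (φ : P →* Ω), φ ∈ F.Hom P ∧ φ ∉ D.Hom P
    · exact Or.inr ⟨_, D, hD, hsn, hp⟩
    push Not at hp
    obtain ⟨rfl, hhom⟩ := eq_of_isSubsystemOf hD.1.2.2.1 (show F.IsSubsystemOf D from hp)
    obtain rfl := fusionSystem_ext hhom
    exact ih

theorem component_isNormalIn_aux [Fact p.Prime] : ∀ (n : ℕ) {S : Subgroup Ω} [Finite S]
    (_ : IsPGroup p S) (F : FusionSystem S), (FusionLayer.mapsSet F).ncard ≤ n →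
      ∀ {T : Subgroup Ω} (E : FusionSystem T), E.IsLayerOf F p →
        ∀ {U : Subgroup Ω} (C : FusionSystem U), C.IsComponentIn F p → C.IsNormalIn E p := by
  intro n
  induction n using Nat.strong_induction_on with
  | _ n ih =>
  intro S _ hS F hn T E hE U C hC
  have hF := hE.1.1.2.1
  have hTS := hE.1.1.2.2.2.1.1
  have := finite_of_le hTS
  by_cases hp : ∃ (P : Subgroup Ω) (φ : P →* Ω), φ ∈ F.Hom P ∧ φ ∉ E.Hom P
  · exact ih _ ((FusionLayer.mapsSet_ncard_lt hE.1.1.2.2.1 hp).trans_le hn) (hS.to_le hTS) E le_rfl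
      E (layer_isLayerOf_self hS hE) C (isComponentIn_of_le hS hC hE.1 (hE.2.1 U C hC))
  push Not at hp
  obtain ⟨rfl, hhom⟩ := eq_of_isSubsystemOf hE.1.1.2.2.1 (show F.IsSubsystemOf E from hp)
  obtain rfl := fusionSystem_ext hhom
  rcases exists_proper_normal hC.1 with ⟨rfl, hCF⟩ | ⟨V, D, hD, hsn, hproper⟩
  · obtain rfl := fusionSystem_ext hCF
    exact hE.1
  have hVS := hD.1.2.2.2.1.1
  have := finite_of_le hVS
  obtain ⟨TN, N, hNlayer⟩ := exists_layer (hS.to_le hVS) hD.1.1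
  have hN := layer_isNormalIn hS hD hNlayer
  have hCN : C.IsNormalIn N p :=
    ih _ ((FusionLayer.mapsSet_ncard_lt hD.1.2.2.1 hproper).trans_le hn) (hS.to_le hVS) D le_rfl
      N hNlayer C ⟨hsn, hC.2⟩
  obtain ⟨Y, hY, hNY, hmax⟩ := exists_largest_centralized hS hN
  obtain ⟨M, hM, hMN⟩ := exists_normal_centralizer hS hN hY hNY hmax
  have hNS := hN.1.2.2.2.1.1
  have hYS := hM.1.2.2.2.1.1
  have := finite_of_le hNS
  have := finite_of_le hYS
  have hc : ∀ a ∈ TN, ∀ b ∈ Y, a * b = b * a := fun a ha b hb =>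
    (mem_centralizerIn.1 (hY hb)).2 a ha
  have hZ₁ : TN ⊓ Y ≤ N.center := by
    refine le_sSup (isCentral_of_forall (hS.to_le hNS) hN.1.1 inf_le_left fun x hx y hy => ?_)
    obtain ⟨φ, hφ, rfl⟩ := hy
    obtain ⟨-, -, -, ψ, -, h1, h2⟩ := hNY _ hφ
    exact (h1 ⟨x, Subgroup.mem_zpowers x⟩).symm.trans (h2 ⟨x, hx.2⟩)
  have hZ₂ : TN ⊓ Y ≤ M.center := by
    refine le_sSup (isCentral_of_forall (hS.to_le hYS) hM.1.1 inf_le_right fun x hx y hy => ?_)
    obtain ⟨φ, hφ, rfl⟩ := hy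
    obtain ⟨-, -, -, ψ, -, h1, h2⟩ := hMN _ hφ
    exact (h1 ⟨x, Subgroup.mem_zpowers x⟩).symm.trans (h2 ⟨x, hx.1⟩)
  obtain ⟨P, hPs, -, hP⟩ := exists_central_product (hS.to_le hNS) (hS.to_le hYS) hN.1.1 hM.1.1 hc
    hZ₁ hZ₂
  have hPn := isNormalIn_product hS hN hM hc hZ₁ hZ₂ hPs hP
  have hNP := left_isSubsystemOf hP hZ₁ hZ₂
  have hMP : M.IsSubsystemOf P := left_isSubsystemOf (prodMaps_swap hP hc)
    (by rw [inf_comm]; exact hZ₂) (by rw [inf_comm]; exact hZ₁)
  have hall : ∀ (W : Subgroup Ω) (C' : FusionSystem W), C'.IsComponentIn E p →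
      C'.IsSubsystemOf P := by
    intro W C' hC'
    rcases component_mutual hS hC' hN with h | ⟨hW, -, hNW⟩
    · exact fun Q φ h' => hNP Q (h Q h')
    rcases component_mutual hS hC' hM with h | ⟨-, hC'Y, -⟩
    · exact fun Q φ h' => hMP Q (h Q h')
    · have := finite_of_le (le_of_isSubsystemOf (isSubsystemOf_of_subnormal hC'.1))
      exact (not_centralized hC'.2 (hmax W hW hNW) hC'Y).elim
  obtain ⟨hPS, hhom⟩ := eq_of_isSubsystemOf hPn.1.2.2.1 (hE.2.2 _ P hPn hall)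
  subst hPS
  obtain rfl := fusionSystem_ext hhom
  exact isNormalIn_of_prodMaps hP rfl hPs hc hZ₁ hZ₂ hCN

/-- **Components are normal in the layer.** -/
theorem component_isNormalIn_layer [Finite S] [Fact p.Prime] (hS : IsPGroup p S)
    (hE : E.IsLayerOf F p) {C : FusionSystem U} (hC : C.IsComponentIn F p) : C.IsNormalIn E p :=
  component_isNormalIn_aux _ hS F le_rfl E hE C hC

/-- **Components are normal in the generalized Fitting subsystem.** -/
theorem component_isNormalIn_fitting [Finite S] [Fact p.Prime] (hS : IsPGroup p S)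
    (hF : F.IsSaturated p) {C : FusionSystem U} (hC : C.IsComponentIn F p) {V : Subgroup Ω}
    {D : FusionSystem V} (hD : D.IsGeneralizedFittingOf F p) : C.IsNormalIn D p := by
  obtain ⟨T', E', hE', rfl, -, hDp, hDn, hc, hZ₁, hZ₂⟩ := generalizedFitting_spec hS hF hD
  have := finite_of_le hE'.1.1.2.2.2.1.1
  have := finite_of_le (FusionFactor.isNormal_core F).1
  have := finite_of_le hDn.1.2.2.2.1.1
  exact isNormalIn_of_prodMaps (prodMaps_swap hDp hc) (sup_comm _ _) hDn.1.1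
    (fun a ha b hb => (hc b hb a ha).symm) (by rw [inf_comm]; exact hZ₂)
    (by rw [inf_comm]; exact hZ₁) (component_isNormalIn_layer hS hE' hC)

end CfsgLib.FusionComponents
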