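import Cfsg.Agent.FusionComponents.GenAux

/-!
# Extensions inside the generated system

At a member `R` with the largest normalizer, every element `γ` of `J R` carrying a subgroup `Z` of
`Aut_D(R)` into `Aut_D(R)` extends to a map of the generated system on `N_D^Z(R)`. The proof is
Alperin's argument in the finite group `J R`.
-/

set_option autoImplicit false
set_option linter.unusedSectionVars false

namespace CfsgLib.FusionComponents

open Cfsg Cfsg.FusionSystem CfsgLib.Fusion CfsgLib.FusionClosed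

variable {Ω : Type*} [Group Ω] {S D : Subgroup Ω} {F : FusionSystem S}
  {J : ∀ P : Subgroup Ω, Subgroup (MulAut P)} {p : ℕ} {R : Subgroup Ω}

theorem le_kNormalizer (hR : R ≤ D) {Z : Subgroup (MulAut R)} (hI : Inn R ≤ Z) :
    R ≤ kNormalizer D R Z := fun q hq => mem_kNormalizer.2 ⟨hR hq,
  R.normalizerMonoidHom ⟨q, Subgroup.le_normalizer hq⟩,
  hI ⟨⟨q, hq⟩, MulEquiv.ext fun _ => rfl⟩, fun _ => rfl⟩

theorem kNormalizer_mono {Z₁ Z₂ : Subgroup (MulAut R)} (h : Z₁ ≤ Z₂) :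
    kNormalizer D R Z₁ ≤ kNormalizer D R Z₂ := fun x hx => by
  obtain ⟨hxD, a, ha, hv⟩ := mem_kNormalizer.1 hx
  exact mem_kNormalizer.2 ⟨hxD, a, h ha, hv⟩

/-- `g` extends to a map of `W` on the subgroup inducing `Z`. -/
def GoodExt (W : FusionSystem D) (g : MulAut R) (Z : Subgroup (MulAut R)) : Prop :=
  ∃ ε ∈ W.Hom (kNormalizer D R Z),
    ∀ (x : R) (hx : (x : Ω) ∈ kNormalizer D R Z), ε ⟨x, hx⟩ = (g x : Ω)

theorem GoodExt.mono {W : FusionSystem D} {g : MulAut R} {Z₁ Z₂ : Subgroup (MulAut R)}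
    (h : GoodExt W g Z₂) (hle : Z₁ ≤ Z₂) : GoodExt W g Z₁ := by
  obtain ⟨ε, hε, hv⟩ := h
  exact ⟨_, restrict_mem hε (kNormalizer_mono hle), fun x hx => hv x (kNormalizer_mono hle hx)⟩

theorem GoodExt.comp {W : FusionSystem D} {g g' : MulAut R} {Z Z' : Subgroup (MulAut R)}
    (hR : R ≤ D) (hI : Inn R ≤ Z) (hI' : Inn R ≤ Z') (h : GoodExt W g Z) (h' : GoodExt W g' Z')
    (hc : ∀ z ∈ Z, g * z * g⁻¹ ∈ Z') : GoodExt W (g' * g) Z := by
  obtain ⟨ε, hε, hv⟩ := h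
  obtain ⟨ε', hε', hv'⟩ := h'
  have hRK := le_kNormalizer hR hI
  have hmem : ∀ x, ε x ∈ kNormalizer D R Z' := fun x => by
    obtain ⟨-, z, hz, hzv⟩ := mem_kNormalizer.1 x.2
    refine mem_kNormalizer.2 ⟨apply_mem hε x, g * z * g⁻¹, hc z hz, fun q => ?_⟩
    obtain ⟨r, rfl⟩ := g.surjective q
    show (g (z (g⁻¹ (g r))) : Ω) = _
    rw [MulAut.inv_apply_self, ← hv (z r) (hRK (z r).2), ← hv r (hRK r.2), ← map_inv, ← map_mul,
      ← map_mul]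
    exact congrArg ε (Subtype.ext (hzv r))
  refine ⟨_, W.comp_mem hε hε' hmem, fun x hx => ?_⟩
  show ε' ⟨ε ⟨x, hx⟩, _⟩ = _
  exact (congrArg ε' (Subtype.ext (hv x hx))).trans (hv' (g x) (le_kNormalizer hR hI' (g x).2))

theorem map_conj_eq_of_mem {A : Type*} [Group A] {Z : Subgroup A} {b : A}
    (hb : b ∈ Subgroup.normalizer (Z : Set A)) : Z.map (MulAut.conj b).toMonoidHom = Z := by
  ext x
  constructor
  · rintro ⟨z, hz, rfl⟩
    exact (Subgroup.mem_normalizer_iff.1 hb z).1 hz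
  · intro hx
    exact ⟨b⁻¹ * x * b, (Subgroup.mem_normalizer_iff''.1 hb x).1 hx, by simp [mul_assoc]⟩

variable [Finite S] [Fact p.Prime] (hS : IsPGroup p S) (hF : F.IsSaturated p)
  (h : Family F p D J)
include hS hF h

/-- The elements normalizing `Z` extend, when `Aut_D(R)` meets their group in a Sylow subgroup. -/
theorem goodExt_of_normalizer (hR : IsDFN F D R) {Z : Subgroup (MulAut R)} (hI : Inn R ≤ Z)
    (hZ : Z ≤ autInducedBy D R)
    (hsyl : IsSylowIn p (J R ⊓ Subgroup.normalizer (Z : Set (MulAut R)))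
      (normalizerIn (autInducedBy D R) Z))
    {g : MulAut R} (hg : g ∈ J R) (hgN : g ∈ Subgroup.normalizer (Z : Set (MulAut R))) :
    GoodExt (genSystem F h.closed.1 J) g Z := by
  classical
  have hD := h.closed
  have hRD := hR.1.1
  have := finite_of_le (hRD.trans hD.1)
  have := finite_mulAut (V := R)
  obtain ⟨W, hW⟩ : ∃ W, W = genSystem F hD.1 J := ⟨_, rfl⟩
  rw [← hW]
  obtain ⟨H₀, hH₀⟩ : ∃ H₀, H₀ = J R ⊓ Subgroup.normalizer (Z : Set (MulAut R)) := ⟨_, rfl⟩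
  rw [← hH₀] at hsyl
  have hone : GoodExt W 1 Z := ⟨_, subtype_mem (kNormalizer_le Z), fun _ _ => rfl⟩
  have hmul : ∀ {a b : MulAut R}, a ∈ H₀ → GoodExt W a Z → b ∈ H₀ → GoodExt W b Z →
      GoodExt W (a * b) Z := fun {a b} _ ha hb hb' => hb'.comp hRD hI hI ha fun z hz =>
    (Subgroup.mem_normalizer_iff.1 (Subgroup.mem_inf.1 (hH₀ ▸ hb : _ ∈ _ ⊓ _)).2 z).1 hz
  let Gd : Subgroup (MulAut R) :=
    { carrier := {a | a ∈ H₀ ∧ GoodExt W a Z}
      one_mem' := ⟨one_mem _, hone⟩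
      mul_mem' := fun ha hb => ⟨mul_mem ha.1 hb.1, hmul ha.1 ha.2 hb.1 hb.2⟩
      inv_mem' := fun {a} ha => by
        have hpow : ∀ k : ℕ, a ^ k ∈ H₀ ∧ GoodExt W (a ^ k) Z := by
          intro k
          induction k with
          | zero => rw [pow_zero]; exact ⟨one_mem _, hone⟩
          | succ k ih => rw [pow_succ]; exact ⟨mul_mem ih.1 ha.1, hmul ih.1 ih.2 ha.1 ha.2⟩
        have e : a⁻¹ = a ^ (orderOf a - 1) := inv_eq_of_mul_eq_one_right (by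
          rw [← pow_succ', Nat.sub_add_cancel (orderOf_pos a), pow_orderOf_eq_one])
        rw [e]
        exact hpow _ }
  suffices hle : H₀ ≤ Gd from (hle (hH₀ ▸ ⟨hg, hgN⟩)).2
  obtain ⟨T, hT⟩ := hsyl
  have htop := congrArg (Subgroup.map H₀.subtype) (CfsgLib.Transfer.sylow_sup_pResidual T)
  rw [Subgroup.map_sup, ← MonoidHom.range_eq_map, Subgroup.range_subtype] at htop
  refine htop.ge.trans (sup_le ?_ ?_)
  · rw [hT, Subgroup.subgroupOf_map_subtype]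
    intro a ha
    obtain ⟨ha₁, ha₂⟩ := Subgroup.mem_inf.1 ha
    obtain ⟨d, hd, -, hdv⟩ := mem_autInducedBy_iff.1 (normalizerIn_le _ _ ha₁)
    exact ⟨ha₂, _, W.conj_mem (kNormalizer_le Z) hd, fun x hx => (hdv x).symm⟩
  rw [pResidual, MonoidHom.map_closure, Subgroup.closure_le]
  rintro _ ⟨a, ha, rfl⟩
  have hac : (orderOf (a : MulAut R)).Coprime p := by rwa [Subgroup.orderOf_coe]
  obtain ⟨haJ, haN⟩ : (a : MulAut R) ∈ J R ∧
      (a : MulAut R) ∈ Subgroup.normalizer (Z : Set (MulAut R)) :=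
    Subgroup.mem_inf.1 (hH₀ ▸ a.2)
  obtain ⟨hRW, β, hβ, hβv⟩ := hR.extend hS hF h haJ hac hI hZ
    fun z hz => (Subgroup.mem_normalizer_iff.1 haN z).1 hz
  have hX : InH F D (kNormalizer D R Z) := hR.1.of_le hD hRW (kNormalizer_le Z)
  exact ⟨a.2, _, (mem_autGroup_iff hX.1).1 (hW ▸ h.le_genSystem hX hβ), fun x hx => hβv x⟩

/-- **Elements carrying `Z` into `Aut_D(R)` extend.** -/
theorem exists_goodExt (hR : IsDFN F D R) {γ : MulAut R} (hγ : γ ∈ J R)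
    {Z : Subgroup (MulAut R)} (hI : Inn R ≤ Z) (hZ : Z ≤ autInducedBy D R)
    (hγZ : ∀ z ∈ Z, γ * z * γ⁻¹ ∈ autInducedBy D R) :
    GoodExt (genSystem F h.closed.1 J) γ Z := by
  have hD := h.closed
  have hRD := hR.1.1
  have := finite_of_le (hRD.trans hD.1)
  have := finite_mulAut (V := R)
  have hDp : IsPGroup p D := hS.to_le hD.1
  obtain ⟨W, hW⟩ : ∃ W, W = genSystem F hD.1 J := ⟨_, rfl⟩
  rw [← hW]
  obtain ⟨P₀, hP₀⟩ : ∃ P₀, P₀ = autInducedBy D R := ⟨_, rfl⟩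
  rw [← hP₀] at hZ hγZ
  have hP₀J : P₀ ≤ J R := hP₀ ▸ h.aut_le R hR.1
  have hP₀p : IsPGroup p P₀ := hP₀ ▸ isPGroup_autInducedBy hDp R
  have hsyl : IsSylowIn p (J R) P₀ := hP₀ ▸ hR.sylow hS hF h
  have hnorm : ∀ {Z : Subgroup (MulAut R)}, Inn R ≤ Z → Z ≤ P₀ →
      IsSylowIn p (J R ⊓ Subgroup.normalizer (Z : Set (MulAut R))) (normalizerIn P₀ Z) →
      ∀ {g : MulAut R}, g ∈ J R → g ∈ Subgroup.normalizer (Z : Set (MulAut R)) →
        GoodExt W g Z := fun {Z} hI hZ hs {g} hg hgN =>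
    hW ▸ goodExt_of_normalizer hS hF h hR hI (hP₀ ▸ hZ) (hP₀ ▸ hs) hg hgN
  induction hd : Nat.card P₀ - Nat.card Z using Nat.strong_induction_on generalizing γ Z with
  | _ d ih =>
  rcases hZ.eq_or_lt with hZP | hlt
  · subst hZP
    refine hnorm hI le_rfl ?_ hγ (SatCriterion.mem_normalizer_of_finite fun z hz => hγZ z hz)
    rw [show normalizerIn Z Z = Z from le_antisymm (normalizerIn_le _ _) (le_normalizerIn le_rfl)]
    exact hsyl.mono (le_inf hP₀J Subgroup.le_normalizer) inf_le_left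
  -- a conjugate with the largest normalizer
  obtain ⟨Z₀, ⟨hZ₀P, g₀, hg₀, rfl⟩, hmax⟩ := Set.exists_max_image
    {K : Subgroup (MulAut R) | K ≤ P₀ ∧ ∃ g ∈ J R, Z.map (MulAut.conj g).toMonoidHom = K}
    (fun K => Nat.card (normalizerIn P₀ K)) (Set.toFinite _)
    ⟨Z, hZ, 1, one_mem _, map_conj_eq_of_mem (one_mem _)⟩
  obtain ⟨Z₀, hZ₀⟩ : ∃ Z₀, Z₀ = Z.map (MulAut.conj g₀).toMonoidHom := ⟨_, rfl⟩
  rw [← hZ₀] at hZ₀P hmax
  obtain ⟨H₀, hH₀⟩ : ∃ H₀, H₀ = J R ⊓ Subgroup.normalizer (Z₀ : Set (MulAut R)) := ⟨_, rfl⟩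
  have hKH : normalizerIn P₀ Z₀ ≤ H₀ := hH₀ ▸ inf_le_inf_right _ hP₀J
  obtain ⟨K', hK'H, hKK', hK'p, hK'⟩ :=
    SatCriterion.exists_sylowIn_ge hKH (hP₀p.to_le (normalizerIn_le _ _))
  obtain ⟨a, ha, haK⟩ := hsyl.exists_conj (hK'H.trans (hH₀ ▸ inf_le_left)) hK'p
  have hconj : ∀ (g g' : MulAut R) (K : Subgroup (MulAut R)),
      (K.map (MulAut.conj g).toMonoidHom).map (MulAut.conj g').toMonoidHom =
        K.map (MulAut.conj (g' * g)).toMonoidHom := fun g g' K => by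
    rw [Subgroup.map_map]
    exact congrArg (fun m => K.map m) (MonoidHom.ext fun x => by simp [mul_assoc])
  have hKeq : normalizerIn P₀ Z₀ = K' := by
    refine Subgroup.eq_of_le_of_card_ge hKK' ?_
    refine le_trans ?_ (hmax (Z₀.map (MulAut.conj a).toMonoidHom) ⟨?_, a * g₀, mul_mem ha hg₀, ?_⟩)
    · refine card_le_of_conj_mem (a := a) fun k hk => ⟨haK k hk, ?_⟩
      refine SatCriterion.mem_normalizer_of_finite ?_
      rintro _ ⟨z, hz, rfl⟩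
      refine ⟨k * z * k⁻¹, ?_, by simp [mul_assoc]⟩
      exact (Subgroup.mem_normalizer_iff.1 (Subgroup.mem_inf.1 (hH₀ ▸ hK'H hk : k ∈ _ ⊓ _)).2 z).1 hz
    · rintro _ ⟨z, hz, rfl⟩
      exact haK z (hKK' (le_normalizerIn hZ₀P hz))
    · rw [hZ₀, hconj]
  have hK : IsSylowIn p H₀ (normalizerIn P₀ Z₀) := hKeq ▸ hK'
  have hmove : ∀ (Z₁ : Subgroup (MulAut R)) (g₁ : MulAut R), g₁ ∈ J R →
      Z₁.map (MulAut.conj g₁).toMonoidHom = Z₀ → ∃ g ∈ J R,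
        Z₁.map (MulAut.conj g).toMonoidHom = Z₀ ∧
        ∀ x ∈ normalizerIn P₀ Z₁, g * x * g⁻¹ ∈ normalizerIn P₀ Z₀ := by
    intro Z₁ g₁ hg₁ he
    obtain ⟨b, hb, hbX⟩ := hK.exists_conj
      (X := (normalizerIn P₀ Z₁).map (MulAut.conj g₁).toMonoidHom)
      (by
        rintro _ ⟨x, hx, rfl⟩
        refine hH₀ ▸ ⟨(J R).mul_mem ((J R).mul_mem hg₁ (hP₀J hx.1)) ((J R).inv_mem hg₁), ?_⟩
        refine SatCriterion.mem_normalizer_of_finite ?_
        intro y hy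
        rw [← he] at hy ⊢
        obtain ⟨z, hz, rfl⟩ := hy
        exact ⟨x * z * x⁻¹, (Subgroup.mem_normalizer_iff.1 hx.2 z).1 hz, by simp [mul_assoc]⟩)
      ((hP₀p.to_le (normalizerIn_le _ _)).map _)
    obtain ⟨hbJ, hbN⟩ := Subgroup.mem_inf.1 (hH₀ ▸ hb : b ∈ _ ⊓ _)
    refine ⟨b * g₁, mul_mem hbJ hg₁, ?_, fun x hx => ?_⟩
    · rw [← hconj, he, map_conj_eq_of_mem hbN]
    · have := hbX _ ⟨x, hx, rfl⟩
      simpa [mul_assoc] using this
  obtain ⟨Z', hZ'⟩ : ∃ Z', Z' = Z.map (MulAut.conj γ).toMonoidHom := ⟨_, rfl⟩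
  have hZ'P : Z' ≤ P₀ := by
    rw [hZ']
    rintro _ ⟨z, hz, rfl⟩
    exact hγZ z hz
  obtain ⟨g, hg, hgZ, hgN⟩ := hmove Z g₀ hg₀ hZ₀.symm
  obtain ⟨g', hg', hg'Z, hg'N⟩ := hmove Z' (g₀ * γ⁻¹) (mul_mem hg₀ (inv_mem hγ)) (by
    rw [hZ', hconj, inv_mul_cancel_right, ← hZ₀])
  have hInn : ∀ (b : MulAut R), ∀ x ∈ Inn R, b * x * b⁻¹ ∈ Inn R := fun b x hx =>
    (Inn_normal R).conj_mem x hx b
  have hI₀ : Inn R ≤ Z₀ := fun x hx => by
    rw [hZ₀]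
    exact ⟨g₀⁻¹ * x * g₀⁻¹⁻¹, hI (hInn _ x hx), by simp [mul_assoc]⟩
  have hI' : Inn R ≤ Z' := fun x hx => by
    rw [hZ']
    exact ⟨γ⁻¹ * x * γ⁻¹⁻¹, hI (hInn _ x hx), by simp [mul_assoc]⟩
  have hcZ : Nat.card Z' = Nat.card Z := by
    rw [hZ']
    exact Subgroup.card_map_of_injective (MulAut.conj γ).injective
  have hbig : ∀ {Z₁ : Subgroup (MulAut R)}, Z₁ ≤ P₀ → Nat.card Z₁ = Nat.card Z →
      Nat.card Z < Nat.card (normalizerIn P₀ Z₁) := fun {Z₁} hle hc => by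
    have hne : Z₁ < P₀ := lt_of_le_of_ne hle fun e => by
      rw [e] at hc
      exact (Set.Finite.card_lt_card (Set.toFinite _) hlt).ne hc.symm
    exact hc ▸ Set.Finite.card_lt_card (Set.toFinite _) (lt_normalizerIn hP₀p hne)
  have hlt' : Nat.card Z < Nat.card P₀ := Set.Finite.card_lt_card (Set.toFinite _) hlt
  have h1 : GoodExt W g Z := (ih (Nat.card P₀ - Nat.card (normalizerIn P₀ Z))
    (by have := hbig hZ rfl; omega) (γ := g) hg (hI.trans (le_normalizerIn hZ))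
    (fun x hx => normalizerIn_le P₀ Z₀ (hgN x hx)) (normalizerIn_le _ _) rfl).mono (le_normalizerIn hZ)
  obtain ⟨N₂, hN₂⟩ : ∃ N₂, N₂ = (normalizerIn P₀ Z').map (MulAut.conj g').toMonoidHom := ⟨_, rfl⟩
  have hN₂P : N₂ ≤ P₀ := by
    rw [hN₂]
    rintro _ ⟨x, hx, rfl⟩
    exact normalizerIn_le _ _ (hg'N x hx)
  have hN₂c : Nat.card N₂ = Nat.card (normalizerIn P₀ Z') := by
    rw [hN₂]
    exact Subgroup.card_map_of_injective (MulAut.conj g').injective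
  have hZ₀N₂ : Z₀ ≤ N₂ := by
    rw [hN₂, ← hg'Z]
    exact Subgroup.map_mono (le_normalizerIn hZ'P)
  have h3 : GoodExt W g'⁻¹ Z₀ := (ih (Nat.card P₀ - Nat.card N₂)
    (by have := hbig hZ'P hcZ; omega) (γ := g'⁻¹) (inv_mem hg') (hI₀.trans hZ₀N₂)
    (fun y hy => by
      rw [hN₂] at hy
      obtain ⟨x, hx, rfl⟩ := hy
      simpa [mul_assoc] using normalizerIn_le _ _ hx) hN₂P rfl).mono hZ₀N₂
  have hgz : ∀ z ∈ Z, g * z * g⁻¹ ∈ Z₀ := fun z hz => hgZ ▸ ⟨z, hz, rfl⟩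
  have hn : g' * γ * g⁻¹ ∈ Subgroup.normalizer (Z₀ : Set (MulAut R)) := by
    refine SatCriterion.mem_normalizer_of_finite fun y hy => ?_
    rw [← hgZ] at hy
    obtain ⟨z, hz, rfl⟩ := hy
    rw [← hg'Z, hZ']
    exact ⟨γ * z * γ⁻¹, ⟨z, hz, rfl⟩, by simp [mul_assoc]⟩
  have h2 : GoodExt W (g' * γ * g⁻¹) Z₀ :=
    hnorm hI₀ hZ₀P (hH₀ ▸ hK) (mul_mem (mul_mem hg' hγ) (inv_mem hg)) hn
  have h12 : GoodExt W (g' * γ * g⁻¹ * g) Z := h1.comp hRD hI hI₀ h2 hgz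
  rw [inv_mul_cancel_right] at h12
  have := h12.comp hRD hI hI₀ h3 fun z hz => by
    have := (Subgroup.mem_normalizer_iff.1 hn _).1 (hgz z hz)
    simpa [mul_assoc] using this
  rwa [inv_mul_cancel_left] at this

end CfsgLib.FusionComponents
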