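import Cfsg.Agent.FusionComponents.GenLink
import Cfsg.Agent.FusionComponents.GenExtend

/-!
# The generated system is saturated and weakly normal

Its automizer at every member of the family is the given one; it is weakly normal in `F` and in
every saturated system between it and `F`.
-/

set_option autoImplicit false

namespace CfsgLib.FusionComponents

open Cfsg Cfsg.FusionSystem CfsgLib.Fusion CfsgLib.FusionClosed

variable {Ω : Type*} [Group Ω] {S D U : Subgroup Ω} {F : FusionSystem S} {G : FusionSystem U}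
  {J : ∀ P : Subgroup Ω, Subgroup (MulAut P)} {p : ℕ}

section

variable [Finite S] [Fact p.Prime] (hS : IsPGroup p S) (hF : F.IsSaturated p)
  (h : Family F p D J)
include hS hF h

omit hF in
/-- The automizer of `D` in the generated system. -/
theorem autGroup_self_le : (genSystem F h.closed.1 J).autGroup D ≤ J D := by
  have hD := h.closed
  have := finite_of_le hD.1
  have hDH : InH F D D := inH_self hD
  obtain ⟨W, hW⟩ : ∃ W, W = genSystem F hD.1 J := ⟨_, rfl⟩
  rw [← hW]
  let L : FusionSystem D :=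
    { Hom := fun X => {φ | φ ∈ W.Hom X ∧ ∀ (hX : D ≤ X) (a : MulAut D),
        (∀ x : D, φ ⟨x, hX x.2⟩ = (a x : Ω)) → a ∈ J D}
      le_of_mem := fun hφ => W.le_of_mem hφ.1
      injective_of_mem := fun hφ => W.injective_of_mem hφ.1
      conj_mem := fun {X g} hX hg => ⟨W.conj_mem hX hg, fun _ a ha => h.aut_le D hDH
        (mem_autInducedBy_iff.2 ⟨g, hg, Subgroup.le_normalizer hg, fun x => (ha x).symm⟩)⟩
      comp_mem := fun {X V φ ψ} hφ hψ hh => ⟨W.comp_mem hφ.1 hψ.1 hh, fun hX a ha => by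
        have hr : (restrictHom φ hX).range = D := by
          refine Subgroup.eq_of_le_of_card_ge (range_le (restrict_mem hφ.1 hX)) ?_
          rw [range_restrictHom, card_imgHom (W.injective_of_mem hφ.1) hX]
        obtain ⟨a₁, -, ha₁v⟩ := exists_iso (restrict_mem hφ.1 hX) hr
        have hDV : D ≤ V := fun y hy => by
          obtain ⟨x, hx⟩ := a₁.surjective ⟨y, hy⟩
          have : φ ⟨x, hX x.2⟩ = y := (ha₁v x).symm.trans (congrArg Subtype.val hx)
          exact this ▸ hh _
        have h1 := hψ.2 hDV (a * (a₁ : MulAut D)⁻¹) fun x => by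
          obtain ⟨y, rfl⟩ := a₁.surjective x
          rw [MulAut.mul_apply, MulAut.inv_apply_self, ← ha]
          exact congrArg ψ (Subtype.ext (ha₁v y))
        have := mul_mem h1 (hφ.2 hX a₁ fun x => (ha₁v x).symm)
        rwa [inv_mul_cancel_right] at this⟩
      inv_mem := fun {X φ} hφ => by
        obtain ⟨ψ, hψ, hv⟩ := W.inv_mem hφ.1
        refine ⟨ψ, ⟨hψ, fun hY a ha => ?_⟩, hv⟩
        have hpre : ∀ x : D, ∃ z : X, φ z = (x : Ω) ∧ (z : Ω) = (a x : Ω) := fun x => by
          obtain ⟨z, hz⟩ := hY x.2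
          refine ⟨z, hz, ?_⟩
          rw [← ha x, ← hv z]
          exact congrArg ψ (Subtype.ext hz)
        have hX : D ≤ X := fun y hy => by
          obtain ⟨x, hx⟩ := a.surjective ⟨y, hy⟩
          obtain ⟨z, -, hz⟩ := hpre x
          rw [← show (a x : Ω) = y from congrArg Subtype.val hx, ← hz]
          exact z.2
        have h1 := hφ.2 hX a⁻¹ fun y => by
          obtain ⟨x, rfl⟩ := a.surjective y
          obtain ⟨z, hz, hzv⟩ := hpre x
          rw [MulAut.inv_apply_self, ← hz]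
          exact congrArg φ (Subtype.ext hzv.symm)
        simpa using inv_mem h1 }
  have hgen : ∀ X, InH F D X → J X ≤ L.autGroup X := fun X hX a ha => by
    refine (mem_autGroup_iff hX.1).2
      ⟨(mem_autGroup_iff hX.1).1 (hW ▸ h.le_genSystem hX ha), fun hDX b hb => ?_⟩
    obtain rfl : X = D := le_antisymm hX.1 hDX
    rwa [show b = a from MulEquiv.ext fun x => Subtype.ext (hb x).symm]
  intro a ha
  have hle : W.IsSubsystemOf L := by rw [hW]; exact genSystem_le hgen
  exact (hle _ ((mem_autGroup_iff le_rfl).1 ha)).2 le_rfl a fun x => rfl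

/-- The step of the induction. -/
theorem step {n : ℕ} (habove : Above F (genSystem F h.closed.1 J) J p n) {P : Subgroup Ω}
    (hP : InH F D P) (hn : Nat.card P = n) :
    SatCriterion.SatClass (genSystem F h.closed.1 J) p P ∧
      (genSystem F h.closed.1 J).autGroup P ≤ J P := by
  have hD := h.closed
  have := finite_of_le hD.1
  have hDp : IsPGroup p D := hS.to_le hD.1
  obtain ⟨R, hR, hPR⟩ := exists_dfn hS hF h hP
  obtain ⟨W, hW⟩ : ∃ W, W = genSystem F hD.1 J := ⟨_, rfl⟩
  rw [← hW] at habove hPR ⊢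
  have hWF : W.IsSubsystemOf F := hW ▸ genSystem_isSubsystemOf
  have hRD := hR.1.1
  have hRn : Nat.card R = n := (card_eq_of_isConj hPR).symm.trans hn
  have hDR : ∀ T, IsConj W R T →
      Nat.card (normalizerIn D T) ≤ Nat.card (normalizerIn D R) := fun T ⟨φ, hφ, hr⟩ =>
    hR.2 T ⟨φ, hWF _ hφ, hr⟩
  -- the automizer of `R`, and the maps of the normalizers onto that of `R`
  obtain ⟨hautR, htop⟩ : W.autGroup R ≤ J R ∧
      ∀ Q, W.IsConj Q R → ∃ f : Q ≃* R, IsExt W f := by
    rcases hRD.eq_or_lt with hRe | hlt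
    · subst hRe
      refine ⟨hW ▸ autGroup_self_le hS h, fun Q hQ => ?_⟩
      obtain rfl : Q = R := eq_S_of_isConj (isConj_symm hQ)
      exact ⟨_, IsExt.refl le_rfl⟩
    have hnD : n < Nat.card D := hRn ▸ card_lt_of_lt hlt le_rfl
    refine ⟨fun a ha => ?_, fun Q hQ => ?_⟩
    · have haI : IsIso W a := (mem_autGroup_iff hRD).1 ha
      obtain ⟨T, f, g, hf, hg, hj⟩ := linkSystem h hWF hS hW habove hnD haI hR.1 hRn
      have hgs : IsExt W g.symm := hg.symm hRD (hDR T (hg.isIso hRD).isConj)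
      obtain ⟨φ, hφ, hφv⟩ := hf.trans hRD hgs
      have hRN : R ≤ normalizerIn D R := le_normalizerIn hRD
      have himg : imgHom φ R = R := imgHom_eq_of_agree hRN hφv
      obtain ⟨E, hE, hEv⟩ := exists_iso hφ (Q := normalizerIn D R) (by
        have := finite_of_le (normalizerIn_le D R)
        refine Subgroup.eq_of_le_of_card_ge ?_ ?_
        · have := SatCriterion.range_le_normalizerIn hφ hRN le_rfl
          rwa [himg] at this
        · rw [← Nat.card_congr (MonoidHom.ofInjective (W.injective_of_mem hφ)).toEquiv])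
      have hNH : InH F D (normalizerIn D R) := hR.1.of_le hD hRN (normalizerIn_le D R)
      have hEJ := (habove _ hNH (hRn ▸ card_lt_of_lt (lt_normalizerIn hDp hlt)
        (normalizerIn_le D R))).2 hE.mem_autGroup
      have h0 : (f.trans g.symm : MulAut R) ∈ J R :=
        res_mem h hRN hR.1 (normalizerIn_le D R) hEJ fun x => (hEv _).trans (hφv x _)
      have hTH : InH F D T := hR.1.of_isConj hD (IsIso.isConj (F := F) (hWF _ (hg.isIso hRD)))
      convert mul_mem (h.covariant T R hTH g.symm (hWF _ (hg.isIso hRD).symm) _ hj) h0 using 1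
      ext x
      simp [MulAut.congr]
    · obtain ⟨k, hk⟩ := isConj_iff.1 hQ
      obtain ⟨T, f, g, hf, hg, -⟩ := linkSystem h hWF hS hW habove hnD hk
        (hR.1.of_isConj hD (IsIso.isConj (F := F) (hWF _ hk.symm)))
        (hk.card_eq.trans hRn)
      have hQD : Q ≤ D := hk.le_left
      exact ⟨_, hf.trans hQD (hg.symm hRD (hDR T (hg.isIso hRD).isConj))⟩
  refine ⟨⟨R, hPR, ⟨hRD, ?_⟩, hRD, fun Q φ hφ hr => ?_⟩, fun a ha => ?_⟩
  · -- fully automized
    have heq : W.autGroup R = J R := le_antisymm hautR (hW ▸ h.le_genSystem hR.1)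
    rw [heq]
    exact hR.sylow hS hF h
  · -- receptive
    obtain ⟨k, hk, hkv⟩ := exists_iso hφ hr
    obtain ⟨f, τ, hτ, hτv⟩ := htop Q hk.isConj
    have hQD : Q ≤ D := hk.le_left
    have hfI : IsIso W f := IsExt.isIso hQD ⟨τ, hτ, hτv⟩
    obtain ⟨γ, hγdef⟩ : ∃ γ : MulAut R, γ = f.symm.trans k := ⟨_, rfl⟩
    have hγ : γ ∈ J R := hautR (hγdef ▸ IsIso.mem_autGroup (hfI.symm.trans hk))
    have hQN : Q ≤ normalizerIn D Q := le_normalizerIn hQD
    obtain ⟨N, hN⟩ : ∃ N, N = imgHom τ (extender D Q φ) := ⟨_, rfl⟩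
    have hND : N ≤ D := hN ▸ imgHom_le hτ _
    have himg : imgHom τ Q = R := imgHom_eq_of_agree hQN hτv
    have hQe : Q ≤ extender D Q φ := le_extender hQD fun x => apply_mem hφ x
    have hI : Inn R ≤ autInducedBy N R := by
      rw [Inn_eq]
      refine autInducedBy_mono ?_ R
      rw [hN, ← himg]
      exact imgHom_mono τ hQe
    have hNle : N ≤ kNormalizer D R (autInducedBy N R) := by
      intro x hx
      have hxN : x ∈ Subgroup.normalizer (R : Set Ω) := by
        rw [hN] at hx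
        obtain ⟨y, -, rfl⟩ := hx
        exact himg ▸ (SatCriterion.apply_mem_normalizerIn hτ hQN le_rfl y).2
      exact mem_kNormalizer.2 ⟨hND hx, R.normalizerMonoidHom ⟨x, hxN⟩,
        mem_autInducedBy_iff.2 ⟨x, hx, hxN, fun _ => rfl⟩, fun _ => rfl⟩
    obtain ⟨ε, hε, hεv⟩ := exists_goodExt hS hF h hR hγ hI (autInducedBy_mono hND R) fun z hz => by
      obtain ⟨x, hx, -, hxv⟩ := mem_autInducedBy_iff.1 hz
      rw [hN] at hx
      obtain ⟨⟨y, hyN⟩, hy, rfl⟩ := hx
      obtain ⟨-, hyn, d, hd, hdv⟩ := mem_extender_iff.1 (hy : y ∈ extender D Q φ)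
      refine Subgroup.subset_closure ⟨d, hd, fun r => ?_⟩
      obtain ⟨r', rfl⟩ := γ.surjective r
      obtain ⟨q, rfl⟩ := f.surjective r'
      have hyq : y * (q : Ω) * y⁻¹ ∈ Q := (Subgroup.mem_normalizer_iff.1 hyn q).1 q.2
      have h1 : z (f q) = f ⟨_, hyq⟩ := Subtype.ext (by
        rw [hxv, ← hτv q (hQN q.2), ← hτv ⟨_, hyq⟩ (hQN hyq), ← map_inv, ← map_mul, ← map_mul]
        rfl)
      have hγq : ∀ q : Q, (γ (f q) : Ω) = φ q := fun q => by
        rw [hγdef, MulEquiv.trans_apply, f.symm_apply_apply, hkv]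
      show (γ (z (γ⁻¹ (γ (f q)))) : Ω) = _
      rw [MulAut.inv_apply_self, h1, hγq, hγq]
      exact hdv q hyq
    have hle : extender D Q φ ≤ normalizerIn D Q := extender_le_normalizerIn φ
    rw [hW] at hφ hτ ⊢
    refine ⟨_, (genSystem F hD.1 J).comp_mem (restrict_mem hτ hle) hε fun x =>
      hNle (hN ▸ ⟨⟨x, hle x.2⟩, x.2, rfl⟩), fun x hx hxN => ?_⟩
    show ε ⟨τ ⟨x, _⟩, _⟩ = φ ⟨x, hx⟩
    have h1 : τ ⟨x, hle hxN⟩ = (f ⟨x, hx⟩ : Ω) := hτv ⟨x, hx⟩ _
    refine (congrArg ε (Subtype.ext h1)).trans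
      ((hεv (f ⟨x, hx⟩) (le_kNormalizer hRD hI (f ⟨x, hx⟩).2)).trans ?_)
    rw [hγdef, MulEquiv.trans_apply, f.symm_apply_apply, hkv]
  · -- the automizer of `P`
    obtain ⟨e, he⟩ := isConj_iff.1 hPR
    have := h.covariant R P hR.1 e.symm (hWF _ he.symm) _ (hautR (congr_mem_autGroup he ha))
    rwa [congr_symm_congr] at this

/-- The classes of the family are saturated and have the given automizers. -/
theorem satClass_and_autGroup {P : Subgroup Ω} (hP : InH F D P) :
    SatCriterion.SatClass (genSystem F h.closed.1 J) p P ∧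
      (genSystem F h.closed.1 J).autGroup P ≤ J P := by
  have := finite_of_le h.closed.1
  induction hd : Nat.card D - Nat.card P using Nat.strong_induction_on generalizing P with
  | _ d ih =>
  refine step hS hF h (n := Nat.card P) (fun X hX hlt => ?_) hP rfl
  have := Subgroup.card_le_of_le hX.1
  exact ih (Nat.card D - Nat.card X) (by omega) hX rfl

theorem autGroup_genSystem {P : Subgroup Ω} (hP : InH F D P) :
    (genSystem F h.closed.1 J).autGroup P = J P :=
  le_antisymm (satClass_and_autGroup hS hF h hP).2 (h.le_genSystem hP)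

/-- A subgroup outside the family has a conjugate in the generated system not containing its
centralizer. -/
theorem exists_conj_not_centralizer_le {P : Subgroup Ω} (hP : P ≤ D) (hnot : ¬ InH F D P) :
    ∃ R, (genSystem F h.closed.1 J).IsConj P R ∧ ¬ centralizerIn D R ≤ R := by
  have hD := h.closed
  obtain ⟨R', ⟨φ, hφ, rfl⟩, hR'⟩ : ∃ R', F.IsConj P R' ∧ ¬ centralizerIn D R' ≤ R' := by
    by_contra hne
    push Not at hne
    exact hnot ⟨hP, hne⟩
  obtain ⟨α, hα, φ₀, hφ₀, hv⟩ := h.frattini hS hF hD (fun _ _ h => h) genSystem_isSubsystemOf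
    (fun R hR hn => h.sylow R hR hn)
    (fun R hR hnot hn => by
      have hno : ∃ R', F.IsConj R R' ∧ ¬ centralizerIn D R' ≤ R' := by
        by_contra hne
        push Not at hne
        exact hnot ⟨hR, hne⟩
      obtain ⟨R', hR', hR'n⟩ := hno
      exact not_centralizer_le_fullyNormalized hS hF hD (isConj_symm hR') hn hR'n)
    hP hφ
  refine ⟨φ₀.range, ⟨φ₀, hφ₀, rfl⟩, fun hle => hR' fun c hc => ?_⟩
  have hc₀ : (α⁻¹ ⟨c, hc.1⟩ : Ω) ∈ centralizerIn D φ₀.range := by
    refine mem_centralizerIn'.2 ⟨(α⁻¹ ⟨c, hc.1⟩).2, ?_⟩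
    rintro _ ⟨x, rfl⟩
    have hx0 : φ₀ x ∈ D := apply_mem hφ₀ x
    refine congrArg Subtype.val (α.injective (Subtype.ext ?_) :
      α⁻¹ ⟨c, hc.1⟩ * ⟨φ₀ x, hx0⟩ * (α⁻¹ ⟨c, hc.1⟩)⁻¹ = ⟨φ₀ x, hx0⟩)
    rw [map_mul, map_mul, map_inv, MulAut.apply_inv_self]
    show c * (α ⟨φ₀ x, hx0⟩ : Ω) * c⁻¹ = (α ⟨φ₀ x, hx0⟩ : Ω)
    rw [← hv x hx0]
    exact (mem_centralizerIn'.1 hc).2 _ ⟨x, rfl⟩
  obtain ⟨x, hx⟩ := hle hc₀
  refine ⟨x, ?_⟩
  have hx0 : φ₀ x ∈ D := apply_mem hφ₀ x
  rw [hv x hx0, show (⟨φ₀ x, hx0⟩ : D) = α⁻¹ ⟨c, hc.1⟩ from Subtype.ext hx, MulAut.apply_inv_self]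

/-- **The generated system is saturated.** -/
theorem genSystem_isSaturated : (genSystem F h.closed.1 J).IsSaturated p := by
  have hD := h.closed
  have := finite_of_le hD.1
  refine SatCriterion.isSaturated (hS.to_le hD.1) {P | InH F D P} ?_
    (fun P hP => (satClass_and_autGroup hS hF h hP).1) (fun E hE => genSystem_le fun P hP => ?_) ?_
  · rintro P hP Q ⟨φ, hφ, hr⟩
    exact hP.of_isConj hD ⟨φ, genSystem_isSubsystemOf _ hφ, hr⟩
  · intro a ha
    exact (mem_autGroup_iff hP.1).2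
      (hE P hP ((mem_autGroup_iff hP.1).1 (h.le_genSystem hP ha)))
  · intro P hPc hPH
    obtain ⟨R, hPR, hR⟩ := exists_conj_not_centralizer_le hS hF h hPc.1 hPH
    exact absurd (centralizerIn_le_of_centric (isCentric_of_isConj hPc hPR)) hR

/-- **The generated system is weakly normal in every saturated system between it and `F`.** -/
theorem genSystem_isWeaklyNormalIn [Finite U] (hU : IsPGroup p U) (hG : G.IsSaturated p)
    (hGD : G.StronglyClosed D) (hGF : G.IsSubsystemOf F)
    (hWG : (genSystem F h.closed.1 J).IsSubsystemOf G) :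
    (genSystem F h.closed.1 J).IsWeaklyNormalIn G p := by
  refine ⟨genSystem_isSaturated hS hF h, hG, hWG, hGD, fun P hP φ hφ α hα => ?_,
    fun P hP φ hφ => h.frattini hU hG hGD hGF hWG (fun R hR hn => ?_) (fun R hR hnot hn => ?_) hP hφ⟩
  · exact h.autInvariant P hP φ hφ α ((mem_autGroup_iff h.closed.1).2
      (hGF _ ((mem_autGroup_iff hGD.1).1 hα)))
  · obtain ⟨R', hR', ψ, hψ, hr⟩ := exists_dfn hS hF h hR
    obtain ⟨ha, hrec⟩ := automized_receptive hU hG hn
    obtain ⟨χ, hχ, -, himg⟩ := exists_map_normalizerIn hU ha hrec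
      (isConj_symm ⟨ψ, hWG _ hψ, hr⟩ : G.IsConj R' R)
    have hle : normalizerIn D R' ≤ normalizerIn U R' := inf_le_inf_right _ hGD.1
    have hR'N : R' ≤ normalizerIn D R' := le_normalizerIn hR'.1.1
    have hc : Nat.card (normalizerIn D R') ≤ Nat.card (normalizerIn D R) := by
      refine card_normalizerIn_le_of_map h.closed hR'.1.1 (hGF _ (restrict_mem hχ hle)) ?_
      rw [SatCriterion.imgHom_congr (ψ := χ) hR'N (hR'N.trans hle) fun x hx => rfl, himg]
    exact IsDFN.sylow hS hF h ⟨hR, fun Q hQ => (hR'.2 Q (isConj_trans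
      (isConj_symm ⟨ψ, genSystem_isSubsystemOf _ hψ, hr⟩) hQ)).trans hc⟩
  · obtain ⟨R₀, ⟨ψ, hψ, hr⟩, hR₀⟩ := exists_conj_not_centralizer_le hS hF h hR hnot
    exact not_centralizer_le_fullyNormalized hU hG hGD
      (isConj_symm ⟨ψ, hWG _ hψ, hr⟩) hn hR₀

theorem genSystem_isWeaklyNormalIn_self :
    (genSystem F h.closed.1 J).IsWeaklyNormalIn F p :=
  genSystem_isWeaklyNormalIn hS hF h hS hF h.closed (fun _ _ h => h) genSystem_isSubsystemOf

end

end CfsgLib.FusionComponents
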