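import Cfsg.Agent.FusionComponents.Master
import Cfsg.Agent.FusionComponents.GenSat
import Cfsg.Agent.FusionLayer.Lift.Automizer

/-!
# The family of automizers common to two normal subsystems

For normal subsystems `E₁` and `E₂` over `T₁` and `T₂`, `D = T₁ ⊓ T₂` and a fully normalized
`P ≤ D`, the group generated by `Aut_D(P)` and the elements of order prime to `p` of
`Aut_{E₁}(P) ⊓ Aut_{E₂}(P)` has `Aut_D(P)` as a Sylow subgroup. The resulting family generates a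
saturated subsystem over `D` weakly normal in `F`, `E₁` and `E₂`.
-/

set_option autoImplicit false
set_option linter.unusedSectionVars false

namespace CfsgLib.FusionComponents

open Cfsg Cfsg.FusionSystem CfsgLib.Fusion CfsgLib.FusionClosed

/-! ### The subgroup generated by the elements of order prime to `p` -/

/-- The subgroup generated by the elements of `A` of order prime to `p`. -/
def coprimeGen {G : Type*} [Group G] (p : ℕ) (A : Subgroup G) : Subgroup G :=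
  Subgroup.closure {g | g ∈ A ∧ (orderOf g).Coprime p}

theorem coprimeGen_le {G : Type*} [Group G] {p : ℕ} (A : Subgroup G) : coprimeGen p A ≤ A :=
  (Subgroup.closure_le _).2 fun _ hg => hg.1

theorem mem_coprimeGen {G : Type*} [Group G] {p : ℕ} {A : Subgroup G} {g : G} (hg : g ∈ A)
    (hc : (orderOf g).Coprime p) : g ∈ coprimeGen p A :=
  Subgroup.subset_closure ⟨hg, hc⟩

theorem map_coprimeGen_le {G H : Type*} [Group G] [Group H] {p : ℕ} {A : Subgroup G}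
    {B : Subgroup H} (f : G →* H) (hf : ∀ g ∈ A, f g ∈ B) :
    (coprimeGen p A).map f ≤ coprimeGen p B := by
  rw [coprimeGen, MonoidHom.map_closure, Subgroup.closure_le]
  rintro _ ⟨g, ⟨hg, hc⟩, rfl⟩
  exact mem_coprimeGen (hf g hg) (hc.coprime_dvd_left (orderOf_map_dvd f g))

theorem coprimeGen_conj_mem {G : Type*} [Group G] {p : ℕ} {A : Subgroup G} {a : G}
    (ha : ∀ g ∈ A, a * g * a⁻¹ ∈ A) {x : G} (hx : x ∈ coprimeGen p A) :
    a * x * a⁻¹ ∈ coprimeGen p A :=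
  map_coprimeGen_le (MulAut.conj a).toMonoidHom ha ⟨x, hx, rfl⟩

theorem coprimeGen_eq_map {G : Type*} [Group G] (p : ℕ) (A : Subgroup G) :
    coprimeGen p A = (pResidual p A).map A.subtype := by
  rw [pResidual, MonoidHom.map_closure, coprimeGen]
  congr 1
  ext g
  constructor
  · rintro ⟨hg, hc⟩
    exact ⟨⟨g, hg⟩, by show Nat.Coprime (orderOf (⟨g, hg⟩ : A)) p; rwa [Subgroup.orderOf_mk], rfl⟩
  · rintro ⟨a, ha, rfl⟩
    exact ⟨a.2, by show Nat.Coprime (orderOf (a : G)) p; rwa [Subgroup.orderOf_coe]⟩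

theorem exists_mul_of_sup {G : Type*} [Group G] {X Y : Subgroup G}
    (hn : ∀ y ∈ Y, ∀ x ∈ X, y * x * y⁻¹ ∈ X) {z : G} (hz : z ∈ X ⊔ Y) :
    ∃ x ∈ X, ∃ y ∈ Y, x * y = z := by
  refine FusionLayer.exists_mul_of_mem_sup (fun y hy => Subgroup.mem_normalizer_iff.2 fun x =>
    ⟨hn y hy x, fun h => ?_⟩) hz
  have := hn y⁻¹ (inv_mem hy) _ h
  simpa [mul_assoc] using this

/-- A variant of the focal argument: it is enough to control the displacements on subgroups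
normalized by the element. -/
theorem residual_inf_le' {G : Type*} [Group G] [Finite G] {p : ℕ} [Fact p.Prime] (P : Sylow p G)
    {N : Subgroup G} (hN : ∀ g : G, (orderOf g).Coprime p → ∀ W ≤ (P : Subgroup G),
      (∀ x ∈ W, g * x * g⁻¹ ∈ W) → ∀ x ∈ W, x⁻¹ * (g * x * g⁻¹) ∈ N) :
    (P : Subgroup G) ⊓ pResidual p G ≤ N := by
  rw [← FusionResidual.hyperfocal_eq P, FusionSystem.hyperfocalSubgroup, Subgroup.closure_le]
  rintro _ ⟨W, α, x, hW, hα, rfl⟩
  let H : Subgroup ((groupFusionSystem (P : Subgroup G)).autGroup W) :=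
    { carrier := {a | ∀ x : W, (x : G)⁻¹ * ((a : MulAut W) x : G) ∈ N}
      one_mem' := fun x => by simp
      mul_mem' := fun {a b} ha hb x => by
        show (x : G)⁻¹ * ((a : MulAut W) ((b : MulAut W) x) : G) ∈ N
        rw [← mul_inv_cancel_left ((b : MulAut W) x : G) ((a : MulAut W) _ : G), ← mul_assoc]
        exact mul_mem (hb x) (ha _)
      inv_mem' := fun {a} ha x => by
        have h1 := inv_mem (ha ((a : MulAut W)⁻¹ x))
        rw [MulAut.apply_inv_self, mul_inv_rev, inv_inv] at h1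
        exact h1 }
  suffices h : pResidual p ((groupFusionSystem (P : Subgroup G)).autGroup W) ≤ H from h hα x
  rw [pResidual, Subgroup.closure_le]
  intro a ha y
  obtain ⟨-, -, g, hg⟩ := (mem_autGroup_iff hW).1 a.2
  have hca : (orderOf (a : MulAut W)).Coprime p := by rwa [Subgroup.orderOf_coe]
  obtain ⟨k, hk, hak⟩ := FusionLayer.exists_coprime_pow hca g
  have hpow : ∀ (n : ℕ) (y : W), (((a : MulAut W) ^ n) y : G) = g ^ n * y * (g ^ n)⁻¹ := by
    intro n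
    induction n with
    | zero => simp
    | succ n ih =>
      intro y
      rw [pow_succ', MulAut.mul_apply, show ((a : MulAut W) (((a : MulAut W) ^ n) y) : G) =
        g * (((a : MulAut W) ^ n) y : G) * g⁻¹ from hg _, ih, pow_succ']
      group
  have h1 : ∀ y : W, ((a : MulAut W) y : G) = g ^ k * y * (g ^ k)⁻¹ := fun y => by
    have h := hpow k y
    rwa [hak] at h
  rw [h1]
  exact hN _ hk W hW (fun z hz => h1 ⟨z, hz⟩ ▸ ((a : MulAut W) ⟨z, hz⟩).2) y y.2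

/-! ### The family -/

variable {Ω : Type*} [Group Ω] {S T₁ T₂ : Subgroup Ω} {F : FusionSystem S}
  {E₁ : FusionSystem T₁} {E₂ : FusionSystem T₂} {p : ℕ}

/-- `Aut_{E₁}(P) ⊓ Aut_{E₂}(P)`. -/
def interAut (E₁ : FusionSystem T₁) (E₂ : FusionSystem T₂) (P : Subgroup Ω) : Subgroup (MulAut P) :=
  E₁.autGroup P ⊓ E₂.autGroup P

/-- The group attached to a fully normalized member. -/
def interB (E₁ : FusionSystem T₁) (E₂ : FusionSystem T₂) (p : ℕ) (P : Subgroup Ω) :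
    Subgroup (MulAut P) :=
  coprimeGen p (interAut E₁ E₂ P) ⊔ autInducedBy (T₁ ⊓ T₂) P

/-- The family generating the intersection of two normal subsystems. -/
def interJ (F : FusionSystem S) (E₁ : FusionSystem T₁) (E₂ : FusionSystem T₂) (p : ℕ)
    (P : Subgroup Ω) : Subgroup (MulAut P) where
  carrier := {a | ∀ (P' : Subgroup Ω) (e : P ≃* P'), F.IsFullyNormalized P' → IsIso F e →
    MulAut.congr e a ∈ interB E₁ E₂ p P'}
  one_mem' := fun P' e _ _ => by rw [map_one]; exact one_mem _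
  mul_mem' := fun ha hb P' e h he => by rw [map_mul]; exact mul_mem (ha P' e h he) (hb P' e h he)
  inv_mem' := fun ha P' e h he => by rw [map_inv]; exact inv_mem (ha P' e h he)

section

variable [Finite S] [Fact p.Prime] (hS : IsPGroup p S) (h₁ : E₁.IsNormalIn F p)
  (h₂ : E₂.IsNormalIn F p)
include hS h₁ h₂

theorem stronglyClosed_inter : F.StronglyClosed (T₁ ⊓ T₂) :=
  ⟨inf_le_left.trans h₁.1.2.2.2.1.1, fun R hR φ hφ x =>
    ⟨h₁.1.2.2.2.1.2 R (hR.trans inf_le_left) φ hφ x,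
      h₂.1.2.2.2.1.2 R (hR.trans inf_le_right) φ hφ x⟩⟩

theorem interAut_congr {P Q : Subgroup Ω} (hP : P ≤ T₁ ⊓ T₂) (hQ : Q ≤ T₁ ⊓ T₂) {e : P ≃* Q}
    (he : IsIso F e) {a : MulAut P} (ha : a ∈ interAut E₁ E₂ P) :
    MulAut.congr e a ∈ interAut E₁ E₂ Q :=
  ⟨congr_mem_of_invariant (strongInvariant_of_invariant h₁.1.2.2) (hP.trans inf_le_left)
      (hQ.trans inf_le_left) he ha.1,
    congr_mem_of_invariant (strongInvariant_of_invariant h₂.1.2.2) (hP.trans inf_le_right)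
      (hQ.trans inf_le_right) he ha.2⟩

theorem interAut_le_autGroup {P : Subgroup Ω} (hP : P ≤ T₁ ⊓ T₂) :
    interAut E₁ E₂ P ≤ F.autGroup P := fun a ha => by
  have h := (mem_autGroup_iff (hP.trans inf_le_left)).1 ha.1
  exact (mem_autGroup_iff (hP.trans (stronglyClosed_inter hS h₁ h₂).1)).2 (h₁.1.2.2.1 P h)

theorem autInducedBy_le_interAut {P : Subgroup Ω} (hP : P ≤ T₁ ⊓ T₂) :
    autInducedBy (T₁ ⊓ T₂) P ≤ interAut E₁ E₂ P :=
  le_inf ((autInducedBy_mono inf_le_left P).trans (autInducedBy_le_autGroup (hP.trans inf_le_left)))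
    ((autInducedBy_mono inf_le_right P).trans (autInducedBy_le_autGroup (hP.trans inf_le_right)))

theorem interB_le {P : Subgroup Ω} (hP : P ≤ T₁ ⊓ T₂) : interB E₁ E₂ p P ≤ interAut E₁ E₂ P :=
  sup_le (coprimeGen_le _) (autInducedBy_le_interAut hS h₁ h₂ hP)

theorem conj_mem_interAut {P : Subgroup Ω} (hP : P ≤ T₁ ⊓ T₂) {γ : MulAut P}
    (hγ : γ ∈ F.autGroup P) {a : MulAut P} (ha : a ∈ interAut E₁ E₂ P) :
    γ * a * γ⁻¹ ∈ interAut E₁ E₂ P := by
  rw [← congr_self_eq]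
  exact interAut_congr hS h₁ h₂ hP hP
    ((mem_autGroup_iff (hP.trans (stronglyClosed_inter hS h₁ h₂).1)).1 hγ) ha

variable {P : Subgroup Ω} (hPD : P ≤ T₁ ⊓ T₂) (hP : F.IsFullyNormalized P)
include hPD hP

/-- The Sylow subgroup of the common automizer. -/
theorem isSylowIn_interAut :
    IsSylowIn p (interAut E₁ E₂ P) (autInducedBy T₁ P ⊓ interAut E₁ E₂ P) ∧
      autInducedBy T₁ P ⊓ interAut E₁ E₂ P ≤ autInducedBy T₂ P := by
  have hF := h₁.1.2.1
  have hT₁ := h₁.1.2.2.2.1.1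
  have hT₂ := h₂.1.2.2.2.1.1
  have := finite_of_le hT₁
  have := finite_of_le hT₂
  have := finite_of_le hP.1
  have := finite_mulAut (V := P)
  have hn₁ := FusionNormal.fullyNormalized_of_le hS hF h₁.1.2.2 (hPD.trans inf_le_left) hP
  have hn₂ := FusionNormal.fullyNormalized_of_le hS hF h₂.1.2.2 (hPD.trans inf_le_right) hP
  obtain ⟨ha₁, -⟩ := automized_receptive (hS.to_le hT₁) h₁.1.1 hn₁
  obtain ⟨ha₂, -⟩ := automized_receptive (hS.to_le hT₂) h₂.1.1 hn₂
  refine ⟨IsSylowIn.inf_normal ha₁.2 (autInducedBy_le_autGroup ha₁.1) inf_le_left fun g hg => ?_,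
    fun x hx => mem_autInducedBy_of_normal hS hT₂ ha₂ hx.2.2 (autInducedBy_mono hT₁ P hx.1)⟩
  refine SatCriterion.mem_normalizer_of_finite fun a ha => conj_mem_interAut hS h₁ h₂ hPD ?_ ha
  exact (mem_autGroup_iff hP.1).2 (h₁.1.2.2.1 P ((mem_autGroup_iff ha₁.1).1 hg))

/-- The elements of order prime to `p` meet the Sylow subgroup inside `Aut_D(P)`. -/
theorem coprimeGen_inf_le :
    (autInducedBy T₁ P ⊓ interAut E₁ E₂ P) ⊓ coprimeGen p (interAut E₁ E₂ P) ≤
      autInducedBy (T₁ ⊓ T₂) P := by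
  classical
  have hsyl := (isSylowIn_interAut hS h₁ h₂ hPD hP).1
  have hT₁ := h₁.1.2.2.2.1
  have := finite_of_le hP.1
  have := finite_mulAut (V := P)
  obtain ⟨A, hA⟩ : ∃ A, A = interAut E₁ E₂ P := ⟨_, rfl⟩
  rw [← hA] at hsyl ⊢
  obtain ⟨R, hR⟩ := hsyl
  have key := residual_inf_le' R (N := (autInducedBy (T₁ ⊓ T₂) P).subgroupOf A)
    fun g hg W hW hgW x hx => by
    obtain ⟨W', hW'⟩ : ∃ W', W' = W.map A.subtype := ⟨_, rfl⟩
    obtain ⟨X, hX⟩ : ∃ X, X = W' ⊔ Inn P := ⟨_, rfl⟩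
    have hWS : W' ≤ autInducedBy T₁ P := by
      rw [hW']
      rintro _ ⟨w, hw, rfl⟩
      exact (Subgroup.mem_inf.1 (hR ▸ hW hw : _ ∈ (autInducedBy T₁ P ⊓ A).subgroupOf A)).1
    have hgX : ∀ z ∈ X, (g : MulAut P) * z * (g : MulAut P)⁻¹ ∈ X := by
      have hle : X ≤ X.comap (MulAut.conj (g : MulAut P)).toMonoidHom := by
        conv_lhs => rw [hX]
        refine sup_le ?_ fun z hz => ?_
        · rw [hW']
          rintro _ ⟨w, hw, rfl⟩
          exact hX ▸ Subgroup.mem_sup_left (hW' ▸ ⟨_, hgW w hw, rfl⟩)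
        · exact hX ▸ Subgroup.mem_sup_right ((Inn_normal P).conj_mem z hz _)
      exact fun z hz => hle hz
    have hgA : (g : MulAut P) ∈ interAut E₁ E₂ P := hA ▸ g.2
    obtain ⟨hPW, β, hβ, -, hgβ, hd⟩ := master hS h₂ (hPD.trans inf_le_right) hP hgA.2
      (by rwa [Subgroup.orderOf_coe]) (X := X)
      (hX ▸ sup_le (hWS.trans (autInducedBy_mono hT₁.1 P)) (Inn_le_autInducedBy hP.1))
      (hX ▸ le_sup_right) hgX
    have hxX : (x : MulAut P) ∈ X := hX ▸ Subgroup.mem_sup_left (hW' ▸ ⟨x, hx, rfl⟩)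
    have hxW : (x : MulAut P) ∈ W' := hW'.ge ⟨x, hx, rfl⟩
    obtain ⟨t, ht, -, htv⟩ := mem_autInducedBy_iff.1 (hWS hxW)
    have htK : t ∈ kNormalizer S P X := mem_kNormalizer.2 ⟨hT₁.1 ht, _, hxX, htv⟩
    have hβt : (β ⟨t, htK⟩ : Ω) ∈ T₁ :=
      apply_mem_stronglyClosed hT₁ ((mem_autGroup_iff (kNormalizer_le X)).1 hβ) (x := ⟨t, htK⟩) ht
    rw [Subgroup.mem_subgroupOf]
    refine Subgroup.subset_closure ⟨t⁻¹ * (β ⟨t, htK⟩ : Ω),
      ⟨mul_mem (Subgroup.inv_mem _ ht) hβt, hd ⟨t, htK⟩⟩, fun q => ?_⟩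
    obtain ⟨r, rfl⟩ := (g : MulAut P).surjective q
    have hy : ((g : MulAut P) ((x : MulAut P) r) : Ω) =
        (β ⟨t, htK⟩ : Ω) * ((g : MulAut P) r : Ω) * (β ⟨t, htK⟩ : Ω)⁻¹ := by
      rw [← hgβ r, ← hgβ ((x : MulAut P) r), ← Subgroup.coe_inv, ← Subgroup.coe_mul,
        ← Subgroup.coe_mul, ← map_inv, ← map_mul, ← map_mul]
      exact congrArg (fun z => (β z : Ω)) (Subtype.ext (htv r))
    show (((x : MulAut P)⁻¹ * ((g : MulAut P) * (x : MulAut P) * (g : MulAut P)⁻¹))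
      ((g : MulAut P) r) : Ω) = _
    simp only [MulAut.mul_apply, MulAut.inv_apply_self]
    have h3 := htv ((x : MulAut P)⁻¹ ((g : MulAut P) ((x : MulAut P) r)))
    rw [MulAut.apply_inv_self, hy] at h3
    calc (((x : MulAut P)⁻¹ ((g : MulAut P) ((x : MulAut P) r))) : Ω)
        = t⁻¹ * (t * (((x : MulAut P)⁻¹ ((g : MulAut P) ((x : MulAut P) r))) : Ω) * t⁻¹) * t := by
          group
      _ = _ := by rw [← h3]; group
  rintro a ⟨haR, hac⟩
  rw [coprimeGen_eq_map] at hac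
  obtain ⟨a', ha', rfl⟩ := hac
  exact key ⟨hR.symm ▸ haR, ha'⟩

/-- The isomorphisms between fully normalized members respect `Aut_D`, up to the elements of order
prime to `p`. -/
theorem congr_autInducedBy_mem_interB {P' : Subgroup Ω} (hP' : F.IsFullyNormalized P')
    {e : P ≃* P'} (he : IsIso F e) {c : MulAut P} (hc : c ∈ autInducedBy (T₁ ⊓ T₂) P) :
    MulAut.congr e c ∈ interB E₁ E₂ p P' := by
  classical
  have hF := h₁.1.2.1
  have hD := stronglyClosed_inter hS h₁ h₂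
  obtain ⟨hP'a, hP'r⟩ := automized_receptive hS hF hP'
  obtain ⟨χ, hχ, -, himg⟩ := exists_map_normalizerIn hS hP'a hP'r he.isConj
  have hPN : P ≤ normalizerIn S P := le_normalizerIn hP.1
  obtain ⟨eχ, heχ, heχv⟩ := exists_iso (restrict_mem hχ hPN) ((range_restrictHom χ hPN).trans himg)
  have hP'D : P' ≤ T₁ ⊓ T₂ := fun y hy => by
    obtain ⟨x, hx⟩ := eχ.surjective ⟨y, hy⟩
    rw [← show (eχ x : Ω) = y from congrArg Subtype.val hx]
    exact hD.2 P hPD _ heχ x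
  have h1 : MulAut.congr eχ c ∈ autInducedBy (T₁ ⊓ T₂) P' := by
    obtain ⟨d, hd, hdN, hdv⟩ := mem_autInducedBy_iff.1 hc
    refine Subgroup.subset_closure ⟨χ ⟨d, hD.1 hd, hdN⟩,
      apply_mem_stronglyClosed hD hχ (x := ⟨d, hD.1 hd, hdN⟩) hd, fun y => ?_⟩
    obtain ⟨x, rfl⟩ := eχ.surjective y
    rw [congr_apply, heχv, heχv, restrictHom_apply, restrictHom_apply, ← map_inv, ← map_mul,
      ← map_mul]
    exact congrArg χ (Subtype.ext (hdv x))
  obtain ⟨γ, hγdef⟩ : ∃ γ : MulAut P', γ = eχ.symm.trans e := ⟨_, rfl⟩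
  have hγ : γ ∈ F.autGroup P' := hγdef ▸ (heχ.symm.trans he).mem_autGroup
  rw [show MulAut.congr e c = MulAut.congr γ (MulAut.congr eχ c) from MulEquiv.ext fun y => by
    simp [hγdef, MulAut.congr], congr_self_eq]
  generalize MulAut.congr eχ c = c' at h1
  have := finite_of_le hP'.1
  have := finite_mulAut (V := P')
  obtain ⟨hsyl, hle₂⟩ := isSylowIn_interAut hS h₁ h₂ hP'D hP'
  obtain ⟨A, hA⟩ : ∃ A, A = interAut E₁ E₂ P' := ⟨_, rfl⟩
  obtain ⟨Sg, hSg⟩ : ∃ Sg, Sg = autInducedBy T₁ P' ⊓ A := ⟨_, rfl⟩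
  rw [← hA, ← hSg] at hsyl hle₂
  have hSgA : Sg ≤ A := hSg ▸ inf_le_right
  have hSgS : Sg ≤ autInducedBy S P' := hSg ▸ inf_le_left.trans (autInducedBy_mono h₁.1.2.2.2.1.1 P')
  obtain ⟨a, ha, hac⟩ := hsyl.exists_conj (X := Sg.map (MulAut.conj γ).toMonoidHom)
    (by
      rintro _ ⟨s, hs, rfl⟩
      exact hA ▸ conj_mem_interAut hS h₁ h₂ hP'D hγ (hA ▸ hSgA hs))
    (((isPGroup_autInducedBy hS P').to_le hSgS).map _)
  obtain ⟨m, hm⟩ : ∃ m : MulAut P', m = a * γ := ⟨_, rfl⟩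
  have hmF : m ∈ F.autGroup P' :=
    hm ▸ mul_mem (interAut_le_autGroup hS h₁ h₂ hP'D (hA ▸ ha)) hγ
  -- `m` extends to the subgroup inducing the Sylow subgroup, so normalizes `Aut_D(P')`
  have hmc : m * c' * m⁻¹ ∈ autInducedBy (T₁ ⊓ T₂) P' := by
    have hmI := (mem_autGroup_iff hP'.1).1 hmF
    obtain ⟨d, hd, hdN, hdv⟩ := mem_autInducedBy_iff.1 h1
    have hc'Sg : c' ∈ Sg := hSg ▸ ⟨autInducedBy_mono inf_le_left P' h1,
      hA ▸ autInducedBy_le_interAut hS h₁ h₂ hP'D h1⟩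
    obtain ⟨ψ, hψ, hψv⟩ := exists_extension (T := kNormalizer S P' Sg) hP'r hmI fun g hg => by
      obtain ⟨-, z, hz, hzv⟩ := mem_kNormalizer.1 hg
      refine mem_extender_of_congr (kNormalizer_le_normalizerIn Sg hg) (α := z) hzv ?_
      rw [congr_self_eq]
      refine hSgS ?_
      have := hac _ ⟨z, hz, rfl⟩
      simpa [hm, mul_assoc] using this
    have hdK : d ∈ kNormalizer S P' Sg := mem_kNormalizer.2 ⟨hD.1 hd, c', hc'Sg, hdv⟩
    have hPK : ∀ x : P', (x : Ω) ∈ kNormalizer S P' Sg := fun x => mem_kNormalizer.2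
      ⟨hP'.1 x.2, P'.normalizerMonoidHom ⟨x, Subgroup.le_normalizer x.2⟩, hSg ▸
        ⟨mem_autInducedBy_iff.2 ⟨x, (hP'D x.2).1, Subgroup.le_normalizer x.2, fun _ => rfl⟩,
          hA ▸ autInducedBy_le_interAut hS h₁ h₂ hP'D
            (mem_autInducedBy_iff.2 ⟨x, hP'D x.2, Subgroup.le_normalizer x.2, fun _ => rfl⟩)⟩,
        fun _ => rfl⟩
    refine Subgroup.subset_closure ⟨ψ ⟨d, hdK⟩,
      apply_mem_stronglyClosed hD hψ (x := ⟨d, hdK⟩) hd, fun y => ?_⟩
    obtain ⟨x, rfl⟩ := m.surjective y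
    show (m (c' (m⁻¹ (m x))) : Ω) = _
    rw [MulAut.inv_apply_self, ← hψv x (hPK x), ← hψv (c' x) (hPK _), ← map_inv, ← map_mul,
      ← map_mul]
    exact congrArg ψ (Subtype.ext (hdv x))
  -- the correcting element normalizes `interB`
  obtain ⟨T, hT⟩ := id hsyl
  have htop := congrArg (Subgroup.map A.subtype) (CfsgLib.Transfer.sylow_sup_pResidual T)
  rw [Subgroup.map_sup, ← MonoidHom.range_eq_map, Subgroup.range_subtype, hT,
    Subgroup.subgroupOf_map_subtype, ← coprimeGen_eq_map, inf_eq_left.2 hSgA, sup_comm] at htop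
  obtain ⟨b, hb, s, hs, hbs⟩ := exists_mul_of_sup
    (fun y hy x hx => coprimeGen_conj_mem
      (fun g hg => mul_mem (mul_mem (hSgA hy) hg) (inv_mem (hSgA hy))) hx)
    (htop.symm ▸ inv_mem ha : a⁻¹ ∈ coprimeGen p A ⊔ Sg)
  have hscs : s * (m * c' * m⁻¹) * s⁻¹ ∈ autInducedBy (T₁ ⊓ T₂) P' := by
    obtain ⟨t, ht, htN, htv⟩ := mem_autInducedBy_iff.1 (hSgS hs)
    obtain ⟨d, hd, hdN, hdv⟩ := mem_autInducedBy_iff.1 hmc
    refine Subgroup.subset_closure ⟨t * d * t⁻¹, FusionFactor.conj_mem_of_stronglyClosed hD ht hd,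
      fun y => ?_⟩
    obtain ⟨x, rfl⟩ := s.surjective y
    show (s ((m * c' * m⁻¹) (s⁻¹ (s x))) : Ω) = _
    rw [MulAut.inv_apply_self, htv, hdv, htv]
    group
  rw [show γ * c' * γ⁻¹ = b * (s * (m * c' * m⁻¹) * s⁻¹) * b⁻¹ by
    rw [hm, show b = a⁻¹ * s⁻¹ by rw [← hbs, mul_inv_cancel_right]]; group]
  subst hA
  exact mul_mem (mul_mem (Subgroup.mem_sup_left hb) (Subgroup.mem_sup_right hscs))
    (inv_mem (Subgroup.mem_sup_left hb))

omit hP in
/-- Elements of order prime to `p` of the common automizer are in the family. -/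
theorem mem_interJ_of_coprime {a : MulAut P} (ha : a ∈ interAut E₁ E₂ P)
    (hc : (orderOf a).Coprime p) : a ∈ interJ F E₁ E₂ p P := fun P' e hP' he =>
  Subgroup.mem_sup_left (mem_coprimeGen (interAut_congr hS h₁ h₂ hPD (fun y hy => by
      obtain ⟨x, hx⟩ := e.surjective ⟨y, hy⟩
      rw [← show (e x : Ω) = y from congrArg Subtype.val hx]
      exact (stronglyClosed_inter hS h₁ h₂).2 P hPD _ he x) he ha)
    (by rwa [show orderOf (MulAut.congr e a) = orderOf a from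
      orderOf_injective (MulAut.congr e).toMonoidHom (MulAut.congr e).injective a]))

theorem interB_le_interJ : interB E₁ E₂ p P ≤ interJ F E₁ E₂ p P := by
  refine sup_le ((Subgroup.closure_le _).2 fun a ha =>
    mem_interJ_of_coprime hS h₁ h₂ hPD ha.1 ha.2) fun a ha P' e hP' he => ?_
  exact congr_autInducedBy_mem_interB hS h₁ h₂ hPD hP hP' he ha

/-- `Aut_D(P)` is a Sylow subgroup. -/
theorem isSylowIn_interJ : IsSylowIn p (interJ F E₁ E₂ p P) (autInducedBy (T₁ ⊓ T₂) P) := by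
  classical
  have hF := h₁.1.2.1
  have hD := stronglyClosed_inter hS h₁ h₂
  have := finite_of_le hP.1
  have := finite_mulAut (V := P)
  have hJ : interJ F E₁ E₂ p P = interB E₁ E₂ p P := by
    refine le_antisymm (fun a ha => ?_) (interB_le_interJ hS h₁ h₂ hPD hP)
    have := ha P (MulEquiv.refl P) hP (IsIso.refl hP.1)
    rwa [show MulAut.congr (MulEquiv.refl P) a = a from MulEquiv.ext fun x => rfl] at this
  obtain ⟨hsyl, -⟩ := isSylowIn_interAut hS h₁ h₂ hPD hP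
  have hle := coprimeGen_inf_le hS h₁ h₂ hPD hP
  obtain ⟨A, hA⟩ : ∃ A, A = interAut E₁ E₂ P := ⟨_, rfl⟩
  rw [← hA] at hsyl hle
  obtain ⟨Sg, hSg⟩ : ∃ Sg, Sg = autInducedBy T₁ P ⊓ A := ⟨_, rfl⟩
  rw [← hSg] at hsyl hle
  have hAD : autInducedBy (T₁ ⊓ T₂) P ≤ Sg := hSg ▸ le_inf (autInducedBy_mono inf_le_left P)
    (hA ▸ autInducedBy_le_interAut hS h₁ h₂ hPD)
  have hnB : A ≤ Subgroup.normalizer (interB E₁ E₂ p P : Set (MulAut P)) := fun a ha => by
    refine SatCriterion.mem_normalizer_of_finite fun b hb => ?_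
    have haF := interAut_le_autGroup hS h₁ h₂ hPD (hA ▸ ha)
    have := interB_le_interJ hS h₁ h₂ hPD hP hb P a hP ((mem_autGroup_iff hP.1).1 haF)
    rwa [congr_self_eq] at this
  have := hsyl.inf_normal (hSg ▸ inf_le_right) (hA ▸ interB_le hS h₁ h₂ hPD) hnB
  rw [hJ, show autInducedBy (T₁ ⊓ T₂) P = Sg ⊓ interB E₁ E₂ p P from
    le_antisymm (le_inf hAD le_sup_right) fun x hx => ?_]
  · exact this
  obtain ⟨b, hb, c, hc, rfl⟩ := exists_mul_of_sup (fun y hy z hz => coprimeGen_conj_mem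
    (fun g hg => mul_mem (mul_mem (autInducedBy_le_interAut hS h₁ h₂ hPD hy) hg)
      (inv_mem (autInducedBy_le_interAut hS h₁ h₂ hPD hy))) hz) hx.2
  refine mul_mem (hle ⟨?_, hA ▸ hb⟩) hc
  have := mul_mem hx.1 (Subgroup.inv_mem _ (hAD hc))
  rwa [mul_inv_cancel_right] at this

omit hP in
theorem interJ_le_interAut : interJ F E₁ E₂ p P ≤ interAut E₁ E₂ P := fun a ha => by
  have hD := stronglyClosed_inter hS h₁ h₂
  obtain ⟨P', hPP', hP'⟩ := exists_fullyNormalized (F := F) (hPD.trans hD.1)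
  obtain ⟨e, he⟩ := isConj_iff.1 hPP'
  have hP'D : P' ≤ T₁ ⊓ T₂ := fun y hy => by
    obtain ⟨x, hx⟩ := e.surjective ⟨y, hy⟩
    rw [← show (e x : Ω) = y from congrArg Subtype.val hx]
    exact hD.2 P hPD _ he x
  have := interAut_congr hS h₁ h₂ hP'D hPD he.symm (interB_le hS h₁ h₂ hP'D (ha P' e hP' he))
  rwa [congr_symm_congr] at this

end

section

variable [Finite S] [Fact p.Prime] (hS : IsPGroup p S) (h₁ : E₁.IsNormalIn F p)
  (h₂ : E₂.IsNormalIn F p)
include hS h₁ h₂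

/-- The automorphisms of `X` fixing `P` pointwise form a `p`-group when `C_X(P) ≤ P`. -/
theorem exists_fixer_pGroup {P X : Subgroup Ω} (hPX : P ≤ X) (hXS : X ≤ S)
    (hn : X ≤ Subgroup.normalizer (P : Set Ω)) (hC : centralizerIn X P ≤ P) :
    ∃ K : Subgroup (MulAut X), IsPGroup p K ∧ K ≤ F.autGroup X ∧
      ∀ k ∈ F.autGroup X, (∀ x : P, (k ⟨x, hPX x.2⟩ : Ω) = x) → k ∈ K := by
  have := finite_of_le hXS
  have := finite_of_le (hPX.trans hXS)
  let K : Subgroup (MulAut X) :=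
    { carrier := {k | k ∈ F.autGroup X ∧ ∀ x : P, k ⟨x, hPX x.2⟩ = ⟨x, hPX x.2⟩}
      one_mem' := ⟨one_mem _, fun x => rfl⟩
      mul_mem' := fun {a b} ha hb => ⟨mul_mem ha.1 hb.1, fun x => by
        rw [MulAut.mul_apply, hb.2, ha.2]⟩
      inv_mem' := fun {a} ha => ⟨inv_mem ha.1, fun x => by
        conv_lhs => rw [← ha.2 x]
        rw [MulAut.inv_apply_self]⟩ }
  refine ⟨K, ?_, fun k hk => hk.1, fun k hk h => ⟨hk, fun x => Subtype.ext (h x)⟩⟩
  rintro ⟨k, hk, hfix⟩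
  obtain ⟨i, hi⟩ := (hS.to_le (hPX.trans hXS)).exists_card_eq
  have hd : ∀ w : X, (w : Ω)⁻¹ * (k w : Ω) ∈ P := by
    intro w
    refine hC (mem_centralizerIn'.2 ⟨mul_mem (inv_mem w.2) (k w).2, fun q hq => ?_⟩)
    have hq' : (w : Ω) * q * (w : Ω)⁻¹ ∈ P := (Subgroup.mem_normalizer_iff.1 (hn w.2) q).1 hq
    have h1 : (k (w * ⟨q, hPX hq⟩ * w⁻¹) : Ω) = (w : Ω) * q * (w : Ω)⁻¹ :=
      congrArg Subtype.val (hfix ⟨_, hq'⟩)
    rw [map_mul, map_mul, map_inv, hfix ⟨q, hq⟩] at h1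
    simp only [Subgroup.coe_mul, Subgroup.coe_inv] at h1
    calc (w : Ω)⁻¹ * (k w : Ω) * q * ((w : Ω)⁻¹ * (k w : Ω))⁻¹
        = (w : Ω)⁻¹ * ((k w : Ω) * q * (k w : Ω)⁻¹) * w := by group
      _ = q := by rw [h1]; group
  refine ⟨i, Subtype.ext ?_⟩
  show k ^ p ^ i = 1
  refine FusionLayer.pow_eq_one_of_displacement (fun w => hfix ⟨_, hd w⟩) fun w => ?_
  have h : (⟨_, hd w⟩ : P) ^ Nat.card P = 1 := pow_card_eq_one'
  rw [hi] at h
  exact Subtype.ext (congrArg Subtype.val h :)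

theorem interJ_family : Family F p (T₁ ⊓ T₂) (interJ F E₁ E₂ p) where
  closed := stronglyClosed_inter hS h₁ h₂
  le_aut P hP := (interJ_le_interAut hS h₁ h₂ hP.1).trans (interAut_le_autGroup hS h₁ h₂ hP.1)
  covariant P Q _ e he a ha P' e' hP' he' := by
    rw [← congr_trans]
    exact ha P' (e.trans e') hP' (he.trans he')
  aut_le P hP := by
    intro c hc P' e hP' he
    -- pass to a fully normalized member through a map of normalizers
    have hF := h₁.1.2.1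
    have hD := stronglyClosed_inter hS h₁ h₂
    obtain ⟨hP'a, hP'r⟩ := automized_receptive hS hF hP'
    obtain ⟨χ, hχ, -, himg⟩ := exists_map_normalizerIn hS hP'a hP'r he.isConj
    have hPN : P ≤ normalizerIn S P := le_normalizerIn (hP.1.trans hD.1)
    obtain ⟨eχ, heχ, heχv⟩ :=
      exists_iso (restrict_mem hχ hPN) ((range_restrictHom χ hPN).trans himg)
    have h1 : MulAut.congr eχ c ∈ autInducedBy (T₁ ⊓ T₂) P' := by
      obtain ⟨d, hd, hdN, hdv⟩ := mem_autInducedBy_iff.1 hc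
      refine Subgroup.subset_closure ⟨χ ⟨d, hD.1 hd, hdN⟩,
        apply_mem_stronglyClosed hD hχ (x := ⟨d, hD.1 hd, hdN⟩) hd, fun y => ?_⟩
      obtain ⟨x, rfl⟩ := eχ.surjective y
      rw [congr_apply, heχv, heχv, restrictHom_apply, restrictHom_apply, ← map_inv, ← map_mul,
        ← map_mul]
      exact congrArg χ (Subtype.ext (hdv x))
    have hP'D : P' ≤ T₁ ⊓ T₂ := (hP.of_isConj hD he.isConj).1
    have := congr_autInducedBy_mem_interB hS h₁ h₂ hP'D hP' hP' (heχ.symm.trans he) h1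
    rwa [congr_trans, congr_symm_congr] at this
  sylow P hP hn := isSylowIn_interJ hS h₁ h₂ hP.1 hn
  restrict X R hRX hR hX a ha b hc hb := by
    have hA := interJ_le_interAut hS h₁ h₂ hX ha
    have := finite_of_le (hX.trans (stronglyClosed_inter hS h₁ h₂).1)
    have hbp : (orderOf b).Coprime p := by
      refine hc.coprime_dvd_left (orderOf_dvd_of_pow_eq_one ?_)
      refine (hb.pow (orderOf a)).unique ?_
      rw [pow_orderOf_eq_one]
      exact Agrees.one hRX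
    have hb' : ∀ {T : Subgroup Ω} {E : FusionSystem T}, X ≤ T → a ∈ E.autGroup X →
        b ∈ E.autGroup R := fun {T E} hXT haE =>
      mem_autGroup_of_le_of_eq (hRX.trans hXT) (restrict_mem ((mem_autGroup_iff hXT).1 haE) hRX)
        fun x => (hb x).symm
    exact mem_interJ_of_coprime hS h₁ h₂ hR.1
      ⟨hb' (hX.trans inf_le_left) hA.1, hb' (hX.trans inf_le_right) hA.2⟩ hbp
  extend P hP hn g hg hgp Z hI hZ hgZ := by
    classical
    have hF := h₁.1.2.1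
    have hD := stronglyClosed_inter hS h₁ h₂
    have hA := interJ_le_interAut hS h₁ h₂ hP.1 hg
    have hPX : P ≤ kNormalizer (T₁ ⊓ T₂) P Z := le_kNormalizer hP.1 hI
    refine ⟨hPX, ?_⟩
    obtain ⟨X, hX⟩ : ∃ X, X = kNormalizer (T₁ ⊓ T₂) P Z := ⟨_, rfl⟩
    have hXD : X ≤ T₁ ⊓ T₂ := hX ▸ kNormalizer_le Z
    have hXS : X ≤ S := hXD.trans hD.1
    have := finite_of_le hXS
    have := finite_mulAut (V := X)
    have hext : ∀ {T : Subgroup Ω} {E : FusionSystem T}, E.IsNormalIn F p → T₁ ⊓ T₂ ≤ T →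
        g ∈ E.autGroup P → ∃ γ ∈ E.autGroup X, ∀ x : P, ∀ hx : (x : Ω) ∈ X,
          (γ ⟨x, hx⟩ : Ω) = g x := by
      intro T E hE hT hgE
      have hPT : P ≤ T := hP.1.trans hT
      have := finite_of_le hE.1.2.2.2.1.1
      obtain ⟨-, hr⟩ := automized_receptive (hS.to_le hE.1.2.2.2.1.1) hE.1.1
        (FusionNormal.fullyNormalized_of_le hS hF hE.1.2.2 hPT hn)
      have hXN : ∀ y ∈ X, y ∈ normalizerIn T P := fun y hy =>
        ⟨hT (hXD hy), (kNormalizer_le_normalizerIn Z (hX ▸ hy)).2⟩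
      obtain ⟨ψ, hψ, hψv⟩ := exists_extension (T := X) hr ((mem_autGroup_iff hPT).1 hgE)
        fun y hy => by
          obtain ⟨-, z, hz, hzv⟩ := mem_kNormalizer.1 (hX ▸ hy)
          refine mem_extender_of_congr (hXN y hy) (α := z) hzv ?_
          rw [congr_self_eq]
          exact autInducedBy_mono hT P (hZ (hgZ z hz))
      have hψF := hE.1.2.2.1 X hψ
      have hmem : ∀ y (hy : y ∈ X), ψ ⟨y, hy⟩ ∈ X := by
        intro y hy
        obtain ⟨hyD, z, hz, hzv⟩ := mem_kNormalizer.1 (hX ▸ hy)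
        refine hX.ge (mem_kNormalizer.2 ⟨hD.2 X hXD ψ hψF _, g * z * g⁻¹, hgZ z hz, fun q => ?_⟩)
        obtain ⟨r, rfl⟩ := g.surjective q
        show (g (z (g⁻¹ (g r))) : Ω) = _
        rw [MulAut.inv_apply_self, ← hψv (z r) (hX ▸ hPX (z r).2), ← hψv r (hX ▸ hPX r.2),
          ← map_inv, ← map_mul, ← map_mul]
        exact congrArg ψ (Subtype.ext (hzv r))
      obtain ⟨γ, hγ, hγv⟩ := exists_aut_restrict hψ le_rfl fun y hy => hmem y hy
      exact ⟨γ, hγ, fun x hx => (hγv ⟨x, hx⟩).trans (hψv x hx)⟩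
    subst hX
    have hPX' := hPX
    obtain ⟨γ₁, hγ₁, hγ₁v⟩ := hext h₁ inf_le_left hA.1
    obtain ⟨γ₂, hγ₂, hγ₂v⟩ := hext h₂ inf_le_right hA.2
    obtain ⟨k, hk, hkg⟩ := FusionLayer.exists_coprime_pow hgp γ₁
    have hβv : Agrees hPX' g (γ₁ ^ k) := by
      have := (show Agrees hPX' g γ₁ from fun x => hγ₁v x _).pow k
      rwa [hkg] at this
    obtain ⟨K, hKp, hKF, hK⟩ := exists_fixer_pGroup hS h₁ h₂ hPX' hXS
      (fun x hx => (kNormalizer_le_normalizerIn Z hx).2)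
      ((inf_le_inf_right _ hXD).trans (hP.2 P (isConj_refl hn.1)))
    have hγ₁F : γ₁ ∈ F.autGroup _ :=
      (mem_autGroup_iff hXS).2 (h₁.1.2.2.1 _ ((mem_autGroup_iff (hXD.trans inf_le_left)).1 hγ₁))
    have hγ₂F : γ₂ ∈ F.autGroup _ :=
      (mem_autGroup_iff hXS).2 (h₂.1.2.2.1 _ ((mem_autGroup_iff (hXD.trans inf_le_right)).1 hγ₂))
    have hk' : γ₂⁻¹ * γ₁ ^ k ∈ K := hK _ (mul_mem (inv_mem hγ₂F) (pow_mem hγ₁F k)) fun x => by
      rw [MulAut.mul_apply, show (γ₁ ^ k) ⟨x, hPX' x.2⟩ = γ₂ ⟨x, hPX' x.2⟩ from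
        Subtype.ext ((hβv x).trans (hγ₂v x _).symm), MulAut.inv_apply_self]
    have hmem : γ₁ ^ k ∈ E₂.autGroup _ ⊔ K := by
      have := mul_mem (Subgroup.mem_sup_left hγ₂ : γ₂ ∈ E₂.autGroup _ ⊔ K)
        (Subgroup.mem_sup_right hk')
      rwa [mul_inv_cancel_left] at this
    have h2 : γ₁ ^ k ∈ E₂.autGroup _ := mem_of_coprime_sup hKp (fun z hz a ha => by
      rw [← congr_self_eq]
      exact congr_mem_of_invariant (strongInvariant_of_invariant h₂.1.2.2)
        (hXD.trans inf_le_right) (hXD.trans inf_le_right) ((mem_autGroup_iff hXS).1 (hKF hz)) ha)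
      hmem hk
    exact ⟨γ₁ ^ k, mem_interJ_of_coprime hS h₁ h₂ hXD ⟨pow_mem hγ₁ k, h2⟩ hk, hβv⟩

end

end CfsgLib.FusionComponents
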