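import Cfsg.Prelude.Def_FusionFitting
import Cfsg.Agent.FusionLayer.Constrained

/-!
# Quasisimple systems and the trivial subsystem

Basic facts used in the theory of the layer.
-/

set_option autoImplicit false

namespace CfsgLib.FusionComponents

open Cfsg Cfsg.FusionSystem CfsgLib.Fusion

variable {Ω : Type*} [Group Ω] {S T U : Subgroup Ω} {F : FusionSystem S} {p : ℕ}

/-- The underlying group of a quasisimple system is nontrivial. -/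
theorem ne_bot_of_quasisimple [Finite S] (hq : F.Quasisimple p) : S ≠ ⊥ := by
  intro h
  obtain ⟨-, -, hfac⟩ := hq
  have hcs : F.StronglyClosed F.center :=
    FusionLayer.stronglyClosed_of_central (FusionFactor.isCentral_center F)
  obtain ⟨E, hE⟩ := FusionFactor.exists_factorSystem_quotient F F.center hcs
  refine (hfac E hE).2.1 (eq_bot_iff.2 fun y _ => ?_)
  obtain ⟨s, rfl⟩ := QuotientGroup.mk'_surjective _ y
  have hs : s = 1 := Subtype.ext (Subgroup.mem_bot.1 (h.le s.2))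
  rw [hs, map_one]
  exact one_mem _

/-- A quasisimple system has a map which moves an element. -/
theorem exists_apply_ne_of_quasisimple [Finite S] (hq : F.Quasisimple p) :
    ∃ (P : Subgroup Ω) (φ : P →* Ω), φ ∈ F.Hom P ∧ ∃ x : P, φ x ≠ x := by
  by_contra h
  push Not at h
  refine ne_bot_of_quasisimple hq (hq.2.1.symm.trans ?_)
  rw [eq_bot_iff]
  refine (Subgroup.closure_le _).2 ?_
  rintro _ ⟨P, α, x, hP, -, rfl⟩
  have := h P _ ((mem_autGroup_iff hP).1 α.2) x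
  show (x : Ω)⁻¹ * (((α : MulAut P) x : P) : Ω) ∈ (⊥ : Subgroup Ω)
  rw [show (((α : MulAut P) x : P) : Ω) = (x : Ω) from this, inv_mul_cancel]
  exact one_mem _

/-- The system over the trivial subgroup is normal. -/
theorem inner_bot_isNormalIn [Finite S] [Fact p.Prime] (hS : IsPGroup p S) (hF : F.IsSaturated p) :
    (innerFusionSystem (⊥ : Subgroup Ω)).IsNormalIn F p := by
  refine ⟨(FusionSub.isNormal_iff_inner_isWeaklyNormalIn hS hF bot_le).1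
    (FusionFactor.isNormal_bot F), fun α _ => ⟨1, one_mem _, fun x => ?_, fun c _ => ?_⟩⟩
  · rw [show α x = x from Subsingleton.elim _ _]
    rfl
  · rw [MulAut.one_apply, inv_mul_cancel]
    exact one_mem _

/-- The trivial system is contained in every system. -/
theorem inner_bot_isSubsystemOf (E : FusionSystem T) :
    (innerFusionSystem (⊥ : Subgroup Ω)).IsSubsystemOf E := by
  rintro P φ ⟨hP, g, hg, h⟩
  exact conj_mem' (hP.trans bot_le) (bot_le (a := T) hg) h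

/-- A system without components has the trivial system as layer. -/
theorem isLayerOf_bot [Finite S] [Fact p.Prime] (hS : IsPGroup p S) (hF : F.IsSaturated p)
    (h : ∀ (U : Subgroup Ω) (C : FusionSystem U), ¬ C.IsComponentIn F p) :
    (innerFusionSystem (⊥ : Subgroup Ω)).IsLayerOf F p :=
  ⟨inner_bot_isNormalIn hS hF, fun U C hC => absurd hC (h U C),
    fun _ D _ _ => inner_bot_isSubsystemOf D⟩

/-- `inner Q` is a central product of itself and the trivial system. -/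
theorem isCentralProductOf_bot (Q : Subgroup Ω) :
    IsCentralProductOf (innerFusionSystem Q) (innerFusionSystem (⊥ : Subgroup Ω))
      (innerFusionSystem Q) := by
  obtain ⟨D₀, hD₀⟩ : ∃ D₀, IsProductSystem (innerFusionSystem Q)
      (innerFusionSystem (⊥ : Subgroup Ω)) D₀ :=
    ⟨_, FusionFactor.isProductSystem_productSystem _ _⟩
  obtain ⟨θ, hθ⟩ : ∃ θ : ↥(Q.prod (⊥ : Subgroup Ω)) →* Ω,
      θ = (MonoidHom.fst Ω Ω).comp (Q.prod (⊥ : Subgroup Ω)).subtype := ⟨_, rfl⟩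
  have hsnd : ∀ z : ↥(Q.prod (⊥ : Subgroup Ω)), (z : Ω × Ω).2 = 1 := fun z =>
    Subgroup.mem_bot.1 (Subgroup.mem_prod.1 z.2).2
  have hθv : ∀ z, θ z = (z : Ω × Ω).1 := fun z => by rw [hθ]; rfl
  refine ⟨D₀, hD₀, ⊥, θ, bot_le, bot_inf_eq _, bot_inf_eq _, fun x hx => hθv _, fun y hy => ?_,
    bot_le, fun z => ?_, ?_, fun P' φ' => ?_⟩
  · rw [hθv]
    exact (Subgroup.mem_bot.1 (Subgroup.mem_prod.1 hy).2).symm
  · rw [hθv, Subgroup.mem_bot, Prod.ext_iff]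
    exact ⟨fun h => ⟨h, hsnd z⟩, fun h => h.1⟩
  · ext x
    constructor
    · rintro ⟨z, rfl⟩
      rw [hθv]
      exact (Subgroup.mem_prod.1 z.2).1
    · exact fun hx => ⟨⟨(x, 1), Subgroup.mem_prod.2 ⟨hx, one_mem _⟩⟩, hθv _⟩
  constructor
  · rintro ⟨hP', g, hg, h⟩
    have hgm : ((g, 1) : Ω × Ω) ∈ Q.prod (⊥ : Subgroup Ω) :=
      Subgroup.mem_prod.2 ⟨hg, one_mem _⟩
    refine ⟨hP', conjHom _ ((g, 1) : Ω × Ω),
      D₀.conj_mem (FusionFactor.preimageAlong_le θ P') hgm,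
      FusionFactor.preimageAlong_le θ P',
      fun z => (Q.prod (⊥ : Subgroup Ω)).mul_mem ((Q.prod (⊥ : Subgroup Ω)).mul_mem hgm
        (FusionFactor.preimageAlong_le θ P' z.2)) ((Q.prod (⊥ : Subgroup Ω)).inv_mem hgm),
      fun z => (FusionFactor.mem_preimageAlong.1 z.2).2, fun z => ?_⟩
    refine (h _).trans ?_
    show g * θ _ * g⁻¹ = _
    simp only [hθv]
    rfl
  · rintro ⟨hP', φ, hφ, hsub, hφm, hθP, hind⟩
    obtain ⟨hP, φ₁, ⟨-, g, hg, h1⟩, φ₂, -, hv⟩ := (hD₀ _ φ).1 hφ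
    refine ⟨hP', g, hg, fun x => ?_⟩
    have hz : ((x : Ω), (1 : Ω)) ∈ preimageAlong θ P' :=
      FusionFactor.mem_preimageAlong.2
        ⟨Subgroup.mem_prod.2 ⟨hP' x.2, one_mem _⟩, by rw [hθv]; exact x.2⟩
    have hi := hind ⟨_, hz⟩
    have hx : (⟨θ ⟨((x : Ω), (1 : Ω)), hsub hz⟩, hθP ⟨_, hz⟩⟩ : P') = x := Subtype.ext (hθv _)
    rw [hx, hθv] at hi
    rw [hi]
    show (φ ⟨_, hz⟩).1 = _
    rw [hv ⟨_, hz⟩ ⟨_, hz, rfl⟩ ⟨_, hz, rfl⟩]
    exact h1 _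

/-- If `inner Q` is a central product of `inner Q` and `E`, every map of `E` is an identity. -/
theorem apply_eq_of_centralProduct {Q' : Subgroup Ω} [Finite Q'] [Finite T] {E : FusionSystem T}
    (h : IsCentralProductOf (innerFusionSystem Q') E (innerFusionSystem Q')) {P : Subgroup Ω}
    {φ : P →* Ω} (hφ : φ ∈ E.Hom P) (x : P) : φ x = x := by
  obtain ⟨D₀, hD₀, Z, θ, hZc, -, -, h1, h2, -, hker, hrange, -⟩ := h
  have hxT : (x : Ω) ∈ T := le_left hφ x.2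
  have hm1 : ((1 : Ω), (x : Ω)) ∈ Q'.prod T := Subgroup.mem_prod.2 ⟨one_mem _, hxT⟩
  have hxQ : (x : Ω) ∈ Q' := hrange.le ⟨⟨_, hm1⟩, h2 _ _⟩
  have hm : ((x : Ω), (x : Ω)⁻¹) ∈ Q'.prod T := Subgroup.mem_prod.2 ⟨hxQ, inv_mem hxT⟩
  have hzZ : ((x : Ω), (x : Ω)⁻¹) ∈ Z := by
    refine (hker ⟨_, hm⟩).1 ?_
    rw [show (⟨_, hm⟩ : ↥(Q'.prod T)) =
      ⟨((x : Ω), (1 : Ω)), Subgroup.mem_prod.2 ⟨hxQ, one_mem _⟩⟩ *
        ⟨((1 : Ω), (x : Ω)⁻¹), Subgroup.mem_prod.2 ⟨one_mem _, inv_mem hxT⟩⟩ from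
      Subtype.ext (Prod.ext (mul_one _).symm (one_mul _).symm), map_mul, h1, h2, mul_inv_cancel]
  have hcen : D₀.IsCentral D₀.center := by
    have : Finite ↥(Q'.prod T) := Finite.of_equiv _ (Subgroup.prodEquiv Q' T).symm.toEquiv
    exact FusionFactor.isCentral_center D₀
  -- the map `1 × φ`
  obtain ⟨V, hV⟩ : ∃ V, V = (⊥ : Subgroup Ω).prod P := ⟨_, rfl⟩
  have hV1 : V.map (MonoidHom.fst Ω Ω) ≤ Q' := by
    rintro _ ⟨y, hy, rfl⟩
    rw [hV] at hy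
    show y.1 ∈ Q'
    rw [Subgroup.mem_bot.1 (Subgroup.mem_prod.1 hy).1]
    exact one_mem _
  have hV2 : V.map (MonoidHom.snd Ω Ω) ≤ P := by
    rintro _ ⟨y, hy, rfl⟩
    rw [hV] at hy
    exact (Subgroup.mem_prod.1 hy).2
  have hVm : ∀ y : V, (y : Ω × Ω).2 ∈ P := fun y => hV2 ⟨y, y.2, rfl⟩
  obtain ⟨χ, hχv⟩ : ∃ χ : V →* Ω × Ω, ∀ y : V, χ y = ((y : Ω × Ω).1, φ ⟨_, hVm y⟩) :=
    ⟨MonoidHom.prod ((MonoidHom.fst Ω Ω).comp V.subtype)
      (φ.comp (((MonoidHom.snd Ω Ω).comp V.subtype).codRestrict P hVm)), fun _ => rfl⟩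
  have hVQ : V ≤ Q'.prod T := fun y hy =>
    Subgroup.mem_prod.2 ⟨hV1 ⟨y, hy, rfl⟩, le_left hφ (hV2 ⟨y, hy, rfl⟩)⟩
  have hχ : χ ∈ D₀.Hom V := (hD₀ V χ).2 ⟨hVQ, _, subtype_mem hV1, _, restrict_mem hφ hV2,
    fun y _ _ => hχv y⟩
  obtain ⟨ψ, hψ, e1, e2⟩ := hcen.2 V χ hχ
  obtain ⟨hVle, ψ₁, -, ψ₂, hψ₂, hψv⟩ := (hD₀ _ ψ).1 hψ
  have hxV : ((1 : Ω), (x : Ω)) ∈ V := hV ▸ Subgroup.mem_prod.2 ⟨one_mem _, x.2⟩
  have hzC : ((x : Ω), (x : Ω)⁻¹) ∈ D₀.center := hZc hzZ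
  have a := e1 ⟨_, hxV⟩
  have b := e2 ⟨_, hzC⟩
  obtain ⟨w1, hw1⟩ : ∃ w, w = Subgroup.inclusion
      (le_sup_left : V ≤ V ⊔ D₀.center) ⟨_, hxV⟩ := ⟨_, rfl⟩
  obtain ⟨w2, hw2⟩ : ∃ w, w = Subgroup.inclusion
      (le_sup_right : D₀.center ≤ V ⊔ D₀.center) ⟨_, hzC⟩ := ⟨_, rfl⟩
  rw [← hw1, hχv, hψv w1 ⟨_, w1.2, rfl⟩ ⟨_, w1.2, rfl⟩] at a
  rw [← hw2, hψv w2 ⟨_, w2.2, rfl⟩ ⟨_, w2.2, rfl⟩] at b
  have a2 := congrArg Prod.snd a
  have b2 := congrArg Prod.snd b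
  simp only at a2 b2
  have hw12 : (⟨(w2 : Ω × Ω).2, ⟨_, w2.2, rfl⟩⟩ :
      (V ⊔ D₀.center).map (MonoidHom.snd Ω Ω)) =
      (⟨(w1 : Ω × Ω).2, ⟨_, w1.2, rfl⟩⟩ : (V ⊔ D₀.center).map (MonoidHom.snd Ω Ω))⁻¹ := by
    refine Subtype.ext ?_
    rw [Subgroup.coe_inv, hw1, hw2]
    rfl
  rw [hw12, map_inv, a2] at b2
  exact inv_inj.1 b2

end CfsgLib.FusionComponents
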