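import Cfsg.Agent.FusionComponents.GenSystem
import Cfsg.Agent.LocalStructure.Elements

/-!
# Fully normalized members relative to a strongly closed subgroup

The conditions on a covariant family of automizers hold at every subgroup whose normalizer in `D`
has the largest order in its class, and the family is closed under restriction.
-/

set_option autoImplicit false

namespace CfsgLib.FusionComponents

open Cfsg Cfsg.FusionSystem CfsgLib.Fusion CfsgLib.FusionClosed

variable {Ω : Type*} [Group Ω] {S D : Subgroup Ω} {F : FusionSystem S}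
  {J : ∀ P : Subgroup Ω, Subgroup (MulAut P)} {p : ℕ}

theorem congr_symm_congr {A B : Type*} [Group A] [Group B] (e : A ≃* B) (a : MulAut A) :
    MulAut.congr e.symm (MulAut.congr e a) = a := by
  ext x
  simp [MulAut.congr]

/-- The normalizer of `P` in `D` has the largest order in the class of `P`. -/
def IsDFN (F : FusionSystem S) (D P : Subgroup Ω) : Prop :=
  InH F D P ∧
    ∀ Q, F.IsConj P Q → Nat.card (normalizerIn D Q) ≤ Nat.card (normalizerIn D P)

theorem apply_mem_normalizerIn_closed (hD : F.StronglyClosed D) {X R : Subgroup Ω} {φ : X →* Ω}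
    (hφ : φ ∈ F.Hom X) (hRX : R ≤ X) {x : X} (hx : (x : Ω) ∈ normalizerIn D R) :
    φ x ∈ normalizerIn D (imgHom φ R) :=
  ⟨apply_mem_stronglyClosed hD hφ hx.1, map_mem_normalizer hRX hx.2⟩

theorem card_normalizerIn_le_of_map [Finite S] (hD : F.StronglyClosed D) {R Q : Subgroup Ω}
    (hR : R ≤ D) {φ : normalizerIn D R →* Ω} (hφ : φ ∈ F.Hom (normalizerIn D R))
    (h : imgHom φ R = Q) : Nat.card (normalizerIn D R) ≤ Nat.card (normalizerIn D Q) := by
  subst h
  have := finite_of_le ((normalizerIn_le D (imgHom φ R)).trans hD.1)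
  exact Nat.card_le_card_of_injective
    (fun x => (⟨φ x, apply_mem_normalizerIn_closed hD hφ (le_normalizerIn hR) x.2⟩ :
      normalizerIn D (imgHom φ R)))
    fun a b e => F.injective_of_mem hφ (congrArg Subtype.val e)

theorem isDFN_of_fullyNormalized [Finite S] [Fact p.Prime] (hS : IsPGroup p S)
    (hF : F.IsSaturated p) (hD : F.StronglyClosed D) {P : Subgroup Ω} (hP : InH F D P)
    (hn : F.IsFullyNormalized P) : IsDFN F D P := by
  refine ⟨hP, fun Q hQ => ?_⟩
  obtain ⟨ha, hr⟩ := automized_receptive hS hF hn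
  obtain ⟨χ, hχ, -, himg⟩ := exists_map_normalizerIn hS ha hr (isConj_symm hQ)
  have hle : normalizerIn D Q ≤ normalizerIn S Q := inf_le_inf_right _ hD.1
  refine card_normalizerIn_le_of_map hD (hP.of_isConj hD hQ).1 (restrict_mem hχ hle) ?_
  rw [SatCriterion.imgHom_congr (ψ := χ) (le_normalizerIn (hP.of_isConj hD hQ).1)
    (le_normalizerIn (le_of_isConj_right hQ)) fun x hx => rfl, himg]

/-- A member with the largest normalizer maps with it onto a fully normalized one. -/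
theorem IsDFN.exists_iso [Finite S] [Fact p.Prime] (hS : IsPGroup p S) (hF : F.IsSaturated p)
    (hD : F.StronglyClosed D) {R : Subgroup Ω} (hR : IsDFN F D R) :
    ∃ P, F.IsFullyNormalized P ∧ InH F D P ∧ ∃ e : R ≃* P, IsIso F e ∧
      ∃ f : normalizerIn D R ≃* normalizerIn D P, IsIso F f ∧
        ∀ (x : R) (hx : (x : Ω) ∈ normalizerIn D R), (f ⟨x, hx⟩ : Ω) = e x := by
  have hRS := hR.1.1.trans hD.1
  obtain ⟨P, hRP, hP⟩ := exists_fullyNormalized (F := F) hRS
  obtain ⟨ha, hr⟩ := automized_receptive hS hF hP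
  obtain ⟨χ, hχ, -, himg⟩ := exists_map_normalizerIn hS ha hr hRP
  have hle : normalizerIn D R ≤ normalizerIn S R := inf_le_inf_right _ hD.1
  have hRN : R ≤ normalizerIn D R := le_normalizerIn hR.1.1
  have himg' : imgHom (restrictHom χ hle) R = P := by
    rw [SatCriterion.imgHom_congr (ψ := χ) hRN (hRN.trans hle) fun x hx => rfl, himg]
  obtain ⟨f, hf, hfv⟩ := Fusion.exists_iso (restrict_mem hχ hle) (Q := normalizerIn D P) (by
    have := finite_of_le ((normalizerIn_le D P).trans hD.1)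
    refine Subgroup.eq_of_le_of_card_ge ?_ ?_
    · rintro _ ⟨x, rfl⟩
      exact himg' ▸ apply_mem_normalizerIn_closed hD (restrict_mem hχ hle) hRN x.2
    · rw [← Nat.card_congr
        (MonoidHom.ofInjective (F.injective_of_mem (restrict_mem hχ hle))).toEquiv]
      exact hR.2 P hRP)
  obtain ⟨e, he, hev⟩ := Fusion.exists_iso (restrict_mem hχ (hRN.trans hle))
    ((range_restrictHom χ _).trans himg)
  refine ⟨P, hP, hR.1.of_isConj hD hRP, e, he, f, hf, fun x hx => ?_⟩
  rw [hev, hfv]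
  rfl

theorem compat_symm {R P : Subgroup Ω} (hR : R ≤ D) {e : R ≃* P}
    {f : normalizerIn D R ≃* normalizerIn D P}
    (hc : ∀ (x : R) (hx : (x : Ω) ∈ normalizerIn D R), (f ⟨x, hx⟩ : Ω) = e x) :
    ∀ (y : P) (hy : (y : Ω) ∈ normalizerIn D P), (f.symm ⟨y, hy⟩ : Ω) = e.symm y := by
  intro y hy
  have h1 := hc (e.symm y) (le_normalizerIn hR (e.symm y).2)
  rw [MulEquiv.apply_symm_apply] at h1
  rw [show (⟨(y : Ω), hy⟩ : normalizerIn D P) =
    f ⟨e.symm y, le_normalizerIn hR (e.symm y).2⟩ from Subtype.ext h1.symm,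
    MulEquiv.symm_apply_apply]

variable [Finite S] [Fact p.Prime] (hS : IsPGroup p S) (hF : F.IsSaturated p)
  (h : Family F p D J)
include hS hF h

theorem IsDFN.sylow {R : Subgroup Ω} (hR : IsDFN F D R) :
    IsSylowIn p (J R) (autInducedBy D R) := by
  obtain ⟨P, hP, hPH, e, he, f, hf, hc⟩ := hR.exists_iso hS hF h.closed
  have := finite_of_le hP.1
  have := finite_mulAut (V := P)
  have := (isSylowIn_map_iff (f := (MulAut.congr e.symm).toMonoidHom) (H := J P)
    (MulAut.congr e.symm).injective (h.aut_le P hPH)).2 (h.sylow P hPH hP)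
  rwa [show (J P).map (MulAut.congr e.symm).toMonoidHom = J R from
      le_antisymm (by rintro _ ⟨a, ha, rfl⟩; exact h.covariant P R hPH e.symm he.symm a ha)
        fun b hb => ⟨MulAut.congr e b, h.covariant R P hR.1 e he b hb, congr_symm_congr e b⟩,
    show (autInducedBy D P).map (MulAut.congr e.symm).toMonoidHom = autInducedBy D R from
      le_antisymm (by
        rintro _ ⟨a, ha, rfl⟩
        exact congr_mem_autInducedBy hPH.1 (e := e.symm) (compat_symm hR.1.1 hc) ha)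
        fun b hb => ⟨MulAut.congr e b, congr_mem_autInducedBy hR.1.1 hc hb,
          congr_symm_congr e b⟩] at this

theorem IsDFN.extend {R : Subgroup Ω} (hR : IsDFN F D R) {g : MulAut R} (hg : g ∈ J R)
    (hgp : (orderOf g).Coprime p) {Z : Subgroup (MulAut R)} (hI : Inn R ≤ Z)
    (hZ : Z ≤ autInducedBy D R) (hgZ : ∀ z ∈ Z, g * z * g⁻¹ ∈ Z) :
    ∃ hRW : R ≤ kNormalizer D R Z, ∃ β ∈ J (kNormalizer D R Z), Agrees hRW g β := by
  obtain ⟨P, hP, hPH, e, he, f, hf, hc⟩ := hR.exists_iso hS hF h.closed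
  have hI' : Inn P ≤ Z.map (MulAut.congr e).toMonoidHom := by
    rintro _ ⟨y, rfl⟩
    refine ⟨_, hI ⟨e.symm y, rfl⟩, MulEquiv.ext fun x => ?_⟩
    simp [MulAut.congr, MulAut.conj_apply]
  obtain ⟨hPW, β, hβ, hβg⟩ := h.extend P hPH hP (MulAut.congr e g) (h.covariant R P hR.1 e he g hg)
    (by rwa [show orderOf (MulAut.congr e g) = orderOf g from
      orderOf_injective (MulAut.congr e).toMonoidHom (MulAut.congr e).injective g])
    (Z.map (MulAut.congr e).toMonoidHom) hI'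
    (by rintro _ ⟨z, hz, rfl⟩; exact congr_mem_autInducedBy hR.1.1 hc (hZ hz))
    (by
      rintro _ ⟨z, hz, rfl⟩
      refine ⟨g * z * g⁻¹, hgZ z hz, ?_⟩
      show MulAut.congr e (g * z * g⁻¹) = MulAut.congr e g * MulAut.congr e z * _
      rw [map_mul, map_mul, map_inv])
  have hRW : R ≤ kNormalizer D R Z := fun q hq => mem_kNormalizer.2 ⟨hR.1.1 hq,
    R.normalizerMonoidHom ⟨q, Subgroup.le_normalizer hq⟩,
    hI ⟨⟨q, hq⟩, MulEquiv.ext fun _ => rfl⟩, fun _ => rfl⟩
  refine ⟨hRW, ?_⟩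
  have hRN : R ≤ normalizerIn D R := le_normalizerIn hR.1.1
  obtain ⟨E, hE, hEv⟩ := Fusion.exists_iso (restrict_mem hf (kNormalizer_le_normalizerIn Z))
    (Q := kNormalizer D P (Z.map (MulAut.congr e).toMonoidHom)) (by
      ext y
      constructor
      · rintro ⟨⟨x, hx⟩, rfl⟩
        obtain ⟨hxD, a, ha, hav⟩ := mem_kNormalizer.1 hx
        have hxN := kNormalizer_le_normalizerIn Z hx
        refine mem_kNormalizer.2 ⟨(f ⟨x, hxN⟩).2.1, _, ⟨a, ha, rfl⟩, fun q => ?_⟩
        obtain ⟨r, rfl⟩ := e.surjective q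
        show (MulAut.congr e a (e r) : Ω) = _
        rw [congr_apply, ← hc (a r) (hRN (a r).2), ← hc r (hRN r.2)]
        show _ = ((f ⟨x, hxN⟩ * f ⟨r, hRN r.2⟩ * (f ⟨x, hxN⟩)⁻¹ : normalizerIn D P) : Ω)
        rw [← map_inv, ← map_mul, ← map_mul]
        exact congrArg (fun w => (f w : Ω)) (Subtype.ext (hav r))
      · intro hy
        obtain ⟨hyD, _, ⟨a, ha, rfl⟩, hav⟩ := mem_kNormalizer.1 hy
        obtain ⟨x, hx⟩ := f.surjective ⟨y, kNormalizer_le_normalizerIn _ hy⟩
        refine ⟨⟨x, mem_kNormalizer.2 ⟨x.2.1, a, ha, fun r => ?_⟩⟩, congrArg Subtype.val hx⟩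
        have h1 : f ⟨(a r : Ω), hRN (a r).2⟩ = f (x * ⟨r, hRN r.2⟩ * x⁻¹) := by
          rw [map_mul, map_mul, map_inv, hx]
          refine Subtype.ext ?_
          rw [hc, ← congr_apply (e := e)]
          refine (hav (e r)).trans ?_
          show y * (e r : Ω) * y⁻¹ = y * (f ⟨r, _⟩ : Ω) * y⁻¹
          rw [hc]
        exact congrArg Subtype.val (f.injective h1))
  have hWH : InH F D (kNormalizer D P (Z.map (MulAut.congr e).toMonoidHom)) :=
    hPH.of_le h.closed hPW (kNormalizer_le _)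
  refine ⟨MulAut.congr E.symm β, h.covariant _ _ hWH E.symm hE.symm β hβ, fun x => ?_⟩
  have hEx : ∀ z : R, E ⟨z, hRW z.2⟩ = ⟨e z, hPW (e z).2⟩ := fun z => Subtype.ext (by
    rw [hEv]; exact hc z (hRN z.2))
  show (E.symm (β (E ⟨x, hRW x.2⟩)) : Ω) = _
  rw [hEx, show β ⟨(e x : Ω), hPW (e x).2⟩ = E ⟨(g x : Ω), hRW (g x).2⟩ from Subtype.ext (by
    rw [hEx, hβg (e x), congr_apply]), E.symm_apply_apply]

/-- Every member is conjugate in the generated system to one with the largest normalizer. -/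
theorem exists_dfn {P : Subgroup Ω} (hP : InH F D P) :
    ∃ R, IsDFN F D R ∧ (genSystem F h.closed.1 J).IsConj P R := by
  have hD := h.closed
  obtain ⟨Q, ⟨φ, hφ, hr⟩, hQ⟩ := exists_fullyNormalized (F := F) (hP.1.trans hD.1)
  have hQH : InH F D Q := hP.of_isConj hD ⟨φ, hφ, hr⟩
  have hQd := isDFN_of_fullyNormalized hS hF hD hQH hQ
  obtain ⟨α, hα, φ₀, hφ₀, hv⟩ := h.frattini hS hF hD (fun _ _ h => h) genSystem_isSubsystemOf
    (fun R hR hn => h.sylow R hR hn)
    (fun R hR hnot hn => by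
      have hno : ∃ R', F.IsConj R R' ∧ ¬ centralizerIn D R' ≤ R' := by
        by_contra hne
        push Not at hne
        exact hnot ⟨hR, hne⟩
      obtain ⟨R', hR', hR'n⟩ := hno
      exact not_centralizer_le_fullyNormalized hS hF hD (isConj_symm hR') hn hR'n)
    hP.1 hφ
  refine ⟨φ₀.range, ?_, φ₀, hφ₀, rfl⟩
  have hPR : F.IsConj P φ₀.range := ⟨φ₀, genSystem_isSubsystemOf _ hφ₀, rfl⟩
  refine ⟨hP.of_isConj hD hPR, fun Q' hQ' => (hQd.2 Q' (isConj_trans (isConj_symm ⟨φ, hφ, hr⟩)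
    (isConj_trans hPR hQ'))).trans ?_⟩
  have hαi : IsIso F α⁻¹ := (mem_autGroup_iff hD.1).1 (inv_mem hα)
  have hQN : Q ≤ normalizerIn D Q := le_normalizerIn hQH.1
  refine card_normalizerIn_le_of_map hD hQH.1
    (restrict_mem hαi (normalizerIn_le D Q)) ?_
  ext y
  constructor
  · rintro ⟨⟨q, hq'⟩, hq, rfl⟩
    obtain ⟨x, hx⟩ := hr.ge hq
    refine ⟨x, ?_⟩
    show φ₀ x = (α⁻¹ ⟨q, _⟩ : Ω)
    have hx0 : φ₀ x ∈ D := apply_mem hφ₀ x
    rw [show (⟨q, normalizerIn_le D Q hq'⟩ : D) = α ⟨φ₀ x, hx0⟩ from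
      Subtype.ext (hx.symm.trans (hv x hx0)), MulAut.inv_apply_self]
  · rintro ⟨x, rfl⟩
    have hx0 : φ₀ x ∈ D := apply_mem hφ₀ x
    refine ⟨⟨φ x, hQN (hr.le ⟨x, rfl⟩)⟩, hr.le ⟨x, rfl⟩, ?_⟩
    show (α⁻¹ ⟨φ x, _⟩ : Ω) = φ₀ x
    rw [show (⟨φ x, normalizerIn_le D Q (hQN (hr.le ⟨x, rfl⟩))⟩ : D) = α ⟨φ₀ x, hx0⟩ from
      Subtype.ext (hv x hx0), MulAut.inv_apply_self]

omit hS hF in
/-- The family is closed under restriction. -/
theorem res_mem {X R : Subgroup Ω} (hRX : R ≤ X) (hR : InH F D R) (hX : X ≤ D) {c : MulAut X}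
    (hc : c ∈ J X) {b : MulAut R} (hcb : Agrees hRX b c) : b ∈ J R := by
  have hD := h.closed
  have hXH : InH F D X := hR.of_le hD hRX hX
  have := finite_of_le (hX.trans hD.1)
  have := finite_mulAut (V := X)
  obtain ⟨a, a', ha, ha', ⟨k, hk⟩, hcop, hmul⟩ :=
    LocalStructure.exists_pPart_mul (p := p) c
  obtain ⟨n, hn⟩ := (isOfFinOrder_of_finite c).mem_powers_iff_mem_zpowers.2 ha
  obtain ⟨m, hm⟩ := (isOfFinOrder_of_finite c).mem_powers_iff_mem_zpowers.2 ha'
  have h1 : Agrees hRX (b ^ n) a := by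
    have := hcb.pow n
    rwa [show c ^ n = a from hn] at this
  have h2 : Agrees hRX (b ^ m) a' := by
    have := hcb.pow m
    rwa [show c ^ m = a' from hm] at this
  have hb : b = b ^ n * b ^ m := hcb.unique (hmul ▸ h1.mul h2)
  have haJ : a ∈ J X := hn ▸ pow_mem hc n
  have ha'J : a' ∈ J X := hm ▸ pow_mem hc m
  rw [hb]
  refine mul_mem ?_ (h.restrict X R hRX hR hX a' ha'J _ hcop h2)
  obtain ⟨X', hXX', hX'⟩ := exists_fullyNormalized (F := F) (hX.trans hD.1)
  obtain ⟨e₀, he₀⟩ := isConj_iff.1 hXX'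
  have hX'H : InH F D X' := hXH.of_isConj hD hXX'
  have := finite_of_le hX'.1
  have := finite_mulAut (V := X')
  obtain ⟨δ, hδ, hδc⟩ := (h.sylow X' hX'H hX').exists_conj
    (X := Subgroup.zpowers (MulAut.congr e₀ a))
    (Subgroup.zpowers_le.2 (h.covariant X X' hXH e₀ he₀ a haJ))
    (isPGroup_zpowers_of_pow_eq_one (k := k) (by
      rw [← map_pow, ← hk, pow_orderOf_eq_one, map_one]))
  have hε : IsIso F (e₀.trans δ) :=
    he₀.trans ((mem_autGroup_iff hX'.1).1 (h.le_aut X' hX'H hδ))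
  obtain ⟨d, hd, -, hdv⟩ := mem_autInducedBy_iff.1 (hδc _ (Subgroup.mem_zpowers _))
  rw [← congr_self_eq, ← congr_trans] at hdv
  generalize e₀.trans δ = ε at hε hdv
  obtain ⟨eR, heR, heRv⟩ := exists_iso_restrict hε hRX
  have hR' : InH F D _ := hR.of_isConj hD heR.isConj
  have hmem : MulAut.congr eR (b ^ n) ∈ autInducedBy D _ := Subgroup.subset_closure ⟨d, hd, fun y => by
    obtain ⟨r, rfl⟩ := eR.surjective y
    rw [congr_apply, heRv, heRv]
    show (ε ⟨((b ^ n) r : Ω), _⟩ : Ω) = d * (ε ⟨r, _⟩ : Ω) * d⁻¹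
    rw [← hdv, congr_apply]
    exact congrArg (fun w => (ε w : Ω)) (Subtype.ext (h1 r).symm)⟩
  have := h.covariant _ R hR' eR.symm heR.symm _ (h.aut_le _ hR' hmem)
  rwa [congr_symm_congr] at this

end CfsgLib.FusionComponents
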