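import Cfsg.Agent.FusionComponents.Master
import Cfsg.Agent.FusionComponents.GenAux

/-!
# Fusion in the centralizer of a normal subsystem

Let `E` be invariant in `F` over `T` and `Y` the largest subgroup of `C_S(T)` centralized by `E`.
Then every map of `F` carries elements of `Y` into `Y`, and its restriction to `Y` extends to a map
defined on `T`.
-/

set_option autoImplicit false

namespace CfsgLib.FusionComponents

open Cfsg Cfsg.FusionSystem CfsgLib.Fusion CfsgLib.FusionClosed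

variable {Ω : Type*} [Group Ω] {S T Y : Subgroup Ω} {F : FusionSystem S} {E : FusionSystem T}
  {p : ℕ}

/-- A map defined on `T` carries subgroups centralized by `E` to such subgroups. -/
theorem centralized_image [Finite S] (hinv : E.IsInvariantIn F)
    (hY : Y ≤ centralizerIn S T) (hEY : ∀ P, E.Hom P ⊆ F.centralizerHom Y P)
    {W : Subgroup Ω} {χ : W →* Ω} (hχ : χ ∈ F.Hom W) (hTW : T ≤ W) :
    imgHom χ (Y ⊓ W) ≤ centralizerIn S T ∧
      ∀ P, E.Hom P ⊆ F.centralizerHom (imgHom χ (Y ⊓ W)) P := by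
  obtain ⟨hEF, hT, hai, -⟩ := id hinv
  have hTS := hT.1
  have := finite_of_le hTS
  obtain ⟨α, hα, hαv⟩ := exists_aut_restrict hχ hTW
    fun x hx => apply_mem_stronglyClosed hT hχ (x := ⟨x, hTW hx⟩) hx
  have hZC : imgHom χ (Y ⊓ W) ≤ centralizerIn S T := by
    rintro _ ⟨w, hw, rfl⟩
    refine mem_centralizerIn.2 ⟨apply_mem hχ w, fun t ht => ?_⟩
    obtain ⟨t₀, ht₀⟩ := α.surjective ⟨t, ht⟩
    have e : χ ⟨t₀, hTW t₀.2⟩ = t := (hαv t₀).symm.trans (congrArg Subtype.val ht₀)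
    rw [← e, ← map_mul, ← map_mul]
    exact congrArg χ (Subtype.ext ((mem_centralizerIn.1 (hY hw.1)).2 t₀ t₀.2))
  refine ⟨hZC, fun P φ hφ => ?_⟩
  have hP : P ≤ T := le_left hφ
  obtain ⟨R, hR⟩ : ∃ R, R = (P.subgroupOf T).map (T.subtype.comp (α⁻¹ : MulAut T).toMonoidHom) :=
    ⟨_, rfl⟩
  obtain ⟨χ', hχ', hχ'v⟩ := exists_conj_hom hai hφ (inv_mem hα) (R := R) (by
    rw [hR]
    rintro _ ⟨x, hx, rfl⟩
    exact ⟨⟨x, hx⟩, rfl⟩)
  obtain ⟨-, -, -, ψ', hψ', h1', h2'⟩ := hEY R hχ'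
  have hRT : R ≤ T := le_left hχ'
  obtain ⟨V, hV⟩ : ∃ V, V = R ⊔ (Y ⊓ W) := ⟨_, rfl⟩
  have hVW : V ≤ W := hV ▸ sup_le (hRT.trans hTW) inf_le_right
  have hVle : V ≤ R ⊔ Y := hV ▸ sup_le_sup_left inf_le_left R
  obtain ⟨e, he, hev⟩ := exists_iso_restrict hχ hVW
  have hψW : ∀ v : V, restrictHom ψ' hVle v ∈ W := fun v => forall_mem_sup
    (restrictHom ψ' hVle) (show R ≤ V from hV ▸ le_sup_left)
    (show Y ⊓ W ≤ V from hV ▸ le_sup_right)
    (fun x hx => by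
      show ψ' (Subgroup.inclusion le_sup_left (⟨x, hx⟩ : R)) ∈ W
      rw [h1']
      exact hTW (apply_mem hχ' _))
    (fun x hx => by
      show ψ' (Subgroup.inclusion le_sup_right (⟨x, hx.1⟩ : Y)) ∈ W
      rw [h2']
      exact hx.2) v.2 (hV ▸ v.2)
  obtain ⟨ψ₀, hψ₀⟩ : ∃ ψ₀, ψ₀ = χ.comp
      (((restrictHom ψ' hVle).comp e.symm.toMonoidHom).codRestrict W fun z => hψW _) := ⟨_, rfl⟩
  have hψ₀m : ψ₀ ∈ F.Hom (imgHom χ V) := hψ₀ ▸
    F.comp_mem (he.symm.comp_hom (restrict_mem hψ' hVle)) hχ _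
  have hleV : P ⊔ imgHom χ (Y ⊓ W) ≤ imgHom χ V := by
    refine sup_le (fun x hx => ?_) (imgHom_mono χ (hV ▸ le_sup_right))
    have hxR : (α⁻¹ ⟨x, hP hx⟩ : Ω) ∈ R := hR ▸ ⟨⟨x, hP hx⟩, hx, rfl⟩
    refine ⟨⟨_, hTW (α⁻¹ ⟨x, hP hx⟩).2⟩, hV ▸ Subgroup.mem_sup_left hxR, ?_⟩
    rw [← hαv (α⁻¹ ⟨x, hP hx⟩), MulAut.apply_inv_self]
  have hval : ∀ (v : V) (h : (e v : Ω) ∈ imgHom χ V),
      ψ₀ ⟨_, h⟩ = χ ⟨restrictHom ψ' hVle v, hψW v⟩ := fun v h => by
    rw [hψ₀]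
    exact congrArg χ (Subtype.ext (congrArg (restrictHom ψ' hVle) (e.symm_apply_apply v)))
  refine ⟨hEF P hφ, fun x hx => mem_centralizerIn.2 ⟨hTS (hP hx), fun z hz =>
      ((mem_centralizerIn.1 (hZC hz)).2 x (hP hx)).symm⟩,
    fun x => mem_centralizerIn.2 ⟨hTS (apply_mem hφ x), fun z hz =>
      ((mem_centralizerIn.1 (hZC hz)).2 _ (apply_mem hφ x)).symm⟩,
    restrictHom ψ₀ hleV, restrict_mem hψ₀m hleV, fun x => ?_, fun z => ?_⟩
  · have hxR : (α⁻¹ ⟨x, hP x.2⟩ : Ω) ∈ R := hR ▸ ⟨⟨x, hP x.2⟩, x.2, rfl⟩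
    obtain ⟨v, hv⟩ : ∃ v : V, (v : Ω) = (α⁻¹ ⟨x, hP x.2⟩ : Ω) :=
      ⟨⟨_, hV ▸ Subgroup.mem_sup_left hxR⟩, rfl⟩
    have hex : (e v : Ω) = x := by
      rw [hev, show (⟨v, hVW v.2⟩ : W) = ⟨_, hTW (α⁻¹ ⟨x, hP x.2⟩).2⟩ from Subtype.ext hv, ← hαv,
        MulAut.apply_inv_self]
    have hψv : restrictHom ψ' hVle v = (α⁻¹ ⟨φ x, apply_mem hφ x⟩ : Ω) := by
      refine Eq.trans ?_ ((h1' ⟨_, hxR⟩).trans (hχ'v x hxR))
      exact congrArg ψ' (Subtype.ext hv)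
    show ψ₀ ⟨(x : Ω), _⟩ = φ x
    rw [show (⟨(x : Ω), hleV (Subgroup.mem_sup_left x.2)⟩ : imgHom χ V) = e v from
      Subtype.ext hex.symm, hval v (e v).2,
      show (⟨restrictHom ψ' hVle v, hψW v⟩ : W) =
        ⟨_, hTW (α⁻¹ ⟨φ x, apply_mem hφ x⟩).2⟩ from Subtype.ext hψv, ← hαv,
      MulAut.apply_inv_self]
  · obtain ⟨w, hw, hwz⟩ := z.2
    have hwV : (w : Ω) ∈ V := hV ▸ Subgroup.mem_sup_right hw
    have hψv : restrictHom ψ' hVle ⟨w, hwV⟩ = w := h2' ⟨w, hw.1⟩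
    show ψ₀ ⟨(z : Ω), _⟩ = z
    rw [show (⟨(z : Ω), hleV (Subgroup.mem_sup_right z.2)⟩ : imgHom χ V) = e ⟨w, hwV⟩ from
      Subtype.ext (hwz.symm.trans (hev ⟨w, hwV⟩).symm), hval _ (e _).2,
      show (⟨restrictHom ψ' hVle ⟨w, hwV⟩, hψW _⟩ : W) = w from Subtype.ext hψv]
    exact hwz

/-- A map defined on `T` carries the subgroup centralized by `E` into itself. -/
theorem apply_mem_of_le [Finite S] (hinv : E.IsInvariantIn F)
    (hY : Y ≤ centralizerIn S T) (hEY : ∀ P, E.Hom P ⊆ F.centralizerHom Y P)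
    (hmax : ∀ Y' : Subgroup Ω, Y' ≤ centralizerIn S T →
      (∀ P, E.Hom P ⊆ F.centralizerHom Y' P) → Y' ≤ Y)
    {W : Subgroup Ω} {χ : W →* Ω} (hχ : χ ∈ F.Hom W) (hTW : T ≤ W) {y : W} (hy : (y : Ω) ∈ Y) :
    χ y ∈ Y :=
  hmax _ (centralized_image hinv hY hEY hχ hTW).1 (centralized_image hinv hY hEY hχ hTW).2
    ⟨y, ⟨hy, y.2⟩, rfl⟩

/-- `φ` preserves `Y` and its restriction to `Y` extends to `T`. -/
def Good (F : FusionSystem S) (T Y : Subgroup Ω) {P : Subgroup Ω} (φ : P →* Ω) : Prop :=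
  (∀ x : P, φ x ∈ Y ↔ (x : Ω) ∈ Y) ∧ ∃ χ ∈ F.Hom ((P ⊓ Y) ⊔ T),
    ∀ (x : Ω) (hx : x ∈ P ⊓ Y), χ ⟨x, Subgroup.mem_sup_left hx⟩ = φ ⟨x, hx.1⟩

theorem Good.restrict {P R : Subgroup Ω} {φ : P →* Ω} (h : Good F T Y φ) (hRP : R ≤ P)
    {ψ : R →* Ω} (hv : ∀ x : R, ψ x = φ ⟨x, hRP x.2⟩) : Good F T Y ψ := by
  obtain ⟨h1, χ, hχ, h2⟩ := h
  have hle : (R ⊓ Y) ⊔ T ≤ (P ⊓ Y) ⊔ T := sup_le_sup_right (inf_le_inf_right Y hRP) T
  exact ⟨fun x => by rw [hv]; exact h1 ⟨x, hRP x.2⟩, restrictHom χ hle, restrict_mem hχ hle,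
    fun x hx => (h2 x ⟨hRP hx.1, hx.2⟩).trans (hv ⟨x, hx.1⟩).symm⟩

/-- The maps which are good whenever their source meets `T` in a large subgroup. -/
def goodSystem [Finite S] (F : FusionSystem S) (hT : F.StronglyClosed T) (hYS : Y ≤ S)
    (hn : ∀ s ∈ S, ∀ y ∈ Y, s * y * s⁻¹ ∈ Y) (d : ℕ) : FusionSystem S where
  Hom P := {φ | φ ∈ F.Hom P ∧ (Nat.card T ≤ Nat.card ↥(P ⊓ T) + d → Good F T Y φ)}
  le_of_mem h := F.le_of_mem h.1
  injective_of_mem h := F.injective_of_mem h.1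
  conj_mem := fun {P s} hP hs => by
    refine ⟨F.conj_mem hP hs, fun _ => ⟨fun x => ⟨fun h => ?_, fun h => hn s hs x h⟩,
      conjHom _ s, F.conj_mem (sup_le (inf_le_left.trans hP) hT.1) hs, fun x hx => rfl⟩⟩
    have := hn s⁻¹ (S.inv_mem hs) _ h
    simpa [conjHom, mul_assoc] using this
  comp_mem := fun {P Q φ ψ} hφ hψ h => by
    refine ⟨F.comp_mem hφ.1 hψ.1 h, fun hd => ?_⟩
    have := finite_of_le hT.1
    have hcard : Nat.card ↥(P ⊓ T) ≤ Nat.card ↥(Q ⊓ T) := by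
      have : Finite ↥(Q ⊓ T) := finite_of_le (S := T) inf_le_right
      refine Nat.card_le_card_of_injective
        (fun x => (⟨φ ⟨x, x.2.1⟩, h _,
          apply_mem_stronglyClosed hT hφ.1 (x := ⟨x, x.2.1⟩) x.2.2⟩ : ↥(Q ⊓ T))) fun a b hab => ?_
      exact Subtype.ext (congrArg Subtype.val
        (F.injective_of_mem hφ.1 (congrArg Subtype.val hab)) :)
    obtain ⟨h1, χ₁, hχ₁, hv₁⟩ := hφ.2 hd
    obtain ⟨h2, χ₂, hχ₂, hv₂⟩ := hψ.2 (hd.trans (Nat.add_le_add_right hcard d))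
    have hmem : ∀ z, χ₁ z ∈ (Q ⊓ Y) ⊔ T := fun z => forall_mem_sup χ₁ le_sup_left le_sup_right
      (fun x hx => Subgroup.mem_sup_left (by
        rw [hv₁ x hx]; exact ⟨h _, (h1 ⟨x, hx.1⟩).2 hx.2⟩))
      (fun x hx => Subgroup.mem_sup_right
        (apply_mem_stronglyClosed hT hχ₁ (x := ⟨x, Subgroup.mem_sup_right hx⟩) hx)) z.2 z.2
    refine ⟨fun x => (h2 _).trans (h1 x), _, F.comp_mem hχ₁ hχ₂ hmem, fun x hx => ?_⟩
    have hQY : φ ⟨x, hx.1⟩ ∈ Q ⊓ Y := ⟨h _, (h1 ⟨x, hx.1⟩).2 hx.2⟩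
    refine Eq.trans ?_ (hv₂ _ hQY)
    exact congrArg χ₂ (Subtype.ext (hv₁ x hx))
  inv_mem := fun {P φ} hφ => by
    obtain ⟨ψ, hψ, hv⟩ := F.inv_mem hφ.1
    refine ⟨ψ, ⟨hψ, fun hd => ?_⟩, hv⟩
    have := finite_of_le hT.1
    have hcard : Nat.card ↥(φ.range ⊓ T) ≤ Nat.card ↥(P ⊓ T) := by
      have : Finite ↥(P ⊓ T) := finite_of_le (S := T) inf_le_right
      refine Nat.card_le_card_of_injective (fun z => (⟨ψ ⟨z, z.2.1⟩, ?_,
        apply_mem_stronglyClosed hT hψ (x := ⟨z, z.2.1⟩) z.2.2⟩ : ↥(P ⊓ T))) fun a b hab => ?_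
      · obtain ⟨x, hx⟩ := z.2.1
        rw [show (⟨(z : Ω), z.2.1⟩ : φ.range) = ⟨φ x, x, rfl⟩ from Subtype.ext hx.symm, hv]
        exact x.2
      · exact Subtype.ext (congrArg Subtype.val
          (F.injective_of_mem hψ (congrArg Subtype.val hab)) :)
    obtain ⟨h1, χ, hχ, hv₁⟩ := hφ.2 (hd.trans (Nat.add_le_add_right hcard d))
    obtain ⟨θ, hθ, hθv⟩ := F.inv_mem hχ
    have hle : (φ.range ⊓ Y) ⊔ T ≤ χ.range := by
      refine sup_le ?_ fun t ht => ?_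
      · rintro _ ⟨⟨x, rfl⟩, hx⟩
        exact ⟨⟨(x : Ω), Subgroup.mem_sup_left ⟨x.2, (h1 x).1 hx⟩⟩, hv₁ (x : Ω) ⟨x.2, (h1 x).1 hx⟩⟩
      · obtain ⟨α, -, hαv⟩ := exists_aut_restrict hχ (le_sup_right : T ≤ (P ⊓ Y) ⊔ T)
          fun x hx => apply_mem_stronglyClosed hT hχ (x := ⟨x, Subgroup.mem_sup_right hx⟩) hx
        obtain ⟨t₀, ht₀⟩ := α.surjective ⟨t, ht⟩
        exact ⟨_, (hαv t₀).symm.trans (congrArg Subtype.val ht₀)⟩
    refine ⟨?_, restrictHom θ hle, restrict_mem hθ hle, ?_⟩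
    · rintro ⟨_, x, rfl⟩
      rw [hv x]
      exact (h1 x).symm
    · rintro z ⟨⟨x, rfl⟩, hx⟩
      have hx' : (x : Ω) ∈ P ⊓ Y := ⟨x.2, (h1 x).1 hx⟩
      refine Eq.trans ?_ ((hθv ⟨x, Subgroup.mem_sup_left hx'⟩).trans (hv x).symm)
      exact congrArg θ (Subtype.ext (hv₁ _ hx').symm)

/-- An element of `Aut_F(P)` lies in the good system. -/
theorem mem_goodSystem_aut [Finite S] {hT : F.StronglyClosed T} {hYS : Y ≤ S}
    {hn : ∀ s ∈ S, ∀ y ∈ Y, s * y * s⁻¹ ∈ Y} {d : ℕ} {P : Subgroup Ω} (hP : P ≤ S) {α : MulAut P}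
    (hα : α ∈ F.autGroup P) (h : Good F T Y (P.subtype.comp α.toMonoidHom)) :
    α ∈ (goodSystem F hT hYS hn d).autGroup P :=
  IsIso.mem_autGroup ⟨(mem_autGroup_iff hP).1 hα, fun _ => h⟩

/-- **Every map of `F` preserves `Y`, and its restriction to `Y` extends to `T`.** -/
theorem good_of_mem [Finite S] [Fact p.Prime] (hS : IsPGroup p S) (hF : F.IsSaturated p)
    (hinv : E.IsInvariantIn F) (hY : Y ≤ centralizerIn S T)
    (hEY : ∀ P, E.Hom P ⊆ F.centralizerHom Y P)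
    (hmax : ∀ Y' : Subgroup Ω, Y' ≤ centralizerIn S T →
      (∀ P, E.Hom P ⊆ F.centralizerHom Y' P) → Y' ≤ Y)
    {P : Subgroup Ω} {φ : P →* Ω} (hφ : φ ∈ F.Hom P) : Good F T Y φ := by
  classical
  obtain ⟨hEF, hT, hai, -⟩ := id hinv
  have hTS := hT.1
  have := finite_of_le hTS
  have hYS : Y ≤ S := hY.trans (centralizerIn_le S T)
  have hmem := @apply_mem_of_le Ω _ S T Y F E _ hinv hY hEY hmax
  have hn : ∀ s ∈ S, ∀ y ∈ Y, s * y * s⁻¹ ∈ Y := fun s hs y hy =>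
    hmem (F.conj_mem (le_rfl : S ≤ S) hs) hTS (y := ⟨y, hYS hy⟩) hy
  have hsi := strongInvariant_of_invariant hinv
  suffices H : ∀ d, F ≤ goodSystem F hT hYS hn d from
    ((H (Nat.card T)) P hφ).2 (Nat.le_add_left _ _)
  intro d
  induction d using Nat.strong_induction_on with
  | _ d ih =>
  obtain ⟨K, hK⟩ : ∃ K, K = goodSystem F hT hYS hn d := ⟨_, rfl⟩
  rw [← hK]
  refine FusionSub.le_of_autGroups hS hF K fun R hRn _ _ β hβ => ?_
  have hRS := hRn.1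
  have := finite_of_le hRS
  have := finite_mulAut (V := R)
  by_cases hcond : Nat.card T ≤ Nat.card ↥(R ⊓ T) + d
  swap
  · exact hK ▸ IsIso.mem_autGroup ⟨(mem_autGroup_iff hRS).1 hβ, fun h => absurd h hcond⟩
  -- maps with a larger intersection with `T` are good
  have hbig : ∀ {W : Subgroup Ω} {ψ : W →* Ω}, ψ ∈ F.Hom W →
      Nat.card ↥(R ⊓ T) < Nat.card ↥(W ⊓ T) → Good F T Y ψ := by
    intro W ψ hψ hlt
    have hle : Nat.card ↥(W ⊓ T) ≤ Nat.card T := Subgroup.card_le_of_le inf_le_right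
    exact ((ih (Nat.card T - Nat.card ↥(W ⊓ T)) (by omega)) W hψ).2 (by omega)
  by_cases hTR : T ≤ R
  · rw [hK]
    refine mem_goodSystem_aut hRS hβ ⟨fun x => ⟨fun h => ?_, fun h => ?_⟩, ?_⟩
    · have := hmem ((mem_autGroup_iff hRS).1 (inv_mem hβ)) hTR (y := β x) h
      simpa using this
    · exact hmem ((mem_autGroup_iff hRS).1 hβ) hTR (y := x) h
    · exact ⟨restrictHom (R.subtype.comp β.toMonoidHom) (sup_le inf_le_left hTR),
        restrict_mem ((mem_autGroup_iff hRS).1 hβ) _, fun x hx => rfl⟩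
  obtain ⟨Q, hQ⟩ : ∃ Q, Q = R ⊓ T := ⟨_, rfl⟩
  have hQR : Q ≤ R := hQ ▸ inf_le_left
  have hQT : Q ≤ T := hQ ▸ inf_le_right
  have hQmem : ∀ {x : Ω}, x ∈ R → x ∈ T → x ∈ Q := fun h1 h2 => hQ ▸ ⟨h1, h2⟩
  rw [← hQ] at hbig hcond
  have := finite_of_le (hQR.trans hRS)
  -- the normal subgroup `M`
  let M : Subgroup (MulAut R) :=
    { carrier := {m | m ∈ F.autGroup R ∧ (∀ r : R, (r : Ω)⁻¹ * (m r : Ω) ∈ T) ∧
        ∃ a ∈ E.autGroup Q, Agrees hQR a m}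
      one_mem' := ⟨one_mem _, fun r => by rw [MulAut.one_apply, inv_mul_cancel]; exact one_mem _,
        1, one_mem _, Agrees.one _⟩
      mul_mem' := fun {m m'} ⟨hm, hd, a, ha, hav⟩ ⟨hm', hd', a', ha', hav'⟩ =>
        ⟨mul_mem hm hm', fun r => by
          have := T.mul_mem (hd' r) (hd (m' r))
          rwa [mul_assoc, mul_inv_cancel_left] at this,
          a * a', mul_mem ha ha', hav.mul hav'⟩
      inv_mem' := fun {m} ⟨hm, hd, a, ha, hav⟩ =>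
        ⟨inv_mem hm, fun r => by
          have := T.inv_mem (hd (m⁻¹ r))
          rwa [MulAut.apply_inv_self, mul_inv_rev, inv_inv] at this,
          a⁻¹, inv_mem ha, hav.inv⟩ }
  have hMA : M ≤ F.autGroup R := fun m hm => hm.1
  have hprQ : ∀ k ∈ F.autGroup R, ∀ r : R, (r : Ω) ∈ T → (k r : Ω) ∈ T := fun k hk r hr =>
    apply_mem_stronglyClosed hT ((mem_autGroup_iff hRS).1 hk) hr
  have hMn : F.autGroup R ≤ Subgroup.normalizer (M : Set (MulAut R)) := by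
    intro k hk
    refine SatCriterion.mem_normalizer_of_finite fun m ⟨hm, hd, a, ha, hav⟩ => ?_
    obtain ⟨b, hb, hbv⟩ := exists_aut_restrict ((mem_autGroup_iff hRS).1 hk) hQR
      fun x hx => hQmem (k _).2 (hprQ k hk ⟨x, hQR hx⟩ (hQT hx))
    refine ⟨mul_mem (mul_mem hk hm) (inv_mem hk), fun r => ?_, b * a * b⁻¹, ?_, ?_⟩
    · obtain ⟨v, rfl⟩ := k.surjective r
      show (k v : Ω)⁻¹ * (k (m (k⁻¹ (k v))) : Ω) ∈ T
      rw [MulAut.inv_apply_self, ← InvMemClass.coe_inv, ← Subgroup.coe_mul, ← map_inv, ← map_mul]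
      exact hprQ k hk _ (hd v)
    · rw [← congr_self_eq]
      exact congr_mem_of_invariant hsi hQT hQT ((mem_autGroup_iff (hQR.trans hRS)).1 hb) ha
    · have hbk : Agrees hQR b k := fun x => (hbv x).symm
      exact (hbk.mul hav).mul hbk.inv
  obtain ⟨⟨-, hsyl⟩, hRr⟩ := automized_receptive hS hF hRn
  have hsylA : IsSylowIn p (F.autGroup R) (autInducedBy S R) := hsyl
  obtain ⟨Z, hZ⟩ : ∃ Z, Z = autInducedBy S R ⊓ M := ⟨_, rfl⟩
  have hZs : IsSylowIn p M Z :=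
    hZ ▸ hsylA.inf_normal (autInducedBy_le_autGroup hRS) hMA hMn
  have hZp : IsPGroup p Z := hZ ▸ (isPGroup_autInducedBy hS R).to_le inf_le_left
  -- elements of `M` are good
  have hM : ∀ m ∈ M, m ∈ K.autGroup R := by
    intro m hm
    obtain ⟨V, hV⟩ : ∃ V, V = Q ⊔ (R ⊓ Y) := ⟨_, rfl⟩
    have hQV : Q ≤ V := hV ▸ le_sup_left
    have hVR : V ≤ R := hV ▸ sup_le hQR inf_le_left
    have hVS := hVR.trans hRS
    have := finite_of_le hVS
    have := finite_mulAut (V := V)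
    have hVp : IsPGroup p V := hS.to_le hVS
    have hVT : ∀ {x : Ω}, x ∈ V → x ∈ T → x ∈ Q := fun hx hxT => hQmem (hVR hx) hxT
    have hmV : ∀ m' ∈ M, ∀ x (hx : x ∈ V), (m' ⟨x, hVR hx⟩ : Ω) ∈ V := by
      intro m' hm' x hx
      have h2 : x⁻¹ * (m' ⟨x, hVR hx⟩ : Ω) ∈ Q :=
        hQmem (R.mul_mem (R.inv_mem (hVR hx)) (m' _).2) (hm'.2.1 ⟨x, hVR hx⟩)
      have := V.mul_mem hx (hQV h2)
      rwa [mul_inv_cancel_left] at this
    obtain ⟨-, hd, a, ha, hav⟩ := id hm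
    obtain ⟨mV, hmVF, hmVv⟩ := exists_aut_restrict ((mem_autGroup_iff hRS).1 hm.1) hVR (hmV m hm)
    -- the extension of `a` fixing `Y`
    obtain ⟨-, -, -, ψ, hψ, hψ1, hψ2⟩ := hEY Q ((mem_autGroup_iff hQT).1 ha)
    have hVle : V ≤ Q ⊔ Y := hV ▸ sup_le_sup_left inf_le_right Q
    obtain ⟨γ, hγ, hγv⟩ := exists_aut_restrict hψ hVle fun x hx => forall_mem_sup
      (restrictHom ψ hVle) hQV (show R ⊓ Y ≤ V from hV ▸ le_sup_right)
      (fun y hy => by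
        show ψ (Subgroup.inclusion le_sup_left (⟨y, hy⟩ : Q)) ∈ V
        rw [hψ1]
        exact hQV (a _).2)
      (fun y hy => by
        show ψ (Subgroup.inclusion le_sup_right (⟨y, hy.2⟩ : Y)) ∈ V
        rw [hψ2]
        exact hV ▸ Subgroup.mem_sup_right hy) hx (hV ▸ hx)
    have hγY : ∀ v : V, (v : Ω) ∈ Y → γ v = v := fun v hv =>
      Subtype.ext ((hγv v).trans (hψ2 ⟨v, hv⟩))
    have hγQ : ∀ v : V, (v : Ω) ∈ T → γ v = mV v := fun v hv => by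
      refine Subtype.ext ((hγv v).trans ((hψ1 ⟨v, hVT v.2 hv⟩).trans ?_))
      exact ((hmVv v).trans (hav ⟨v, hVT v.2 hv⟩)).symm
    have hpr : ∀ k ∈ F.autGroup V, ∀ v : V, (v : Ω) ∈ T → (k v : Ω) ∈ T := fun k hk v hv =>
      apply_mem_stronglyClosed hT ((mem_autGroup_iff hVS).1 hk) hv
    -- the automorphisms fixing `V ⊓ T` and trivial modulo `T`
    let U : Subgroup (MulAut V) :=
      { carrier := {u | u ∈ F.autGroup V ∧ (∀ v : V, (v : Ω) ∈ T → u v = v) ∧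
          ∀ v : V, (v : Ω)⁻¹ * (u v : Ω) ∈ T}
        one_mem' := ⟨one_mem _, fun _ _ => rfl, fun v => by
          rw [MulAut.one_apply, inv_mul_cancel]; exact one_mem _⟩
        mul_mem' := fun {u w} ⟨hu, hu1, hu2⟩ ⟨hw, hw1, hw2⟩ =>
          ⟨mul_mem hu hw, fun v hv => by rw [MulAut.mul_apply, hw1 v hv, hu1 v hv], fun v => by
            have := T.mul_mem (hw2 v) (hu2 (w v))
            rwa [mul_assoc, mul_inv_cancel_left] at this⟩
        inv_mem' := fun {u} ⟨hu, hu1, hu2⟩ =>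
          ⟨inv_mem hu, fun v hv => by
            conv_lhs => rw [← hu1 v hv, MulAut.inv_apply_self],
           fun v => by
            have := T.inv_mem (hu2 (u⁻¹ v))
            rwa [MulAut.apply_inv_self, mul_inv_rev, inv_inv] at this⟩ }
    have hUn : ∀ k ∈ F.autGroup V, ∀ u ∈ U, k * u * k⁻¹ ∈ U := fun k hk u ⟨hu, hu1, hu2⟩ => by
      refine ⟨mul_mem (mul_mem hk hu) (inv_mem hk), fun v hv => ?_, fun v => ?_⟩
      · rw [MulAut.mul_apply, MulAut.mul_apply, hu1 _ (hpr _ (inv_mem hk) v hv),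
          MulAut.apply_inv_self]
      · obtain ⟨w, rfl⟩ := k.surjective v
        show (k w : Ω)⁻¹ * (k (u (k⁻¹ (k w))) : Ω) ∈ T
        rw [MulAut.inv_apply_self, ← InvMemClass.coe_inv, ← Subgroup.coe_mul, ← map_inv,
          ← map_mul]
        exact hpr k hk _ (hu2 w)
    have hUp : IsPGroup p U := by
      rintro ⟨u, hu, hu1, hu2⟩
      obtain ⟨i, hi⟩ := hVp.exists_card_eq
      refine ⟨i, Subtype.ext ?_⟩
      show u ^ p ^ i = 1
      exact FusionLayer.pow_eq_one_of_displacement (fun v => hu1 _ (hu2 v))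
        fun v => by rw [← hi]; exact pow_card_eq_one'
    have hu : γ⁻¹ * mV ∈ U := by
      refine ⟨mul_mem (inv_mem hγ) hmVF, fun v hv => ?_, fun v => ?_⟩
      · rw [MulAut.mul_apply, ← hγQ v hv, MulAut.inv_apply_self]
      · have hnorm : R ⊓ Y ≤ Subgroup.normalizer (Q : Set Ω) := fun y hy =>
          SatCriterion.mem_normalizer_of_finite fun x hx => by
            rw [← (mem_centralizerIn.1 (hY hy.2)).2 x (hQT hx), mul_inv_cancel_right]
            exact hx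
        obtain ⟨q, hq, y, hy, hqy⟩ := FusionLayer.exists_mul_of_mem_sup
          (Q := Q) (C := R ⊓ Y) hnorm (z := (v : Ω)) (hV.le v.2)
        · have hqV : q ∈ V := hQV hq
          have hyV : y ∈ V := hV ▸ Subgroup.mem_sup_right hy
          rw [show v = ⟨q, hqV⟩ * ⟨y, hyV⟩ from Subtype.ext hqy.symm, map_mul,
            MulAut.mul_apply, ← hγQ ⟨q, hqV⟩ (hQT hq), MulAut.inv_apply_self, MulAut.mul_apply]
          show (q * y)⁻¹ * (q * ((γ⁻¹ (mV ⟨y, hyV⟩) : V) : Ω)) ∈ T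
          rw [show (q * y)⁻¹ * (q * ((γ⁻¹ (mV ⟨y, hyV⟩) : V) : Ω)) =
            y⁻¹ * ((γ⁻¹ (mV ⟨y, hyV⟩) : V) : Ω) by group]
          have h3 : γ⁻¹ ⟨y, hyV⟩ = ⟨y, hyV⟩ := by
            conv_lhs => rw [← hγY ⟨y, hyV⟩ hy.2, MulAut.inv_apply_self]
          have h4 : ((⟨y, hyV⟩⁻¹ * mV ⟨y, hyV⟩ : V) : Ω) ∈ T := by
            rw [Subgroup.coe_mul, InvMemClass.coe_inv, hmVv]
            exact hd ⟨y, hVR hyV⟩
          have h5 := hpr _ (inv_mem hγ) _ h4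
          rwa [map_mul, map_inv, h3] at h5
    obtain ⟨V', hVV', hV'n⟩ := exists_fullyNormalized (F := F) hVS
    obtain ⟨hV'a, hV'r⟩ := automized_receptive hS hF hV'n
    obtain ⟨ψN, hψN, -, hψV⟩ := exists_map_normalizerIn hS hV'a hV'r hVV'
    have hψgood : Good F T Y ψN := by
      refine hbig hψN ?_
      have hQlt : Q < T := lt_of_le_of_ne hQT fun h => hTR (h ▸ hQR)
      have hlt := lt_normalizerIn (hS.to_le hTS) hQlt
      have := finite_of_le (S := T) (inf_le_right : normalizerIn S V ⊓ T ≤ T)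
      refine (card_lt_of_lt hlt (normalizerIn_le T Q)).trans_le (Subgroup.card_le_of_le ?_)
      intro t ht
      refine ⟨⟨hTS ht.1, ?_⟩, ht.1⟩
      have hle : V ≤ V.comap (MulAut.conj t).toMonoidHom := by
        conv_lhs => rw [hV]
        refine sup_le (fun x hx => hQV ((Subgroup.mem_normalizer_iff.1 ht.2 x).1 hx))
          fun y hy => ?_
        show t * y * t⁻¹ ∈ V
        rw [(mem_centralizerIn.1 (hY hy.2)).2 t ht.1, mul_inv_cancel_right]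
        exact hV ▸ Subgroup.mem_sup_right hy
      exact SatCriterion.mem_normalizer_of_finite fun x hx => hle hx
    have hVN : V ≤ normalizerIn S V := le_normalizerIn hVS
    obtain ⟨e, he, hev⟩ := exists_iso (restrict_mem hψN hVN)
      ((range_restrictHom ψN hVN).trans hψV)
    have hcV : Nat.card T ≤ Nat.card ↥(V ⊓ T) + d := hcond.trans (Nat.add_le_add_right
      (by
        have := finite_of_le (S := T) (inf_le_right : V ⊓ T ≤ T)
        exact Subgroup.card_le_of_le fun x hx => ⟨hQV hx, hQT hx⟩) d)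
    have heK : IsIso K e := hK ▸ ⟨he, fun _ => hψgood.restrict hVN fun x => hev x⟩
    have hu' : MulAut.congr e (γ⁻¹ * mV) ∈ autInducedBy S V' := by
      obtain ⟨α, hα, hαc⟩ := exists_conj_autInducedBy hV'a
        (X := U.map (MulAut.congr e).toMonoidHom) (by
          rintro _ ⟨u, hu, rfl⟩
          exact congr_mem_autGroup he hu.1) (hUp.map _)
      have h1 : α⁻¹ * MulAut.congr e (γ⁻¹ * mV) * α ∈ U.map (MulAut.congr e).toMonoidHom := by
        have hk := congr_mem_autGroup he.symm hα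
        refine ⟨_, hUn _ (inv_mem hk) _ hu, ?_⟩
        show MulAut.congr e _ = _
        rw [map_mul, map_mul, inv_inv, map_inv,
          show MulAut.congr e (MulAut.congr e.symm α) = α from congr_symm_congr e.symm α]
      have := hαc _ h1
      rwa [show α * (α⁻¹ * MulAut.congr e (γ⁻¹ * mV) * α) * α⁻¹ =
        MulAut.congr e (γ⁻¹ * mV) by group] at this
    have hu'K : MulAut.congr e (γ⁻¹ * mV) ∈ K.autGroup V' :=
      autInducedBy_le_autGroup he.le_right hu'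
    have hγK : γ ∈ K.autGroup V := by
      rw [hK]
      refine mem_goodSystem_aut hVS hγ ⟨fun x => ⟨fun h => ?_, fun h => ?_⟩, ?_⟩
      · have h1 : γ x = x := γ.injective (hγY (γ x) h)
        show (x : Ω) ∈ Y
        exact h1 ▸ h
      · show (γ x : Ω) ∈ Y
        rw [hγY x h]; exact h
      · refine ⟨_, subtype_mem (sup_le (inf_le_left.trans hVS) hTS), fun x hx => ?_⟩
        exact (congrArg Subtype.val (hγY ⟨x, hx.1⟩ hx.2)).symm
    have hmVK : mV ∈ K.autGroup V := by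
      have h1 := congr_mem_autGroup heK.symm hu'K
      rw [congr_symm_congr] at h1
      have := mul_mem hγK h1
      rwa [mul_inv_cancel_left] at this
    rw [hK] at hmVK
    obtain ⟨hpres, χ, hχ, hχv⟩ := ((mem_autGroup_iff hVS).1 hmVK).2 hcV
    have hfwd : ∀ x : R, (x : Ω) ∈ Y → (m x : Ω) ∈ Y := fun x hx => by
      have hxV : (x : Ω) ∈ V := hV ▸ Subgroup.mem_sup_right ⟨x.2, hx⟩
      have h1 : (mV ⟨x, hxV⟩ : Ω) ∈ Y := (hpres ⟨x, hxV⟩).2 hx
      rwa [hmVv] at h1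
    have hmI := (mem_autGroup_iff hRS).1 hm.1
    rw [hK]
    refine mem_goodSystem_aut hRS hm.1 ⟨fun x => ⟨fun h => ?_, hfwd x⟩, ?_⟩
    · have h1 : ∃ y : R, (y : Ω) ∈ Y ∧ m y = m x := by
        have := finite_of_le (S := R) (inf_le_left : R ⊓ Y ≤ R)
        obtain ⟨y, hy⟩ := (Finite.injective_iff_surjective (f := fun y : ↥(R ⊓ Y) =>
          (⟨m ⟨y, y.2.1⟩, (m _).2, hfwd _ y.2.2⟩ : ↥(R ⊓ Y)))).1
          (fun y z hyz => Subtype.ext (congrArg Subtype.val (m.injective (Subtype.ext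
            (congrArg Subtype.val hyz :))) :)) ⟨m x, (m x).2, h⟩
        exact ⟨⟨y, y.2.1⟩, y.2.2, Subtype.ext (congrArg Subtype.val hy :)⟩
      obtain ⟨y, hy, hyx⟩ := h1
      exact m.injective hyx ▸ hy
    · have hle : (R ⊓ Y) ⊔ T ≤ (V ⊓ Y) ⊔ T := sup_le_sup_right
        (fun x hx => ⟨hV ▸ Subgroup.mem_sup_right hx, hx.2⟩) T
      refine ⟨restrictHom χ hle, restrict_mem hχ hle, fun x hx => ?_⟩
      exact (hχv x ⟨hV ▸ Subgroup.mem_sup_right hx, hx.2⟩).trans (hmVv _)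
  -- the Frattini argument
  obtain ⟨m, hm, hmZ⟩ := hZs.exists_conj (X := Z.map (MulAut.conj β).toMonoidHom) (by
    rintro _ ⟨z, hz, rfl⟩
    exact (Subgroup.mem_normalizer_iff.1 (hMn hβ) z).1 (hZ ▸ hz : z ∈ autInducedBy S R ⊓ M).2)
    (hZp.map _)
  obtain ⟨ν, hν⟩ : ∃ ν, ν = m * β := ⟨_, rfl⟩
  have hνF : ν ∈ F.autGroup R := hν ▸ mul_mem (hMA hm) hβ
  have hνZ : ∀ z ∈ Z, ν * z * ν⁻¹ ∈ Z := fun z hz => by
    have := hmZ _ ⟨z, hz, rfl⟩
    rw [hν, show m * β * z * (m * β)⁻¹ = m * (β * z * β⁻¹) * m⁻¹ by group]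
    exact this
  obtain ⟨W, hW⟩ : ∃ W, W = R ⊔ normalizerIn T R := ⟨_, rfl⟩
  obtain ⟨ψ, hψ, hψv⟩ := exists_extension (T := W) hRr ((mem_autGroup_iff hRS).1 hνF) (by
    rw [hW]
    refine sup_le (le_extender hRS fun x => hRS (ν x).2) fun t ht => ?_
    refine mem_extender_of_congr ⟨hTS ht.1, ht.2⟩ (α := R.normalizerMonoidHom ⟨t, ht.2⟩)
      (fun _ => rfl) ?_
    rw [congr_self_eq]
    have hI : R.normalizerMonoidHom ⟨t, ht.2⟩ ∈ autInducedBy S R :=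
      mem_autInducedBy_iff.2 ⟨t, hTS ht.1, ht.2, fun _ => rfl⟩
    have htQ : t ∈ Subgroup.normalizer (Q : Set Ω) := SatCriterion.mem_normalizer_of_finite
      fun q hq => hQmem ((Subgroup.mem_normalizer_iff.1 ht.2 q).1 (hQR hq))
        (T.mul_mem (T.mul_mem ht.1 (hQT hq)) (T.inv_mem ht.1))
    have hmem : R.normalizerMonoidHom ⟨t, ht.2⟩ ∈ Z := by
      rw [hZ]
      refine ⟨hI, autInducedBy_le_autGroup hRS hI, fun r => ?_,
        Q.normalizerMonoidHom ⟨t, htQ⟩, autInducedBy_le_autGroup hQT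
          (mem_autInducedBy_iff.2 ⟨t, ht.1, htQ, fun _ => rfl⟩), fun q => rfl⟩
      show (r : Ω)⁻¹ * (t * r * t⁻¹) ∈ T
      rw [show (r : Ω)⁻¹ * (t * r * t⁻¹) = ((r : Ω)⁻¹ * t * (r : Ω)⁻¹⁻¹) * t⁻¹ by group]
      exact T.mul_mem (FusionFactor.conj_mem_of_stronglyClosed hT (S.inv_mem (hRS r.2)) ht.1)
        (T.inv_mem ht.1)
    exact (hZ ▸ hνZ _ hmem : _ ∈ autInducedBy S R ⊓ M).1)
  have hψgood : Good F T Y ψ := by
    refine hbig hψ ?_
    have hRW : R ≤ W := hW ▸ le_sup_left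
    have := finite_of_le (S := T) (inf_le_right : W ⊓ T ≤ T)
    have hQW : Q ≤ W ⊓ T := le_inf (hQR.trans hRW) hQT
    refine lt_of_le_of_ne (Subgroup.card_le_of_le hQW) fun he => hTR ?_
    have hNQ : normalizerIn T R ≤ Q := by
      rw [Subgroup.eq_of_le_of_card_ge hQW he.ge]
      exact fun t ht => ⟨hW ▸ Subgroup.mem_sup_right ht, ht.1⟩
    by_contra hTR'
    have hRTS : R ⊔ T ≤ S := sup_le hRS hTS
    have := finite_of_le hRTS
    have hlt : R < R ⊔ T := lt_of_le_of_ne le_sup_left fun h => hTR' (h ▸ le_sup_right)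
    obtain ⟨g, hg, hgR⟩ := (SetLike.lt_iff_le_and_exists.1
      (lt_normalizerIn (hS.to_le hRTS) hlt)).2
    obtain ⟨t, ht, r, hr, htr⟩ := FusionLayer.exists_mul_of_mem_sup (Q := T) (C := R)
      (hRS.trans (stronglyClosed_le_normalizer hT)) (sup_comm R T ▸ hg.1)
    have htN : t ∈ normalizerIn T R := ⟨ht, by
      rw [show t = g * r⁻¹ by rw [← htr, mul_inv_cancel_right]]
      exact Subgroup.mul_mem _ hg.2 (Subgroup.inv_mem _ (Subgroup.le_normalizer hr))⟩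
    exact hgR (htr ▸ R.mul_mem (hQR (hNQ htN)) hr)
  have hνK : ν ∈ K.autGroup R := hK ▸ mem_goodSystem_aut hRS hνF
    (hψgood.restrict (hW ▸ le_sup_left) fun x => (hψv x _).symm)
  have := mul_mem (inv_mem (hM m hm)) hνK
  rwa [hν, inv_mul_cancel_left] at this

end CfsgLib.FusionComponents
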