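import Cfsg.Agent.FusionComponents.InterFamily
import Cfsg.Agent.FusionComponents.AutExtension
import Cfsg.Agent.FusionLayer.Residual.Normal
import Cfsg.Agent.FusionSub.Generation

/-!
# The intersection of two normal subsystems

For normal subsystems `E₁`, `E₂` over `T₁`, `T₂` there is a largest subsystem over `T₁ ⊓ T₂` which
is normal in `F`, in `E₁` and in `E₂`.
-/

set_option autoImplicit false

namespace CfsgLib.FusionComponents

open Cfsg Cfsg.FusionSystem CfsgLib.Fusion CfsgLib.FusionClosed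

variable {Ω : Type*} [Group Ω] {S T₁ T₂ : Subgroup Ω} {F : FusionSystem S}
  {E₁ : FusionSystem T₁} {E₂ : FusionSystem T₂} {p : ℕ}

/-- The weakly normal intersection and the normal one. -/
theorem exists_inter [Finite S] [Fact p.Prime] (hS : IsPGroup p S) (h₁ : E₁.IsNormalIn F p)
    (h₂ : E₂.IsNormalIn F p) :
    ∃ W O : FusionSystem (T₁ ⊓ T₂), W.IsWeaklyNormalIn F p ∧
      (W.IsSubsystemOf E₁ ∧ W.IsSubsystemOf E₂) ∧ W.IsPPrimeResidual p O ∧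
      (O.IsNormalIn F p ∧ O.IsNormalIn E₁ p ∧ O.IsNormalIn E₂ p) ∧
      (∀ P, InH F (T₁ ⊓ T₂) P → interJ F E₁ E₂ p P = W.autGroup P) ∧
      ∀ P, W.IsCentric P → InH F (T₁ ⊓ T₂) P := by
  classical
  have hF := h₁.1.2.1
  have h := interJ_family hS h₁ h₂
  have hD := h.closed
  have := finite_of_le hD.1
  have hT₁ := h₁.1.2.2.2.1.1
  have hT₂ := h₂.1.2.2.2.1.1
  have := finite_of_le hT₁
  have := finite_of_le hT₂
  have hW := genSystem_isWeaklyNormalIn_self hS hF h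
  have hsub : ∀ {T : Subgroup Ω} {E : FusionSystem T}, T₁ ⊓ T₂ ≤ T →
      (∀ P, P ≤ T₁ ⊓ T₂ → interAut E₁ E₂ P ≤ E.autGroup P) →
      (genSystem F hD.1 (interJ F E₁ E₂ p)).IsSubsystemOf E := by
    intro T E hle hA P φ hφ
    refine (genSystem_le (E := restrictSystem E hle) (fun Q hQ a ha => ?_) P hφ).1
    have hI : IsIso E a := (mem_autGroup_iff (hQ.1.trans hle)).1
      (hA Q hQ.1 (interJ_le_interAut hS h₁ h₂ hQ.1 ha))
    exact (mem_autGroup_iff hQ.1).2 ⟨hI, hQ.1, fun x => hQ.1 (a x).2⟩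
  have hWE₁ := hsub (E := E₁) inf_le_left fun _ _ => inf_le_left
  have hWE₂ := hsub (E := E₂) inf_le_right fun _ _ => inf_le_right
  have hclosed : ∀ {T : Subgroup Ω} {E : FusionSystem T}, E.IsSubsystemOf F → T₁ ⊓ T₂ ≤ T →
      E.StronglyClosed (T₁ ⊓ T₂) := fun hE hle =>
    ⟨hle, fun R hR φ hφ x => hD.2 R hR φ (hE R hφ) x⟩
  have hWn₁ := genSystem_isWeaklyNormalIn hS hF h (hS.to_le hT₁) h₁.1.1
    (hclosed h₁.1.2.2.1 inf_le_left) h₁.1.2.2.1 hWE₁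
  have hWn₂ := genSystem_isWeaklyNormalIn hS hF h (hS.to_le hT₂) h₂.1.1
    (hclosed h₂.1.2.2.1 inf_le_right) h₂.1.2.2.1 hWE₂
  have hO := PPrimeResidual.residual_isPPrimeResidual (hS.to_le hD.1) hW.1
  refine ⟨_, _, hW, ⟨hWE₁, hWE₂⟩, hO, ⟨FusionLayer.isNormalIn_of_isPPrimeResidual hS hW hO,
    FusionLayer.isNormalIn_of_isPPrimeResidual (hS.to_le hT₁) hWn₁ hO,
    FusionLayer.isNormalIn_of_isPPrimeResidual (hS.to_le hT₂) hWn₂ hO⟩,
    fun P hP => (autGroup_genSystem hS hF h hP).symm, fun P hP => ?_⟩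
  by_contra hnot
  obtain ⟨R, hPR, hR⟩ := exists_conj_not_centralizer_le hS hF h hP.1 hnot
  exact hR (centralizerIn_le_of_centric (isCentric_of_isConj hP hPR))

/-- A normal subsystem over `T₁ ⊓ T₂` in all three systems lies in the weakly normal intersection
and contains its `p'`-residual. -/
theorem between [Finite S] [Fact p.Prime] (hS : IsPGroup p S) (h₁ : E₁.IsNormalIn F p)
    (h₂ : E₂.IsNormalIn F p) {W O D' : FusionSystem (T₁ ⊓ T₂)} (hW : W.IsWeaklyNormalIn F p)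
    (hO : W.IsPPrimeResidual p O)
    (hJ : ∀ P, InH F (T₁ ⊓ T₂) P → interJ F E₁ E₂ p P = W.autGroup P)
    (hcen : ∀ P, W.IsCentric P → InH F (T₁ ⊓ T₂) P)
    (hD' : D'.IsNormalIn F p) (hD'₁ : D'.IsNormalIn E₁ p) (hD'₂ : D'.IsNormalIn E₂ p) :
    D'.IsSubsystemOf W ∧ O.IsSubsystemOf D' ∧
      ∀ (P : Subgroup Ω) (φ : P →* Ω), φ ∈ D'.Hom P → ∃ α ∈ D'.autGroup (T₁ ⊓ T₂),
        ∃ o ∈ O.Hom P, ∀ (x : P) (hx : o x ∈ T₁ ⊓ T₂), φ x = (α ⟨o x, hx⟩ : Ω) := by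
  classical
  have hF := h₁.1.2.1
  have hD := hW.2.2.2.1
  have := finite_of_le hD.1
  have hDp : IsPGroup p ↥(T₁ ⊓ T₂) := hS.to_le hD.1
  have hle : D'.IsSubsystemOf W := FusionSub.le_of_autGroups hDp hD'.1.1 W fun Q hQn hQc _ => by
    have hQH : InH F (T₁ ⊓ T₂) Q := ⟨hQc.1, fun R hR =>
      FusionNormal.centralizerIn_le_of_isConj hD'.1.2.2 hQc hR⟩
    have := finite_of_le hQc.1
    obtain ⟨⟨-, P₀, hP₀⟩, -⟩ := automized_receptive hDp hD'.1.1 hQn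
    have htop := congrArg (Subgroup.map (D'.autGroup Q).subtype)
      (CfsgLib.Transfer.sylow_sup_pResidual P₀)
    rw [Subgroup.map_sup, ← MonoidHom.range_eq_map, Subgroup.range_subtype] at htop
    refine htop.ge.trans (sup_le ?_ ?_)
    · rw [hP₀, Subgroup.subgroupOf_map_subtype]
      exact inf_le_left.trans (autInducedBy_le_autGroup hQc.1)
    rw [pResidual, MonoidHom.map_closure, Subgroup.closure_le]
    rintro _ ⟨a, ha, rfl⟩
    have haI : IsIso D' (a : MulAut Q) := (mem_autGroup_iff hQc.1).1 a.2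
    have haA : (a : MulAut Q) ∈ interAut E₁ E₂ Q :=
      ⟨(mem_autGroup_iff (hQc.1.trans inf_le_left)).2 (hD'₁.1.2.2.1 _ haI),
        (mem_autGroup_iff (hQc.1.trans inf_le_right)).2 (hD'₂.1.2.2.1 _ haI)⟩
    show (a : MulAut Q) ∈ W.autGroup Q
    rw [← hJ Q hQH]
    exact mem_interJ_of_coprime hS h₁ h₂ hQc.1 haA (by rwa [Subgroup.orderOf_coe])
  -- the elements of `p`-power order of `Aut_W(P)` are in `D'`
  have hgen : ∀ P, W.IsCentric P →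
      (PrimeToPIndex.pGen p W P).map (W.autGroup P).subtype ≤ D'.autGroup P := by
    intro P hP
    have hPH := hcen P hP
    rw [MonoidHom.map_closure, Subgroup.closure_le]
    rintro _ ⟨a, ⟨k, hk⟩, rfl⟩
    obtain ⟨P', hPP', hP'⟩ := exists_fullyNormalized (F := F) (hPH.1.trans hD.1)
    obtain ⟨e, he⟩ := isConj_iff.1 hPP'
    have hP'H : InH F (T₁ ⊓ T₂) P' := hPH.of_isConj hD hPP'
    have := finite_of_le hP'.1
    have := finite_mulAut (V := P')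
    have haJ : MulAut.congr e (a : MulAut P) ∈ interJ F E₁ E₂ p P' :=
      (interJ_family hS h₁ h₂).covariant P P' hPH e he _ ((hJ P hPH).ge a.2)
    obtain ⟨δ, hδ, hδc⟩ := (isSylowIn_interJ hS h₁ h₂ hP'H.1 hP').exists_conj
      (X := Subgroup.zpowers (MulAut.congr e (a : MulAut P))) (Subgroup.zpowers_le.2 haJ)
      (isPGroup_zpowers_of_pow_eq_one (k := k) (by
        rw [← map_pow, ← hk, ← Subgroup.orderOf_coe a, pow_orderOf_eq_one, map_one]))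
    have hε : IsIso F (e.trans δ) := he.trans ((mem_autGroup_iff hP'.1).1
      ((interJ_family hS h₁ h₂).le_aut P' hP'H hδ))
    have hmem := hδc _ (Subgroup.mem_zpowers _)
    rw [← congr_self_eq, ← congr_trans] at hmem
    have := congr_mem_of_invariant (strongInvariant_of_invariant hD'.1.2.2) hP'H.1 hPH.1 hε.symm
      (autInducedBy_le_autGroup hP'H.1 hmem)
    rwa [congr_symm_congr] at this
  obtain ⟨hidx, -, -⟩ := PrimeToPIndex.main hDp hW.1 hle hgen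
  have hOD : O.IsSubsystemOf D' := hO.2.2 D' hD'.1.1 hidx
  refine ⟨hle, hOD, (PrimeToPIndex.main hDp hD'.1.1 hOD fun P hP => ?_).2.1⟩
  rw [MonoidHom.map_closure, Subgroup.closure_le]
  rintro _ ⟨a, ⟨k, hk⟩, rfl⟩
  have haW : (a : MulAut P) ∈ W.autGroup P :=
    (mem_autGroup_iff hP.1).2 (hle _ ((mem_autGroup_iff hP.1).1 a.2))
  exact hO.2.1.2 P hP.1 ⟨⟨_, haW⟩, Subgroup.subset_closure ⟨k, by
    rw [Subgroup.orderOf_mk, Subgroup.orderOf_coe, hk]⟩, rfl⟩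

/-- A subsystem with an invariant, trivially extendable automizer of the top is normal. -/
theorem isNormalIn_autExtension {D U : Subgroup Ω} {G : FusionSystem U} {W O Δ : FusionSystem D}
    (hO : O.IsNormalIn G p) (hWG : W.IsSubsystemOf G) (hΔs : Δ.IsSaturated p)
    (hΔW : Δ.IsSubsystemOf W) (hOΔ : O.IsSubsystemOf Δ) {Γ : Subgroup (MulAut D)}
    (haut : Δ.autGroup D = Γ)
    (hchar : ∀ (P : Subgroup Ω) (φ : P →* Ω), φ ∈ Δ.Hom P ↔
      ∃ α ∈ Γ, ∃ o ∈ O.Hom P, ∀ (x : P) (hx : o x ∈ D), φ x = (α ⟨o x, hx⟩ : Ω))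
    (hΓ : ∀ α ∈ G.autGroup D, ∀ β ∈ Γ, α * β * α⁻¹ ∈ Γ)
    (hext : ∀ β ∈ Γ, FusionLayer.TrivialExt G D β) : Δ.IsNormalIn G p := by
  obtain ⟨⟨-, hG, hinv⟩, -⟩ := hO
  refine ⟨⟨hΔs, hG, fun P φ h => hWG P (hΔW P h), hinv.2.1, fun P hP φ hφ α hα => ?_,
    fun P hP φ hφ => ?_⟩, fun α hα => hext α (haut ▸ hα)⟩
  · obtain ⟨β, hβ, o, ho, hv⟩ := (hchar P φ).1 hφ
    obtain ⟨χ, hχ, hχv⟩ := hinv.2.2.1 P hP o ho α hα
    refine ⟨(D.subtype.comp (α * β * α⁻¹ : MulAut D).toMonoidHom).comp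
      (χ.codRestrict D (apply_mem hχ)), (hchar _ _).2 ⟨_, hΓ α hα β hβ, χ, hχ, fun _ _ => rfl⟩,
      fun x hφx hαx => ?_⟩
    show ((α * β * α⁻¹ : MulAut D) ⟨χ ⟨_, hαx⟩, _⟩ : Ω) = _
    rw [show (⟨χ ⟨_, hαx⟩, apply_mem hχ _⟩ : D) = α ⟨o x, apply_mem ho x⟩ from
      Subtype.ext (hχv x (apply_mem ho x) hαx), MulAut.mul_apply, MulAut.mul_apply,
      MulAut.inv_apply_self]
    exact congrArg (fun w => (α w : Ω)) (Subtype.ext (hv x _).symm)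
  · obtain ⟨α, hα, o, ho, hv⟩ := hinv.2.2.2 P hP φ hφ
    exact ⟨α, hα, o, hOΔ P ho, hv⟩

/-- **A normal subsystem over the intersection.** -/
theorem exists_normal_inter [Finite S] [Fact p.Prime] (hS : IsPGroup p S) (h₁ : E₁.IsNormalIn F p)
    (h₂ : E₂.IsNormalIn F p) :
    ∃ O : FusionSystem (T₁ ⊓ T₂), O.IsNormalIn F p ∧ O.IsNormalIn E₁ p ∧ O.IsNormalIn E₂ p := by
  obtain ⟨W, O, -, -, -, hO, -, -⟩ := exists_inter hS h₁ h₂
  exact ⟨O, hO⟩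

/-- **The largest normal subsystem over the intersection.** -/
theorem exists_greatest_normal_inter [Finite S] [Fact p.Prime] (hS : IsPGroup p S)
    (h₁ : E₁.IsNormalIn F p) (h₂ : E₂.IsNormalIn F p) :
    ∃ Δ : FusionSystem (T₁ ⊓ T₂), (Δ.IsNormalIn F p ∧ Δ.IsNormalIn E₁ p ∧ Δ.IsNormalIn E₂ p) ∧
      ∀ D' : FusionSystem (T₁ ⊓ T₂), D'.IsNormalIn F p → D'.IsNormalIn E₁ p →
        D'.IsNormalIn E₂ p → D'.IsSubsystemOf Δ := by
  classical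
  obtain ⟨W, O, hW, ⟨hWE₁, hWE₂⟩, hO, ⟨hOF, hO₁, hO₂⟩, hJ, hcen⟩ := exists_inter hS h₁ h₂
  have hD := hW.2.2.2.1
  have := finite_of_le hD.1
  have hDp : IsPGroup p ↥(T₁ ⊓ T₂) := hS.to_le hD.1
  have hT₁ := h₁.1.2.2.2.1.1
  have hT₂ := h₂.1.2.2.2.1.1
  have := finite_of_le hT₁
  have := finite_of_le hT₂
  let gens : Set (MulAut ↥(T₁ ⊓ T₂)) := {a | ∃ D' : FusionSystem (T₁ ⊓ T₂),
    (D'.IsNormalIn F p ∧ D'.IsNormalIn E₁ p ∧ D'.IsNormalIn E₂ p) ∧ a ∈ D'.autGroup (T₁ ⊓ T₂)}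
  obtain ⟨Γ, hΓ⟩ : ∃ Γ, Γ = Subgroup.closure gens := ⟨_, rfl⟩
  have hmemΓ : ∀ D' : FusionSystem (T₁ ⊓ T₂), D'.IsNormalIn F p → D'.IsNormalIn E₁ p →
      D'.IsNormalIn E₂ p → D'.autGroup (T₁ ⊓ T₂) ≤ Γ := fun D' a b c x hx =>
    hΓ ▸ Subgroup.subset_closure ⟨D', ⟨a, b, c⟩, hx⟩
  have hΓW : Γ ≤ W.autGroup (T₁ ⊓ T₂) := by
    rw [hΓ, Subgroup.closure_le]
    rintro a ⟨D', ⟨ha, hb, hc⟩, hmem⟩
    exact (mem_autGroup_iff le_rfl).2
      ((between hS h₁ h₂ hW hO hJ hcen ha hb hc).1 _ ((mem_autGroup_iff le_rfl).1 hmem))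
  have hinvW : AutInvariant O W := fun P hP φ hφ α hα =>
    hOF.1.2.2.2.2.1 P hP φ hφ α ((mem_autGroup_iff hD.1).2
      (hW.2.2.1 _ ((mem_autGroup_iff le_rfl).1 hα)))
  obtain ⟨-, hdec, -⟩ := PrimeToPIndex.main hDp hW.1 hO.2.1.1 fun P hP => hO.2.1.2 P hP.1
  obtain ⟨Δ, hΔs, hΔW, hOΔ, haut, hchar⟩ := exists_autExtension hDp hW.1 hOF.1.1 hO.2.1.1
    hinvW hdec Γ hΓW (hmemΓ O hOF hO₁ hO₂)
  have hconj : ∀ α ∈ F.autGroup (T₁ ⊓ T₂), ∀ β ∈ Γ, α * β * α⁻¹ ∈ Γ := by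
    intro α hα β hβ
    have hle : Γ ≤ Γ.comap (MulAut.conj α).toMonoidHom := by
      conv_lhs => rw [hΓ]
      rw [Subgroup.closure_le]
      rintro a ⟨D', ⟨ha, hb, hc⟩, hmem⟩
      show α * a * α⁻¹ ∈ Γ
      rw [← congr_self_eq]
      exact hmemΓ D' ha hb hc (congr_mem_of_invariant (strongInvariant_of_invariant ha.1.2.2)
        le_rfl le_rfl ((mem_autGroup_iff hD.1).1 hα) hmem)
    exact hle hβ
  have hsubF : ∀ {T : Subgroup Ω} {E : FusionSystem T}, E.IsSubsystemOf F → T₁ ⊓ T₂ ≤ T →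
      E.autGroup (T₁ ⊓ T₂) ≤ F.autGroup (T₁ ⊓ T₂) := fun hE hle a ha =>
    (mem_autGroup_iff hD.1).2 (hE _ ((mem_autGroup_iff hle).1 ha))
  have hext : ∀ {U : Subgroup Ω} [Finite U] (G : FusionSystem U), T₁ ⊓ T₂ ≤ U →
      (∀ D' : FusionSystem (T₁ ⊓ T₂), D'.IsNormalIn F p → D'.IsNormalIn E₁ p →
        D'.IsNormalIn E₂ p → D'.IsNormalIn G p) →
      ∀ β ∈ Γ, FusionLayer.TrivialExt G (T₁ ⊓ T₂) β := by
    intro U _ G hU hG β hβ
    have hle : Γ ≤ FusionLayer.trivialExtGroup G hU := by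
      rw [hΓ, Subgroup.closure_le]
      rintro a ⟨D', ⟨ha, hb, hc⟩, hmem⟩
      exact (hG D' ha hb hc).2 a hmem
    exact hle hβ
  refine ⟨Δ, ⟨isNormalIn_autExtension hOF hW.2.2.1 hΔs hΔW hOΔ haut hchar hconj
      (hext F hD.1 fun _ a _ _ => a),
    isNormalIn_autExtension hO₁ hWE₁ hΔs hΔW hOΔ haut hchar
      (fun α hα => hconj α (hsubF h₁.1.2.2.1 inf_le_left hα))
      (hext E₁ inf_le_left fun _ _ b _ => b),
    isNormalIn_autExtension hO₂ hWE₂ hΔs hΔW hOΔ haut hchar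
      (fun α hα => hconj α (hsubF h₂.1.2.2.1 inf_le_right hα))
      (hext E₂ inf_le_right fun _ _ _ c => c)⟩, fun D' ha hb hc P φ hφ => ?_⟩
  obtain ⟨α, hα, o, ho, hv⟩ := (between hS h₁ h₂ hW hO hJ hcen ha hb hc).2.2 P φ hφ
  exact (hchar P φ).2 ⟨α, hmemΓ D' ha hb hc hα, o, ho, hv⟩

end CfsgLib.FusionComponents
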