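import Cfsg.Agent.FusionComponents.Quasisimple
import Cfsg.Agent.FusionComponents.Intersection

/-!
# Components and normal subsystems

A component of `F` lies in a given normal subsystem or centralizes its underlying subgroup.
-/

set_option autoImplicit false

namespace CfsgLib.FusionComponents

open Cfsg Cfsg.FusionSystem CfsgLib.Fusion

variable {Ω : Type*} [Group Ω] {S T U : Subgroup Ω} {F : FusionSystem S} {C : FusionSystem U}
  {p : ℕ}

/-- Subnormal subsystems are subsystems. -/
theorem isSubsystemOf_of_subnormal (h : C.IsSubnormalIn F p) : C.IsSubsystemOf F := by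
  induction h with
  | refl F => exact fun _ _ h => h
  | step _ hD ih => exact fun P φ h => hD.1.2.2.1 P (ih P h)

/-- A quasisimple system does not centralize its own underlying subgroup. -/
theorem not_centralized [Finite U] (hq : C.Quasisimple p) (hUT : U ≤ T)
    (h : ∀ P, C.Hom P ⊆ F.centralizerHom T P) : False := by
  obtain ⟨P, φ, hφ, x, hx⟩ := exists_apply_ne_of_quasisimple hq
  obtain ⟨-, -, -, ψ, -, h1, h2⟩ := h P hφ
  exact hx ((h1 x).symm.trans (h2 ⟨x, hUT (le_left hφ x.2)⟩))

theorem subnormal_dichotomy (h : C.IsSubnormalIn F p) :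
    ∀ [Finite S] [Fact p.Prime], IsPGroup p S → C.Quasisimple p →
      ∀ {T : Subgroup Ω} (E : FusionSystem T), E.IsNormalIn F p →
        C.IsSubsystemOf E ∨
          (U ≤ centralizerIn S T ∧ ∀ P, C.Hom P ⊆ F.centralizerHom T P) := by
  induction h with
  | @refl F p =>
    intro _ _ hS hq T E hE
    rcases normal_of_quasisimple hS hq hE with hT | hall
    · refine Or.inr ⟨fun u hu => mem_centralizerIn.2 ⟨hu, fun t ht => ?_⟩, fun P φ hφ => ?_⟩
      · exact (Subgroup.mem_centralizer_iff.1 (F.center_le_centralizer (hT ht)) u hu).symm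
      · refine centralizerHom_anti hT P ?_
        obtain ⟨ψ, hψ, h1, h2⟩ := (FusionFactor.isCentral_center F).2 P φ hφ
        have hc : ∀ {x : Ω}, x ∈ U → x ∈ centralizerIn U F.center := fun {x} hx =>
          mem_centralizerIn.2 ⟨hx, fun z hz =>
            (Subgroup.mem_centralizer_iff.1 (F.center_le_centralizer hz) x hx).symm⟩
        exact ⟨hφ, fun x hx => hc (le_left hφ hx), fun x => hc (apply_mem hφ x), ψ, hψ, h1, h2⟩
    · exact Or.inl hall
  | @step U S' S C D F hsn hD ih =>
    intro _ _ hS hq T E hE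
    have hS'S := hD.1.2.2.2.1.1
    have := finite_of_le hS'S
    obtain ⟨W, -, hWE, hWD⟩ := exists_normal_inter hS hE hD
    rcases ih (hS.to_le hS'S) hq W hWD with hsub | ⟨-, hfix⟩
    · exact Or.inl fun P φ hφ => hWE.1.2.2.1 P (hsub P hφ)
    · exact Or.inr (le_centralizerHom_of_fix hS hD hE.1.2.2.2.1
        (FusionLayer.le_of_isSubnormalIn hsn) hq.1 hq.2.1 hfix)

/-- **A component lies in a normal subsystem or centralizes it.** -/
theorem component_dichotomy [Finite S] [Fact p.Prime] (hS : IsPGroup p S)
    (hC : C.IsComponentIn F p) {E : FusionSystem T} (hE : E.IsNormalIn F p) :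
    C.IsSubsystemOf E ∨ (U ≤ centralizerIn S T ∧ ∀ P, C.Hom P ⊆ F.centralizerHom T P) :=
  subnormal_dichotomy hC.1 hS hC.2 E hE

end CfsgLib.FusionComponents
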