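import Cfsg.Agent.FusionComponents.Layer
import Cfsg.Agent.FusionLayer.Product.Normal

/-!
# The generalized Fitting subsystem

The layer centralizes the largest normal subgroup; the generalized Fitting subsystem exists, is
unique and is normal.
-/

set_option autoImplicit false

namespace CfsgLib.FusionComponents

open Cfsg Cfsg.FusionSystem CfsgLib.Fusion CfsgLib.FusionLayer.Product

variable {Ω : Type*} [Group Ω] {S T T₁ T₂ : Subgroup Ω} {F : FusionSystem S} {p : ℕ}

/-- Systems contained in each other live over the same subgroup and have the same maps. -/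
theorem eq_of_isSubsystemOf {T' : Subgroup Ω} {E : FusionSystem T} {E' : FusionSystem T'}
    (h : E.IsSubsystemOf E') (h' : E'.IsSubsystemOf E) : T = T' ∧ ∀ P, E.Hom P = E'.Hom P :=
  ⟨le_antisymm (le_of_isSubsystemOf h) (le_of_isSubsystemOf h'),
    fun P => Set.Subset.antisymm (h P) (h' P)⟩

/-- A central product is determined by its factors. -/
theorem centralProduct_unique {T₂' T' : Subgroup Ω} {E₁ : FusionSystem T₁} {E₂ : FusionSystem T₂}
    {E₂' : FusionSystem T₂'} {D : FusionSystem T} {D' : FusionSystem T'} (hT₂ : T₂ = T₂')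
    (hE₂ : ∀ P, E₂.Hom P = E₂'.Hom P) (h : IsCentralProductOf E₁ E₂ D)
    (h' : IsCentralProductOf E₁ E₂' D') : T = T' ∧ ∀ P, D.Hom P = D'.Hom P := by
  subst hT₂
  obtain rfl : E₂ = E₂' := fusionSystem_ext hE₂
  obtain ⟨D₀, hD₀, Z, θ, -, -, -, hl, hr, -, -, hrange, hiff⟩ := h
  obtain ⟨D₀', hD₀', Z', θ', -, -, -, hl', hr', -, -, hrange', hiff'⟩ := h'
  obtain rfl : D₀ = D₀' := fusionSystem_ext fun P =>
    Set.ext fun φ => (hD₀ P φ).trans (hD₀' P φ).symm
  obtain rfl : θ = θ' := by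
    refine MonoidHom.ext fun z => ?_
    obtain ⟨⟨a, b⟩, hz⟩ := z
    have ha : ((a, 1) : Ω × Ω) ∈ T₁.prod T₂ := Subgroup.mem_prod.2 ⟨hz.1, one_mem _⟩
    have hb : ((1, b) : Ω × Ω) ∈ T₁.prod T₂ := Subgroup.mem_prod.2 ⟨one_mem _, hz.2⟩
    have e : (⟨(a, b), hz⟩ : ↥(T₁.prod T₂)) = ⟨_, ha⟩ * ⟨_, hb⟩ :=
      Subtype.ext (Prod.ext (mul_one a).symm (one_mul b).symm)
    rw [e, map_mul, map_mul, hl, hr, hl', hr']
  obtain rfl : T = T' := hrange.symm.trans hrange'
  exact ⟨rfl, fun P => Set.ext fun φ => (hiff P φ).trans (hiff' P φ).symm⟩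

/-- A subgroup commuting with `Q` is central in the inner system. -/
theorem le_center_inner {Q Z : Subgroup Ω} [Finite Q] [Fact p.Prime] (hQ : IsPGroup p Q)
    (hs : (innerFusionSystem Q).IsSaturated p) (hZQ : Z ≤ Q)
    (hc : ∀ z ∈ Z, ∀ q ∈ Q, q * z = z * q) : Z ≤ (innerFusionSystem Q).center := by
  refine le_sSup (isCentral_of_forall hQ hs hZQ fun x hx y hy => ?_)
  obtain ⟨φ, ⟨-, g, hg, hv⟩, rfl⟩ := hy
  rw [hv]
  show g * x * g⁻¹ = x
  rw [hc x hx g hg, mul_inv_cancel_right]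

/-- **The layer centralizes the largest normal subgroup.** -/
theorem layer_le_centralizerHom_core [Finite S] [Fact p.Prime] (hS : IsPGroup p S)
    (hF : F.IsSaturated p) {E : FusionSystem T} (hE : E.IsLayerOf F p) (P : Subgroup Ω) :
    E.Hom P ⊆ F.centralizerHom F.core P := by
  have hR := FusionFactor.isNormal_core F
  obtain ⟨C, hC⟩ := exists_isCentralizerSystem F hR.1
  intro φ hφ
  rw [← hC P]
  exact hE.2.2 _ C (FusionLayer.centralizerSystem_isNormalIn hS hF hR hC) (fun U D hD P χ hχ => by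
    rw [hC P]
    exact component_le_centralizerHom_core hS hD P hχ) P hφ

/-- The data of the central product of the largest normal subgroup and the layer. -/
theorem exists_core_mul_layer [Finite S] [Fact p.Prime] (hS : IsPGroup p S)
    (hF : F.IsSaturated p) {E : FusionSystem T} (hE : E.IsLayerOf F p) :
    ∃ D : FusionSystem (F.core ⊔ T), IsCentralProductOf (innerFusionSystem F.core) E D ∧
      ProdMaps (innerFusionSystem F.core) E D ∧ D.IsNormalIn F p ∧
      (∀ a ∈ F.core, ∀ b ∈ T, a * b = b * a) ∧ F.core ⊓ T ≤ (innerFusionSystem F.core).center ∧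
      F.core ⊓ T ≤ E.center := by
  have hR := FusionFactor.isNormal_core F
  have hTS := hE.1.1.2.2.2.1.1
  have := finite_of_le hR.1
  have := finite_of_le hTS
  have hRp := hS.to_le hR.1
  have hTp := hS.to_le hTS
  have hRn := inner_isNormalIn hS hF hR
  have hcen := layer_le_centralizerHom_core hS hF hE
  have hc : ∀ a ∈ F.core, ∀ b ∈ T, a * b = b * a := fun a ha b hb => by
    obtain ⟨-, h, -, -⟩ := hcen T (subtype_mem le_rfl)
    exact Subgroup.mem_centralizer_iff.1 (h hb).2 a ha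
  have hZ₁ := le_center_inner hRp hRn.1.1 (inf_le_left : F.core ⊓ T ≤ F.core)
    fun z hz q hq => hc q hq z hz.2
  have hZ₂ : F.core ⊓ T ≤ E.center := by
    refine le_sSup (isCentral_of_forall hTp hE.1.1.1 inf_le_right fun x hx y hy => ?_)
    obtain ⟨φ, hφ, rfl⟩ := hy
    obtain ⟨-, -, -, ψ, -, h1, h2⟩ := hcen _ hφ
    exact (h1 ⟨x, Subgroup.mem_zpowers x⟩).symm.trans (h2 ⟨x, hx.1⟩)
  obtain ⟨D, hDs, hDc, hD⟩ := exists_central_product hRp hTp hRn.1.1 hE.1.1.1 hc hZ₁ hZ₂
  exact ⟨D, hDc, hD, isNormalIn_product hS hRn hE.1 hc hZ₁ hZ₂ hDs hD, hc, hZ₁, hZ₂⟩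

/-- **The generalized Fitting subsystem exists.** -/
theorem exists_generalizedFitting [Finite S] [Fact p.Prime] (hS : IsPGroup p S)
    (hF : F.IsSaturated p) :
    ∃ (U : Subgroup Ω) (D : FusionSystem U), D.IsGeneralizedFittingOf F p := by
  obtain ⟨T, E, hE⟩ := exists_layer hS hF
  obtain ⟨D, hD, -⟩ := exists_core_mul_layer hS hF hE
  exact ⟨_, D, T, E, hE, hD⟩

/-- Every generalized Fitting subsystem is the product of the core and the layer. -/
theorem generalizedFitting_spec [Finite S] [Fact p.Prime] (hS : IsPGroup p S)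
    (hF : F.IsSaturated p) {U : Subgroup Ω} {D : FusionSystem U}
    (hD : D.IsGeneralizedFittingOf F p) :
    ∃ (T : Subgroup Ω) (E : FusionSystem T), E.IsLayerOf F p ∧ U = F.core ⊔ T ∧
      IsCentralProductOf (innerFusionSystem F.core) E D ∧
      ProdMaps (innerFusionSystem F.core) E D ∧ D.IsNormalIn F p ∧
      (∀ a ∈ F.core, ∀ b ∈ T, a * b = b * a) ∧ F.core ⊓ T ≤ (innerFusionSystem F.core).center ∧
      F.core ⊓ T ≤ E.center := by
  obtain ⟨T, E, hE, hDE⟩ := hD
  obtain ⟨D', hD'c, hD', hD'n, hrest⟩ := exists_core_mul_layer hS hF hE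
  obtain ⟨rfl, hhom⟩ := centralProduct_unique rfl (fun _ => rfl) hDE hD'c
  obtain rfl : D = D' := fusionSystem_ext hhom
  exact ⟨T, E, hE, rfl, hDE, hD', hD'n, hrest⟩

end CfsgLib.FusionComponents
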