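import Cfsg.Agent.FusionComponents.GenAux

/-!
# Maps of the generated system inside a class

Two members `Y`, `Z` of a class are linked through an isomorphism `e` if maps of the system defined
on their normalizers carry them to a common `T` and make `e` an element of `J T`. All isomorphisms
of the generated system are of this form, once this is known above the class.
-/

set_option autoImplicit false

namespace CfsgLib.FusionComponents

open Cfsg Cfsg.FusionSystem CfsgLib.Fusion CfsgLib.FusionClosed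

set_option linter.unusedSectionVars false
set_option linter.unusedVariables false

variable {Ω : Type*} [Group Ω] {S D : Subgroup Ω} {F : FusionSystem S} {W : FusionSystem D}
  {J : ∀ P : Subgroup Ω, Subgroup (MulAut P)} {p n : ℕ} {Y Z V T : Subgroup Ω}

/-- `f` extends to a map of `W` on the normalizer of its source. -/
def IsExt (W : FusionSystem D) (f : Y ≃* T) : Prop :=
  ∃ φ ∈ W.Hom (normalizerIn D Y),
    ∀ (y : Y) (hy : (y : Ω) ∈ normalizerIn D Y), φ ⟨y, hy⟩ = (f y : Ω)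

theorem IsExt.refl (hY : Y ≤ D) : IsExt W (MulEquiv.refl Y) :=
  ⟨_, subtype_mem (normalizerIn_le D Y), fun _ _ => rfl⟩

theorem IsExt.isIso {f : Y ≃* T} (hY : Y ≤ D) (hf : IsExt W f) : IsIso W f := by
  obtain ⟨φ, hφ, hv⟩ := hf
  exact mem_of_agree hφ (le_normalizerIn hY) fun y => (hv y _).symm

theorem IsExt.trans {f : Y ≃* T} {g : T ≃* V} (hY : Y ≤ D) (hf : IsExt W f) (hg : IsExt W g) :
    IsExt W (f.trans g) := by
  obtain ⟨φ, hφ, hv⟩ := hf
  obtain ⟨ψ, hψ, hw⟩ := hg
  have himg : imgHom φ Y = T := imgHom_eq_of_agree (le_normalizerIn hY) hv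
  refine ⟨_, W.comp_mem hφ hψ fun x =>
    himg ▸ SatCriterion.apply_mem_normalizerIn hφ (le_normalizerIn hY) le_rfl x, fun y hy => ?_⟩
  show ψ ⟨φ ⟨y, hy⟩, _⟩ = _
  exact (congrArg ψ (Subtype.ext (hv y hy))).trans
    (hw (f y) (le_normalizerIn (IsIso.le_right (IsExt.isIso hY ⟨φ, hφ, hv⟩)) (f y).2))

theorem IsExt.symm [Finite D] {f : Y ≃* T} (hY : Y ≤ D) (hf : IsExt W f)
    (hc : Nat.card (normalizerIn D T) ≤ Nat.card (normalizerIn D Y)) : IsExt W f.symm := by
  obtain ⟨φ, hφ, hv⟩ := hf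
  have himg : imgHom φ Y = T := imgHom_eq_of_agree (le_normalizerIn hY) hv
  obtain ⟨E, hE, hEv⟩ := Fusion.exists_iso hφ (Q := normalizerIn D T) (by
    have := finite_of_le (normalizerIn_le D T)
    refine Subgroup.eq_of_le_of_card_ge
      (himg ▸ SatCriterion.range_le_normalizerIn hφ (le_normalizerIn hY) le_rfl) ?_
    rwa [← Nat.card_congr (MonoidHom.ofInjective (W.injective_of_mem hφ)).toEquiv])
  refine ⟨_, hE.symm, fun t ht => ?_⟩
  show (E.symm ⟨t, ht⟩ : Ω) = (f.symm t : Ω)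
  have hy := le_normalizerIn hY (f.symm t).2
  rw [show (⟨(t : Ω), ht⟩ : normalizerIn D T) = E ⟨f.symm t, hy⟩ from Subtype.ext (by
    rw [hEv, hv, MulEquiv.apply_symm_apply]), E.symm_apply_apply]

/-- The linking relation. -/
def Link (W : FusionSystem D) (J : ∀ P : Subgroup Ω, Subgroup (MulAut P)) (e : Y ≃* Z) : Prop :=
  ∃ T : Subgroup Ω, ∃ f : Y ≃* T, ∃ g : Z ≃* T, IsExt W f ∧ IsExt W g ∧ f.symm.trans (e.trans g) ∈ J T

theorem link_self {a : MulAut Y} (hY : Y ≤ D) (ha : a ∈ J Y) : Link W J (a : Y ≃* Y) :=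
  ⟨Y, MulEquiv.refl Y, MulEquiv.refl Y, IsExt.refl hY, IsExt.refl hY, ha⟩

theorem Link.symm {e : Y ≃* Z} (h : Link W J e) : Link W J e.symm := by
  obtain ⟨T, f, g, hf, hg, hj⟩ := h
  exact ⟨T, g, f, hg, hf, inv_mem hj⟩

/-- The inductive hypothesis above order `n`. -/
def Above (F : FusionSystem S) (W : FusionSystem D) (J : ∀ P : Subgroup Ω, Subgroup (MulAut P))
    (p n : ℕ) : Prop :=
  ∀ X, InH F D X → n < Nat.card X → SatCriterion.SatClass W p X ∧ W.autGroup X ≤ J X

/-- Restrictions of maps on subgroups of order at least `m` are linked. -/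
def LinkUp (F : FusionSystem S) (W : FusionSystem D) (J : ∀ P : Subgroup Ω, Subgroup (MulAut P))
    (n m : ℕ) : Prop :=
  ∀ (X A B : Subgroup Ω) (ψ : X →* Ω) (k : A ≃* B), ψ ∈ W.Hom X → m ≤ Nat.card X →
    InH F D A → Nat.card A = n → ∀ hA : A < X, X ≤ normalizerIn D A →
      (∀ a : A, ψ ⟨a, hA.le a.2⟩ = (k a : Ω)) → Link W J k

variable (h : Family F p D J) (hWF : W.IsSubsystemOf F)
include h hWF

omit h in
theorem IsExt.isIsoF {f : Y ≃* T} (hY : Y ≤ D) (hf : IsExt W f) : IsIso F f :=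
  hWF _ (hf.isIso hY)

theorem Link.pre {c : MulAut Y} (hc : c ∈ J Y) (hY : InH F D Y) {e : Y ≃* Z}
    (he : Link W J e) : Link W J ((c : Y ≃* Y).trans e) := by
  obtain ⟨T, f, g, hf, hg, hj⟩ := he
  refine ⟨T, f, g, hf, hg, ?_⟩
  convert mul_mem hj (h.covariant Y T hY f (hf.isIsoF hWF hY.1) c hc) using 1
  ext x
  simp [MulAut.congr]

/-- Linking composes, given the step on larger subgroups. -/
theorem Link.comp [Finite D] {e : Y ≃* Z} {e' : Z ≃* V} (hY : InH F D Y) (hcard : Nat.card Y = n)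
    (he : IsIso W e) (he' : IsIso W e') (hlt : Z < normalizerIn D Z)
    (hs : LinkUp F W J n (Nat.card (normalizerIn D Z))) (h₁ : Link W J e) (h₂ : Link W J e') :
    Link W J (e.trans e') := by
  obtain ⟨T₁, f, g, hf, hg, hj₁⟩ := h₁
  obtain ⟨T₂, f', g', hf', hg', hj₂⟩ := h₂
  have hZD : Z ≤ D := he.le_right
  have hT₁ : InH F D T₁ := hY.of_isConj h.closed (hf.isIsoF hWF hY.1).isConj
  have hT₂ : InH F D T₂ := (hY.of_isConj h.closed (IsIso.isConj (F := F) (hWF _ he))).of_isConj h.closed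
    (hf'.isIsoF hWF hZD).isConj
  obtain ⟨φ, hφ, hφv⟩ := id hg
  obtain ⟨χ, hχ, hχv⟩ := id hf'
  have himg : imgHom φ Z = T₁ := imgHom_eq_of_agree (le_normalizerIn hZD) hφv
  obtain ⟨E, hE, hEv⟩ := exists_iso_range hφ
  have hXN : φ.range ≤ normalizerIn D T₁ :=
    himg ▸ SatCriterion.range_le_normalizerIn hφ (le_normalizerIn hZD) le_rfl
  have hcX : Nat.card (normalizerIn D Z) = Nat.card φ.range := hE.card_eq
  have hlt' : T₁ < φ.range := by
    refine lt_of_le_of_ne (himg ▸ imgHom_le_range φ Z) fun e => ?_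
    have h1 := card_lt_of_lt hlt (normalizerIn_le D Z)
    rw [hcX, ← e, ← (hg.isIso hZD).card_eq] at h1
    exact lt_irrefl _ h1
  obtain ⟨T, ρ₁, ρ₂, hρ₁, hρ₂, hj₃⟩ := hs φ.range T₁ T₂ (χ.comp E.symm.toMonoidHom) (g.symm.trans f')
    (hE.symm.comp_hom hχ) hcX.le hT₁ ((hf.isIso hY.1).card_eq.symm.trans hcard) hlt' hXN fun a => by
      show χ (E.symm ⟨a, _⟩) = (f' (g.symm a) : Ω)
      have hz := le_normalizerIn hZD (g.symm a).2
      rw [show (⟨(a : Ω), hlt'.le a.2⟩ : φ.range) = E ⟨g.symm a, hz⟩ from Subtype.ext (by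
        rw [hEv, hφv, MulEquiv.apply_symm_apply]), E.symm_apply_apply, hχv]
  refine ⟨T, f.trans ρ₁, g'.trans ρ₂, hf.trans hY.1 hρ₁,
    hg'.trans he'.le_right hρ₂, ?_⟩
  convert mul_mem (mul_mem (h.covariant T₂ T hT₂ ρ₂ (hρ₂.isIsoF hWF hT₂.1) _ hj₂) hj₃)
    (h.covariant T₁ T hT₁ ρ₁ (hρ₁.isIsoF hWF hT₁.1) _ hj₁) using 1
  ext x
  simp [MulAut.congr]

/-- Restrictions of maps on strictly larger subgroups are linked. -/
theorem linkUp [Finite S] [Fact p.Prime] (hS : IsPGroup p S) (habove : Above F W J p n) :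
    LinkUp F W J n 0 := by
  have hDp : IsPGroup p D := hS.to_le h.closed.1
  have := finite_of_le h.closed.1
  suffices key : ∀ (d : ℕ) (X A B : Subgroup Ω) (ψ : X →* Ω) (k : A ≃* B), ψ ∈ W.Hom X →
      Nat.card D ≤ Nat.card X + d → InH F D A → Nat.card A = n → ∀ hA : A < X,
      X ≤ normalizerIn D A → (∀ a : A, ψ ⟨a, hA.le a.2⟩ = (k a : Ω)) → Link W J k from
    fun X A B ψ k hψ _ => key (Nat.card D) X A B ψ k hψ (Nat.le_add_left _ _)
  intro d
  induction d using Nat.strong_induction_on with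
  | _ d ih =>
  intro X A B ψ k hψ hd hAH hn hA hXN hag
  have hAD := hAH.1
  have hXD : X ≤ D := le_left hψ
  have himg : imgHom ψ A = B := imgHom_eq_of_agree hA.le fun x _ => hag x
  have hkI : IsIso W k := mem_of_agree hψ hA.le fun a => (hag a).symm
  have hBD : B ≤ D := hkI.le_right
  rcases hXN.eq_or_lt with hXK | hXK
  · subst hXK
    exact ⟨B, k, MulEquiv.refl B, ⟨ψ, hψ, fun y hy => hag y⟩, IsExt.refl hBD, by
      convert one_mem (J B); ext x; simp⟩
  have hX'le : ψ.range ≤ normalizerIn D B :=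
    himg ▸ SatCriterion.range_le_normalizerIn hψ hA.le hXN
  obtain ⟨e, he, hev⟩ := exists_iso_range hψ
  rcases hX'le.eq_or_lt with hXK' | hXK'
  · refine ⟨A, MulEquiv.refl A, k.symm, IsExt.refl hAD,
      ⟨restrictHom (X.subtype.comp e.symm.toMonoidHom) hXK'.ge,
        restrict_mem he.symm _, fun b hb => ?_⟩, by convert one_mem (J A); ext x; simp⟩
    show (e.symm ⟨b, _⟩ : Ω) = (k.symm b : Ω)
    rw [show (⟨(b : Ω), hXK'.ge hb⟩ : ψ.range) = e ⟨k.symm b, hA.le (k.symm b).2⟩ from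
      Subtype.ext (by rw [hev, hag, MulEquiv.apply_symm_apply]), e.symm_apply_apply]
  have := finite_of_le hXD
  have := finite_of_le (normalizerIn_le D A)
  have := finite_of_le (normalizerIn_le D B)
  obtain ⟨M, hM⟩ : ∃ M, M = normalizerIn (normalizerIn D A) X := ⟨_, rfl⟩
  obtain ⟨M', hM'⟩ : ∃ M', M' = normalizerIn (normalizerIn D B) ψ.range := ⟨_, rfl⟩
  have hXM : X < M := hM ▸ lt_normalizerIn (hDp.to_le (normalizerIn_le D A)) hXK
  have hXM' : ψ.range < M' := hM' ▸ lt_normalizerIn (hDp.to_le (normalizerIn_le D B)) hXK'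
  have hMN : M ≤ normalizerIn D A := hM ▸ normalizerIn_le _ X
  have hM'N : M' ≤ normalizerIn D B := hM' ▸ normalizerIn_le _ _
  have hMX : M ≤ normalizerIn D X := fun g hg => ⟨(hMN hg).1, (hM ▸ hg : _).2⟩
  have hMX' : M' ≤ normalizerIn D ψ.range := fun g hg => ⟨(hM'N hg).1, (hM' ▸ hg : _).2⟩
  have heA : ∀ x : X, (e x : Ω) ∈ B ↔ (x : Ω) ∈ A := fun x => by
    rw [hev, ← himg]
    exact mem_imgHom_apply_iff (W.injective_of_mem hψ)
  have heA' : ∀ y : ψ.range, (e.symm y : Ω) ∈ A ↔ (y : Ω) ∈ B := fun y => by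
    rw [← heA, MulEquiv.apply_symm_apply]
  have hBr : B ≤ ψ.range := himg ▸ imgHom_le_range ψ A
  have hnX : n < Nat.card X := hn ▸ card_lt_of_lt hA hXD
  obtain ⟨hsat, haut⟩ := habove X (hAH.of_le h.closed hA.le hXD) hnX
  obtain ⟨Sig, hSigA, hAutM, hSigp, hSig⟩ := SatCriterion.exists_sylowIn_ge
    (SatCriterion.autInducedBy_le_stab (F := W) hA.le hXD hMN)
    (isPGroup_autInducedBy (hDp.to_le (hMN.trans (normalizerIn_le D A))) X)
  have hle' : (autInducedBy M' ψ.range).map (MulAut.congr e.symm).toMonoidHom ≤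
      SatCriterion.stab W X A := by
    rintro _ ⟨a, ha, rfl⟩
    exact SatCriterion.congr_mem_stab he.le_right he.symm heA'
      (SatCriterion.autInducedBy_le_stab (F := W) hBr he.le_right hM'N ha)
  obtain ⟨γ, hγ, hγc⟩ := hSig.exists_conj hle'
    ((isPGroup_autInducedBy (hDp.to_le (hM'N.trans (normalizerIn_le D B))) _).map _)
  obtain ⟨Y', θ, hθ, hYr, hθc⟩ :=
    SatCriterion.exists_iso_sylow hsat (fun a ha => (hSigA ha).1) hSigp
  obtain ⟨φ₁, hφ₁, hφ₁v⟩ := exists_extension (T := M) hYr hθ fun g hg =>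
    mem_extender_of_congr (hMX hg) (α := X.normalizerMonoidHom ⟨g, (hMX hg).2⟩) (fun _ => rfl)
      (hθc _ (hAutM (mem_autInducedBy_iff.2 ⟨g, hg, (hMX hg).2, fun _ => rfl⟩)))
  have hγiso : IsIso W γ := (mem_autGroup_iff hXD).1 hγ.1
  obtain ⟨φ₂, hφ₂, hφ₂v⟩ := exists_extension (T := M') hYr
    ((he.symm.trans hγiso).trans hθ) fun g hg =>
    mem_extender_of_congr (hMX' hg) (α := ψ.range.normalizerMonoidHom ⟨g, (hMX' hg).2⟩)
      (fun _ => rfl) (by
      rw [congr_trans, congr_trans, congr_self_eq]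
      exact hθc _ (hγc _ ⟨_, mem_autInducedBy_iff.2 ⟨g, hg, (hMX' hg).2, fun _ => rfl⟩, rfl⟩))
  -- the restriction of `γ` to `A`
  obtain ⟨c, hcdef⟩ : ∃ c, c = SatCriterion.res W hA.le ⟨γ, hγ⟩ := ⟨_, rfl⟩
  have hcJ : c ∈ J A :=
    res_mem h hA.le hAH hXD (haut hγ.1) fun x => hcdef ▸ rfl
  obtain ⟨i₁, hi₁, hi₁v⟩ := exists_iso_restrict hφ₁ (hA.le.trans hXM.le)
  have hval : ∀ a : A, φ₂ ⟨k a, hXM'.le (hBr (k a).2)⟩ = (i₁ (c a) : Ω) := fun a => by
    rw [hi₁v, hφ₁v ⟨c a, hA.le (c a).2⟩, hφ₂v ⟨k a, hBr (k a).2⟩]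
    show (θ (γ (e.symm ⟨k a, _⟩)) : Ω) = _
    rw [show (⟨(k a : Ω), hBr (k a).2⟩ : ψ.range) = e ⟨a, hA.le a.2⟩ from
      Subtype.ext (by rw [hev, hag]), e.symm_apply_apply]
    refine congrArg (fun w => (θ w : Ω)) (Subtype.ext ?_)
    rw [hcdef]
    rfl
  have hi₂v : ∀ b : B, φ₂ ⟨b, hXM'.le (hBr b.2)⟩ = (((k.symm.trans c).trans i₁) b : Ω) :=
    fun b => by
      have := hval (k.symm b)
      simp only [MulEquiv.apply_symm_apply] at this
      exact this
  have hAM : A < M := hA.trans hXM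
  have hBM' : B < M' := lt_of_le_of_lt hBr hXM'
  have hcM : Nat.card X < Nat.card M := card_lt_of_lt hXM (hMN.trans (normalizerIn_le D A))
  have hcM' : Nat.card X < Nat.card M' :=
    lt_of_eq_of_lt he.card_eq (card_lt_of_lt hXM' (hM'N.trans (normalizerIn_le D B)))
  have hMD := Subgroup.card_le_of_le (hMN.trans (normalizerIn_le D A))
  have hM'D := Subgroup.card_le_of_le (hM'N.trans (normalizerIn_le D B))
  have hBH : InH F D B := hAH.of_isConj h.closed (IsIso.isConj (F := F) (hWF _ hkI))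
  have hl₁ : Link W J i₁ := ih (Nat.card D - Nat.card M) (by omega) M A _ φ₁ i₁ hφ₁ (by omega) hAH
    hn hAM hMN fun a => (hi₁v a).symm
  have hl₂ : Link W J ((k.symm.trans c).trans i₁) := ih (Nat.card D - Nat.card M') (by omega) M' B _
    φ₂ _ hφ₂ (by omega) hBH (hkI.card_eq.symm.trans hn) hBM' hM'N hi₂v
  -- composition through the image of `φ₁`
  obtain ⟨R₁, hR₁⟩ : ∃ R₁, R₁ = imgHom φ₁ A := ⟨_, rfl⟩
  have hR₁D : R₁ ≤ D := hR₁ ▸ imgHom_le hφ₁ A
  subst hR₁
  have := finite_of_le (normalizerIn_le D (imgHom φ₁ A))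
  have hcN : Nat.card M ≤ Nat.card (normalizerIn D (imgHom φ₁ A)) :=
    Nat.card_le_card_of_injective (fun x => (⟨φ₁ x,
      SatCriterion.apply_mem_normalizerIn hφ₁ hAM.le hMN x⟩ : normalizerIn D (imgHom φ₁ A)))
      fun a b hab => W.injective_of_mem hφ₁ (congrArg Subtype.val hab)
  have hlt : imgHom φ₁ A < normalizerIn D (imgHom φ₁ A) :=
    lt_of_le_of_ne (le_normalizerIn hR₁D) fun e' => by
      rw [← e', card_imgHom (W.injective_of_mem hφ₁) hAM.le] at hcN
      omega
  have hcI : IsIso W ((c : A ≃* A).trans i₁) :=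
    ((mem_autGroup_iff hAD).1 (hcdef ▸ SatCriterion.res_mem hA.le hXD _)).trans hi₁
  have hi₂I : IsIso W ((k.symm.trans c).trans i₁) :=
    mem_of_agree hφ₂ (hBr.trans hXM'.le) fun b => (hi₂v b).symm
  have := Link.comp h hWF hAH hn hcI hi₂I.symm hlt
    (fun X' A' B' ψ' k' h1 h2 h3 h4 h5 => ih (Nat.card D - Nat.card X') (by
      have := Subgroup.card_le_of_le (le_left h1)
      omega) X' A' B' ψ' k' h1 (by omega) h3 h4 h5)
    (Link.pre h hWF hcJ hAH hl₁) hl₂.symm
  rwa [show ((c : A ≃* A).trans i₁).trans ((k.symm.trans c).trans i₁).symm = k from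
    MulEquiv.ext fun x => by simp] at this

/-- All isomorphisms of a system inside the class are linked, once the step is known. -/
theorem linkSystem [Finite S] [Fact p.Prime] (hS : IsPGroup p S)
    (hWd : W = genSystem F h.closed.1 J) (habove : Above F W J p n) (hnD : n < Nat.card D)
    {e : Y ≃* Z} (he : IsIso W e) (hY : InH F D Y) (hn : Nat.card Y = n) : Link W J e := by
  have hDp : IsPGroup p D := hS.to_le h.closed.1
  have := finite_of_le h.closed.1
  have hup := linkUp h hWF hS habove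
  have hprop : ∀ {A : Subgroup Ω}, A ≤ D → Nat.card A = n → A < normalizerIn D A := fun hA hc =>
    lt_normalizerIn hDp (lt_of_le_of_ne hA fun e => by rw [e] at hc; omega)
  let L : FusionSystem D :=
    { Hom := fun X => {φ | φ ∈ W.Hom X ∧ ∀ (A B : Subgroup Ω) (hAX : A ≤ X), InH F D A →
        Nat.card A = n → ∀ k : A ≃* B, (∀ a : A, φ ⟨a, hAX a.2⟩ = (k a : Ω)) → Link W J k}
      le_of_mem := fun hφ => W.le_of_mem hφ.1
      injective_of_mem := fun hφ => W.injective_of_mem hφ.1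
      conj_mem := fun {X g} hX hg => ⟨W.conj_mem hX hg, fun A B hAX hAH hc k hk =>
        hup (normalizerIn D A) A B _ k (W.conj_mem (normalizerIn_le D A) hg) (Nat.zero_le _) hAH hc
          (hprop hAH.1 hc) le_rfl fun a => hk a⟩
      comp_mem := fun {X V φ ψ} hφ hψ hh => ⟨W.comp_mem hφ.1 hψ.1 hh,
        fun A B hAX hAH hc k hk => by
          obtain ⟨k₁, hk₁, hk₁v⟩ := exists_iso_restrict hφ.1 hAX
          have hle : imgHom φ A ≤ V := by
            rintro _ ⟨x, -, rfl⟩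
            exact hh x
          have hk₂v : ∀ z : imgHom φ A, ψ ⟨z, hle z.2⟩ = ((k₁.symm.trans k) z : Ω) := fun z => by
            obtain ⟨a, rfl⟩ := k₁.surjective z
            rw [MulEquiv.trans_apply, k₁.symm_apply_apply, ← hk]
            exact congrArg ψ (Subtype.ext (hk₁v a))
          have hk₂ : IsIso W (k₁.symm.trans k) :=
            mem_of_agree hψ.1 hle fun z => (hk₂v z).symm
          have hZH : InH F D (imgHom φ A) := hAH.of_isConj h.closed (IsIso.isConj (F := F) (hWF _ hk₁))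
          have := Link.comp h hWF hAH hc hk₁ hk₂ (hprop hZH.1 (hk₁.card_eq.symm.trans hc))
            (fun X' A' B' ψ' k' h1 _ => hup X' A' B' ψ' k' h1 (Nat.zero_le _))
            (hφ.2 A _ hAX hAH hc k₁ fun a => (hk₁v a).symm)
            (hψ.2 _ B hle hZH (hk₁.card_eq.symm.trans hc) _ hk₂v)
          rwa [show k₁.trans (k₁.symm.trans k) = k from MulEquiv.ext fun x => by simp] at this⟩
      inv_mem := fun {X φ} hφ => by
        obtain ⟨ψ, hψ, hv⟩ := W.inv_mem hφ.1
        refine ⟨ψ, ⟨hψ, fun A B hAX hAH hc k hk => ?_⟩, hv⟩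
        have hpre : ∀ a : A, ∃ x : X, φ x = (a : Ω) ∧ (x : Ω) = (k a : Ω) := fun a => by
          obtain ⟨x, hx⟩ := hAX a.2
          refine ⟨x, hx, ?_⟩
          rw [← hk a, ← hv x]
          exact congrArg ψ (Subtype.ext hx)
        have hBX : B ≤ X := fun b hb => by
          obtain ⟨a, ha⟩ := k.surjective ⟨b, hb⟩
          obtain ⟨x, -, hx⟩ := hpre a
          rw [← show (k a : Ω) = b from congrArg Subtype.val ha, ← hx]
          exact x.2
        have hkW : IsIso W k := mem_of_agree hψ hAX fun a => (hk a).symm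
        have := hφ.2 B A hBX (hAH.of_isConj h.closed (IsIso.isConj (F := F) (hWF _ hkW)))
          (hkW.card_eq.symm.trans hc) k.symm fun b => by
            obtain ⟨a, rfl⟩ := k.surjective b
            obtain ⟨x, hx, hxk⟩ := hpre a
            rw [k.symm_apply_apply, ← hx]
            exact congrArg φ (Subtype.ext hxk.symm)
        simpa using this.symm }
  have hgen : ∀ X, InH F D X → J X ≤ L.autGroup X := fun X hX a ha => by
    have haI : IsIso W a :=
      (mem_autGroup_iff hX.1).1 (hWd ▸ h.le_genSystem hX ha)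
    refine (mem_autGroup_iff hX.1).2 ⟨haI, fun A B hAX hAH hc k hk => ?_⟩
    rcases hAX.eq_or_lt with rfl | hlt
    · obtain rfl : B = A := by
        ext b
        refine ⟨fun hb => ?_, fun hb => ?_⟩
        · obtain ⟨x, hx⟩ := k.surjective ⟨b, hb⟩
          rw [← show (k x : Ω) = b from congrArg Subtype.val hx, ← hk x]
          exact (a x).2
        · obtain ⟨x, hx⟩ := a.surjective ⟨b, hb⟩
          rw [← show (a x : Ω) = b from congrArg Subtype.val hx,
            show (a x : Ω) = k x from hk x]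
          exact (k x).2
      rw [show k = a from MulEquiv.ext fun x => Subtype.ext (hk x).symm]
      exact link_self hAH.1 ha
    · have := finite_of_le (hX.1)
      exact hup (normalizerIn X A) A B _ k (restrict_mem haI (normalizerIn_le X A)) (Nat.zero_le _)
        hAH hc (lt_normalizerIn (hDp.to_le hX.1) hlt) (inf_le_inf_right _ hX.1) fun x => hk x
  have hle : W.IsSubsystemOf L := by rw [hWd]; exact genSystem_le hgen
  exact (hle _ he).2 Y Z le_rfl hY hn e fun a => rfl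

end CfsgLib.FusionComponents
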