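import Cfsg.Agent.FusionComponents.Master
import Cfsg.Agent.Fusion.SaturationCriterion
import Cfsg.Agent.Fusion.PrimeToPIndex
import Cfsg.Agent.Fusion.PPrimeResidual
import Cfsg.Agent.FusionAgemo.Induction

/-!
# Subsystems generated by a covariant family of automizers

Let `D` be strongly closed in `F` and `J` a family of automorphism groups of the subgroups
`P ≤ D` all whose conjugates contain their centralizers in `D`. The least system over `D`
containing `J` is invariant in `F`, and in every saturated system between it and `F`.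
-/

set_option autoImplicit false

namespace CfsgLib.FusionComponents

open Cfsg Cfsg.FusionSystem CfsgLib.Fusion CfsgLib.FusionClosed

variable {Ω : Type*} [Group Ω] {S D U : Subgroup Ω} {F : FusionSystem S} {G : FusionSystem U}
  {J : ∀ P : Subgroup Ω, Subgroup (MulAut P)} {p : ℕ}

/-- `P` and all its conjugates contain their centralizers in `D`. -/
def InH (F : FusionSystem S) (D P : Subgroup Ω) : Prop :=
  P ≤ D ∧ ∀ Q, F.IsConj P Q → centralizerIn D Q ≤ Q

theorem InH.of_isConj (hD : F.StronglyClosed D) {P Q : Subgroup Ω} (hP : InH F D P)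
    (h : F.IsConj P Q) : InH F D Q := by
  obtain ⟨φ, hφ, rfl⟩ := id h
  refine ⟨?_, fun R hR => hP.2 R (isConj_trans h hR)⟩
  rintro _ ⟨x, rfl⟩
  exact hD.2 P hP.1 φ hφ x

theorem InH.of_le (hD : F.StronglyClosed D) {P Q : Subgroup Ω} (hP : InH F D P) (h : P ≤ Q)
    (hQ : Q ≤ D) : InH F D Q := by
  refine ⟨hQ, fun R hR => ?_⟩
  obtain ⟨φ, hφ, rfl⟩ := hR
  have h1 := hP.2 _ (isConj_restrict hφ h)
  have h2 : imgHom φ P ≤ φ.range := imgHom_le_range φ P
  exact ((centralizerIn_anti h2).trans h1).trans h2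

theorem inH_self [Finite D] (hD : F.StronglyClosed D) : InH F D D := by
  refine ⟨le_rfl, fun Q hQ c hc => ?_⟩
  obtain ⟨φ, hφ, rfl⟩ := hQ
  have : φ.range = D := by
    refine Subgroup.eq_of_le_of_card_ge ?_ ?_
    · rintro _ ⟨x, rfl⟩
      exact hD.2 D le_rfl φ hφ x
    · rw [← imgHom_self, card_imgHom (F.injective_of_mem hφ) le_rfl]
  rw [this]
  exact hc.1

/-- The maps of `F` between subgroups of `D`. -/
def restrictSystem (F : FusionSystem S) (hD : D ≤ S) : FusionSystem D where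
  Hom P := {φ | φ ∈ F.Hom P ∧ P ≤ D ∧ ∀ x : P, φ x ∈ D}
  le_of_mem h := ⟨h.2.1, h.2.2⟩
  injective_of_mem h := F.injective_of_mem h.1
  conj_mem hP hg := ⟨F.conj_mem (hP.trans hD) (hD hg), hP,
    fun x => D.mul_mem (D.mul_mem hg (hP x.2)) (D.inv_mem hg)⟩
  comp_mem hφ hψ h := ⟨F.comp_mem hφ.1 hψ.1 h, hφ.2.1, fun _ => hψ.2.2 _⟩
  inv_mem := by
    rintro P φ ⟨hφ, hP, hv⟩
    obtain ⟨ψ, hψ, hψv⟩ := F.inv_mem hφ
    refine ⟨ψ, ⟨hψ, ?_, ?_⟩, hψv⟩
    · rintro _ ⟨x, rfl⟩
      exact hv x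
    · rintro ⟨_, x, rfl⟩
      exact (hψv x).symm ▸ hP x.2

theorem mem_restrictSystem {hD : D ≤ S} (hsc : F.StronglyClosed D) {P : Subgroup Ω} {φ : P →* Ω}
    (hφ : φ ∈ F.Hom P) (hP : P ≤ D) : φ ∈ (restrictSystem F hD).Hom P :=
  ⟨hφ, hP, fun x => hsc.2 P hP φ hφ x⟩

theorem restrictSystem_autGroup {hD : D ≤ S} {P : Subgroup Ω} (hP : P ≤ D) :
    (restrictSystem F hD).autGroup P = F.autGroup P := by
  ext a
  rw [mem_autGroup_iff hP, mem_autGroup_iff (hP.trans hD)]
  exact ⟨fun h => h.1, fun h => ⟨h, hP, fun x => hP (a x).2⟩⟩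

/-- The least system over `D` containing the family `J`. -/
def genSystem (F : FusionSystem S) (hD : D ≤ S) (J : ∀ P : Subgroup Ω, Subgroup (MulAut P)) :
    FusionSystem D :=
  PPrimeResidual.infSystem (restrictSystem F hD) {E | ∀ P, InH F D P → J P ≤ E.autGroup P}

theorem genSystem_isSubsystemOf {hD : D ≤ S} : (genSystem F hD J).IsSubsystemOf F :=
  fun _ _ h => h.1.1

theorem genSystem_le {hD : D ≤ S} {E : FusionSystem D}
    (hE : ∀ P, InH F D P → J P ≤ E.autGroup P) : (genSystem F hD J).IsSubsystemOf E :=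
  fun _ _ h => h.2 E hE

/-- The conditions on the family `J`. -/
structure Family (F : FusionSystem S) (p : ℕ) (D : Subgroup Ω)
    (J : ∀ P : Subgroup Ω, Subgroup (MulAut P)) : Prop where
  closed : F.StronglyClosed D
  le_aut : ∀ P, InH F D P → J P ≤ F.autGroup P
  covariant : ∀ P Q : Subgroup Ω, InH F D P → ∀ e : P ≃* Q, IsIso F e → ∀ a ∈ J P, MulAut.congr e a ∈ J Q
  aut_le : ∀ P, InH F D P → autInducedBy D P ≤ J P
  sylow : ∀ P, InH F D P → F.IsFullyNormalized P → IsSylowIn p (J P) (autInducedBy D P)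
  restrict : ∀ (X R : Subgroup Ω) (h : R ≤ X), InH F D R → X ≤ D → ∀ a ∈ J X, ∀ b : MulAut R,
    (orderOf a).Coprime p → Agrees h b a → b ∈ J R
  extend : ∀ P, InH F D P → F.IsFullyNormalized P → ∀ g ∈ J P, (orderOf g).Coprime p →
    ∀ Z : Subgroup (MulAut P), Inn P ≤ Z → Z ≤ autInducedBy D P → (∀ z ∈ Z, g * z * g⁻¹ ∈ Z) →
      ∃ hPW : P ≤ kNormalizer D P Z, ∃ β ∈ J (kNormalizer D P Z), Agrees hPW g β

theorem Family.le_genSystem (h : Family F p D J) {P : Subgroup Ω} (hP : InH F D P) :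
    J P ≤ (genSystem F h.closed.1 J).autGroup P := fun a ha => by
  have hI : IsIso F a := (mem_autGroup_iff (hP.1.trans h.closed.1)).1 (h.le_aut P hP ha)
  exact (mem_autGroup_iff hP.1).2
    ⟨⟨hI, hP.1, fun x => hP.1 (a x).2⟩, fun E hE => (mem_autGroup_iff hP.1).1 (hE P hP ha)⟩

/-- The generated system is invariant under `Aut_F(D)`. -/
theorem Family.autInvariant (h : Family F p D J) : AutInvariant (genSystem F h.closed.1 J) F := by
  obtain ⟨I, hI⟩ : ∃ I, I = restrictSystem F h.closed.1 := ⟨_, rfl⟩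
  obtain ⟨W, hW⟩ : ∃ W, W = genSystem F h.closed.1 J := ⟨_, rfl⟩
  rw [← hW]
  have hJ : ∀ P, InH F D P → J P ≤ (PrimeToPIndex.invPart I W).autGroup P := by
    intro P hP a ha
    have haI : IsIso F a := (mem_autGroup_iff (hP.1.trans h.closed.1)).1 (h.le_aut P hP ha)
    refine (mem_autGroup_iff hP.1).2 ⟨hI ▸ ⟨haI, hP.1, fun x => hP.1 (a x).2⟩, fun α hα => ?_⟩
    have hαF : α ∈ F.autGroup D := by rwa [hI, restrictSystem_autGroup le_rfl] at hα
    obtain ⟨e, he, hev⟩ := exists_iso_restrict ((mem_autGroup_iff h.closed.1).1 hαF) hP.1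
    have hQ : InH F D (imgHom (D.subtype.comp α.toMonoidHom) P) :=
      hP.of_isConj h.closed he.isConj
    have hmem : MulAut.congr e a ∈ W.autGroup _ :=
      hW ▸ h.le_genSystem hQ (h.covariant P _ hP e he a ha)
    refine ⟨hP.1, fun x => hP.1 (a x).2, _, (mem_autGroup_iff hQ.1).1 hmem, fun x hx => ?_⟩
    show (MulAut.congr e a ⟨_, hx⟩ : Ω) = _
    refine Eq.trans ?_ (hev (a x))
    rw [← congr_apply (e := e)]
    exact congrArg (fun w => (MulAut.congr e a w : Ω)) (Subtype.ext (hev x).symm)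
  have hle : W.IsSubsystemOf (PrimeToPIndex.invPart I W) := by
    intro P φ hφ
    rw [hW] at hφ
    exact genSystem_le hJ P hφ
  intro P hP φ hφ α hα
  obtain ⟨χ, hχ, hv⟩ := PrimeToPIndex.autInvariant_invPart (F := I) (E := W) P hP φ (hle P hφ) α
    (by rwa [hI, restrictSystem_autGroup le_rfl])
  exact ⟨χ, PrimeToPIndex.invPart_le _ hχ, hv⟩

/-- A subgroup with conjugate containing its centralizer has a fully normalized conjugate with
that property. -/
theorem not_centralizer_le_fullyNormalized [Finite S] [Fact p.Prime] (hS : IsPGroup p S)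
    (hF : F.IsSaturated p) (hD : F.StronglyClosed D) {R Q : Subgroup Ω} (hRQ : F.IsConj R Q)
    (hQ : F.IsFullyNormalized Q) (hR : ¬ centralizerIn D R ≤ R) : ¬ centralizerIn D Q ≤ Q := by
  intro hle
  have hRS := le_of_isConj_left hRQ
  obtain ⟨hQa, hQr⟩ := automized_receptive hS hF hQ
  obtain ⟨χ, hχ, -, himg⟩ := exists_map_normalizerIn hS hQa hQr hRQ
  refine hR fun c hc => ?_
  have hcS : c ∈ centralizerIn S R := ⟨hD.1 hc.1, hc.2⟩
  have hcN : c ∈ normalizerIn S R := centralizerIn_le_normalizerIn S R hcS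
  have hmem : χ ⟨c, hcN⟩ ∈ centralizerIn D Q := by
    refine mem_centralizerIn'.2 ⟨apply_mem_stronglyClosed hD hχ (x := ⟨c, hcN⟩) hc.1, fun q hq => ?_⟩
    obtain ⟨r, hr, rfl⟩ := himg.ge hq
    rw [← map_inv, ← map_mul, ← map_mul]
    exact congrArg χ (Subtype.ext ((mem_centralizerIn'.1 hc).2 r hr))
  obtain ⟨r, hr, hrv⟩ := himg.ge (hle hmem)
  have : (r : Ω) = c := congrArg Subtype.val (F.injective_of_mem hχ hrv)
  exact this ▸ hr

/-- **The Frattini condition.** -/
theorem Family.frattini (h : Family F p D J) [Finite U] [Fact p.Prime] (hU : IsPGroup p U)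
    (hG : G.IsSaturated p) (hD : G.StronglyClosed D) (hGF : G.IsSubsystemOf F)
    (hW : (genSystem F h.closed.1 J).IsSubsystemOf G)
    (hsyl : ∀ P, InH F D P → G.IsFullyNormalized P → IsSylowIn p (J P) (autInducedBy D P))
    (hcen : ∀ P, P ≤ D → ¬ InH F D P → G.IsFullyNormalized P → ¬ centralizerIn D P ≤ P)
    {P : Subgroup Ω} (hP : P ≤ D) {φ : P →* Ω} (hφ : φ ∈ G.Hom P) :
    ∃ α ∈ G.autGroup D, ∃ φ₀ ∈ (genSystem F h.closed.1 J).Hom P,
      ∀ (x : P) (hx : φ₀ x ∈ D), φ x = ((α ⟨φ₀ x, hx⟩ : D) : Ω) := by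
  have := finite_of_le hD.1
  obtain ⟨W, hWd⟩ : ∃ W, W = genSystem F h.closed.1 J := ⟨_, rfl⟩
  rw [← hWd] at hW ⊢
  have hinv : AutInvariant W G := fun P hP φ hφ α hα => by
    have hα' : α ∈ F.autGroup D :=
      (mem_autGroup_iff h.closed.1).2 (hGF _ ((mem_autGroup_iff hD.1).1 hα))
    have := h.autInvariant
    rw [← hWd] at this
    exact this P hP φ hφ α hα'
  obtain ⟨Δ, hΔ⟩ := exists_decomp_system hD hinv
  suffices key : ∀ (d : ℕ) (P : Subgroup Ω), Nat.card D ≤ Nat.card P + d → P ≤ D →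
      ∀ φ ∈ G.Hom P, φ ∈ Δ.Hom P by
    obtain ⟨-, α, hα, φ₀, hφ₀, hv⟩ :=
      (hΔ P φ).1 (key (Nat.card D) P (Nat.le_add_left _ _) hP φ hφ)
    exact ⟨α, hα, restrictHom φ₀ (le_inf le_rfl hP), restrict_mem hφ₀ _,
      fun x hx => hv ⟨x, x.2, hP x.2⟩ hx⟩
  intro d
  induction d using Nat.strong_induction_on with
  | _ d ih =>
  intro P hd hP φ hφ
  have hPU := hP.trans hD.1
  have := finite_of_le hPU
  rcases hP.eq_or_lt with rfl | hlt
  · obtain ⟨α, hα, hαv⟩ := exists_iso hφ (Q := P) (by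
      refine Subgroup.eq_of_le_of_card_ge ?_ ?_
      · rintro _ ⟨x, rfl⟩
        exact hD.2 _ le_rfl φ hφ x
      · rw [← imgHom_self, card_imgHom (G.injective_of_mem hφ) le_rfl])
    exact (hΔ P φ).2 ⟨hφ, α, hα.mem_autGroup, (P ⊓ P).subtype, subtype_mem inf_le_right,
      fun x hx => (hαv ⟨x, hx⟩).symm⟩
  have hDp : IsPGroup p D := hU.to_le hD.1
  have habove : ∀ (R : Subgroup Ω), R ≤ D → Nat.card P < Nat.card R → ∀ ψ ∈ G.Hom R, ψ ∈ Δ.Hom R := by
    intro R hR hc ψ hψ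
    have := Subgroup.card_le_of_le hR
    exact ih (Nat.card D - Nat.card R) (by omega) R (by omega) hR ψ hψ
  obtain ⟨Q, hPQ, hQ⟩ := exists_fullyNormalized (F := G) hPU
  obtain ⟨hQa, hQr⟩ := automized_receptive hU hG hQ
  have hQD : Q ≤ D := by
    obtain ⟨ψ, hψ, rfl⟩ := id hPQ
    rintro _ ⟨x, rfl⟩
    exact hD.2 P hP ψ hψ x
  have hcard : Nat.card P = Nat.card Q := card_eq_of_isConj hPQ
  have key : ∀ R : Subgroup Ω, R ≤ D → G.IsConj R Q →
      ∃ f : R ≃* Q, IsIso G f ∧ IsIso Δ f := by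
    intro R hR hRQ
    obtain ⟨χ, hχ, -, himg⟩ := exists_map_normalizerIn hU hQa hQr hRQ
    have hle : normalizerIn D R ≤ normalizerIn U R := inf_le_inf_right _ hD.1
    have hRlt : R < D := lt_of_le_of_ne hR fun e => by
      have h1 := card_eq_of_isConj hRQ
      rw [← hcard, e] at h1
      exact (card_lt_of_lt hlt hD.1).ne h1.symm
    have hc : Nat.card P < Nat.card (normalizerIn D R) := by
      rw [hcard, ← card_eq_of_isConj hRQ]
      exact card_lt_of_lt (lt_normalizerIn hDp hRlt) ((normalizerIn_le D R).trans hD.1)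
    have h2 := habove _ (normalizerIn_le D R) hc _ (restrict_mem hχ hle)
    have hRN : R ≤ normalizerIn D R := le_normalizerIn hR
    obtain ⟨f, hf, hfv⟩ := exists_iso (restrict_mem hχ (le_normalizerIn (hR.trans hD.1)))
      ((range_restrictHom χ _).trans himg)
    exact ⟨f, hf, mem_congr (restrict_mem h2 hRN) fun x => hfv x⟩
  obtain ⟨e, he, hev⟩ := exists_iso_range hφ
  have hrD : φ.range ≤ D := by
    rintro _ ⟨x, rfl⟩
    exact hD.2 P hP φ hφ x
  obtain ⟨a, haG, haΔ⟩ := key P hP hPQ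
  obtain ⟨b, hbG, hbΔ⟩ := key φ.range hrD (isConj_trans (isConj_symm he.isConj) hPQ)
  obtain ⟨γ, hγdef⟩ : ∃ γ : MulAut Q, γ = a.symm.trans (e.trans b) := ⟨_, rfl⟩
  suffices hγ : IsIso Δ γ by
    exact mem_congr ((haΔ.trans hγ).trans hbΔ.symm) fun x => by simp [hγdef, ← hev x]
  have hγG : IsIso G γ := hγdef ▸ haG.symm.trans (he.trans hbG)
  have hQlt : Q < D := lt_of_le_of_ne hQD fun e' => by
    rw [e'] at hcard
    exact (card_lt_of_lt hlt hD.1).ne hcard
  have := finite_of_le hQ.1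
  by_cases hQH : InH F D Q
  · have := finite_mulAut (V := Q)
    have hJn : ∀ x ∈ autInducedBy D Q, γ * x * γ⁻¹ ∈ J Q := fun x hx => by
      rw [← congr_self_eq]
      exact h.covariant Q Q hQH γ (hGF _ hγG) x (h.aut_le Q hQH hx)
    obtain ⟨j, hj, hjc⟩ := (hsyl Q hQH hQ).exists_conj
      (X := (autInducedBy D Q).map (MulAut.conj γ).toMonoidHom)
      (by rintro _ ⟨x, hx, rfl⟩; exact hJn x hx) ((isPGroup_autInducedBy hDp Q).map _)
    have hjW : IsIso W j :=
      (mem_autGroup_iff hQH.1).1 (hWd ▸ h.le_genSystem hQH hj)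
    have hjΔ : IsIso Δ j := (hΔ Q _).2 ⟨hW _ hjW, 1, one_mem _,
      restrictHom (Q.subtype.comp j.toMonoidHom) inf_le_left, restrict_mem hjW _,
      fun x hx => rfl⟩
    have hjγ : IsIso G (j * γ : MulAut Q) := (mem_autGroup_iff hQ.1).1
      (mul_mem (IsIso.mem_autGroup (F := G) (hW _ hjW)) hγG.mem_autGroup)
    obtain ⟨ψ, hψ, hψv⟩ := exists_extension (T := normalizerIn D Q) hQr hjγ
      fun g hg => mem_extender_of_congr ⟨hD.1 hg.1, hg.2⟩
        (α := Q.normalizerMonoidHom ⟨g, hg.2⟩) (fun _ => rfl) (by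
        rw [congr_self_eq]
        refine autInducedBy_mono hD.1 Q ?_
        have := hjc _ ⟨Q.normalizerMonoidHom ⟨g, hg.2⟩, mem_autInducedBy_iff.2 ⟨g, hg.1, hg.2, fun _ => rfl⟩, rfl⟩
        simpa [mul_assoc, mul_inv_rev] using this)
    have h2 := habove _ (normalizerIn_le D Q)
      (hcard ▸ card_lt_of_lt (lt_normalizerIn hDp hQlt) ((normalizerIn_le D Q).trans hD.1)) ψ hψ
    have h3 : IsIso Δ (j * γ : MulAut Q) :=
      mem_congr (restrict_mem h2 (le_normalizerIn hQD)) fun x => (hψv x _).symm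
    have h4 := mul_mem (inv_mem (hjΔ.mem_autGroup)) h3.mem_autGroup
    rw [inv_mul_cancel_left] at h4
    exact (mem_autGroup_iff hQ.1).1 h4
  · obtain ⟨ψ, hψ, hψv⟩ := exists_extension (T := Q ⊔ centralizerIn D Q) hQr hγG
      (sup_le (le_extender hQ.1 fun x => hQ.1 (γ x).2)
        ((inf_le_inf_right _ hD.1).trans (centralizerIn_le_extender _)))
    have hlt' : Q < Q ⊔ centralizerIn D Q := lt_of_le_of_ne le_sup_left fun e' =>
      hcen Q hQD hQH hQ (le_sup_right.trans e'.ge)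
    have hle : Q ⊔ centralizerIn D Q ≤ D := sup_le hQD inf_le_left
    have h2 := habove _ hle (hcard ▸ card_lt_of_lt hlt' (hle.trans hD.1)) ψ hψ
    exact mem_congr (restrict_mem h2 le_sup_left) fun x => (hψv x _).symm

end CfsgLib.FusionComponents
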