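import Mathlib.GroupTheory.Sylow
import Mathlib.GroupTheory.QuotientGroup.Basic
import Mathlib.GroupTheory.PGroup

/-!
# Group lemmas for the extension lemma of normal subsystems
-/

set_option autoImplicit false

namespace CfsgLib.FusionComponents

variable {G : Type*} [Group G] {p : ℕ}

/-- An element of order prime to `p` of `A ⊔ Z`, with `Z` a `p`-group normalizing `A`, lies in
`A`. -/
theorem mem_of_coprime_sup {A Z : Subgroup G} (hZ : IsPGroup p Z)
    (hn : ∀ z ∈ Z, ∀ a ∈ A, z * a * z⁻¹ ∈ A) {x : G} (hx : x ∈ A ⊔ Z)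
    (hxp : (orderOf x).Coprime p) : x ∈ A := by
  have hnA : ((A.subgroupOf (A ⊔ Z))).Normal := by
    have hle : A ⊔ Z ≤ Subgroup.normalizer (A : Set G) := by
      refine sup_le Subgroup.le_normalizer fun z hz => Subgroup.mem_normalizer_iff.2 fun a => ?_
      refine ⟨hn z hz a, fun h => ?_⟩
      have := hn z⁻¹ (inv_mem hz) _ h
      simpa [mul_assoc] using this
    exact Subgroup.normal_subgroupOf_of_le_normalizer hle
  obtain ⟨z, hz, hzx⟩ : ∃ z, z ∈ Z ∧ x * z⁻¹ ∈ A := by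
    have : x ∈ ((A ⊔ Z : Subgroup G) : Set G) := hx
    rw [Subgroup.coe_mul_of_right_le_normalizer_left A Z (fun z hz =>
      Subgroup.mem_normalizer_iff.2 fun a => ⟨hn z hz a, fun h => by
        have := hn z⁻¹ (inv_mem hz) _ h
        simpa [mul_assoc] using this⟩)] at this
    obtain ⟨a, ha, z, hz, rfl⟩ := this
    exact ⟨z, hz, by simpa using ha⟩
  obtain ⟨k, hk⟩ := hZ ⟨z, hz⟩
  have hk' : z ^ p ^ k = 1 := congrArg Subtype.val hk
  let π := QuotientGroup.mk' (A.subgroupOf (A ⊔ Z))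
  have e : π ⟨x, hx⟩ = π ⟨z, Subgroup.mem_sup_right hz⟩ := by
    refine (QuotientGroup.eq_iff_div_mem).2 ?_
    rw [Subgroup.mem_subgroupOf]
    simpa [div_eq_mul_inv] using hzx
  have h1 : orderOf (π ⟨x, hx⟩) ∣ p ^ k := by
    rw [e]
    refine orderOf_dvd_of_pow_eq_one ?_
    rw [← map_pow, show (⟨z, Subgroup.mem_sup_right hz⟩ : ↥(A ⊔ Z)) ^ p ^ k = 1 from
      Subtype.ext (by simpa using hk'), map_one]
  have h2 : orderOf (π ⟨x, hx⟩) ∣ orderOf x := by
    have := orderOf_map_dvd π ⟨x, hx⟩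
    rwa [Subgroup.orderOf_mk] at this
  have h3 : π ⟨x, hx⟩ = 1 :=
    orderOf_eq_one_iff.1 (Nat.eq_one_of_dvd_coprimes (hxp.pow_right k) h2 h1)
  exact Subgroup.mem_subgroupOf.1 ((QuotientGroup.eq_one_iff _).1 h3)

/-- A Frattini argument: an element can be replaced by one normalizing the Sylow subgroup `Z`
with the same image under `ρ`, when `ρ(Z)` is normal in the image. -/
theorem exists_normalizing_lift [Finite G] [Fact p.Prime] {H : Type*} [Group H] (ρ : G →* H)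
    (Z : Sylow p G) (hn : ∀ g : G, ∀ z ∈ (Z : Subgroup G), ρ g * ρ z * (ρ g)⁻¹ ∈
      (Z : Subgroup G).map ρ) (g : G) :
    ∃ n ∈ Subgroup.normalizer ((Z : Subgroup G) : Set G), ρ n = ρ g := by
  obtain ⟨L, hL⟩ : ∃ L, L = ((Z : Subgroup G).map ρ).comap ρ := ⟨_, rfl⟩
  have hZL : (Z : Subgroup G) ≤ L := hL ▸ Subgroup.le_comap_map _ _
  have hLn : L.Normal := by
    refine ⟨fun l hl a => ?_⟩
    rw [hL] at hl ⊢
    obtain ⟨z, hz, hzl⟩ := hl
    show ρ (a * l * a⁻¹) ∈ (Z : Subgroup G).map ρ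
    rw [map_mul, map_mul, map_inv, ← hzl]
    exact hn a z hz
  have h := Sylow.normalizer_sup_eq_top (Z.subtype hZL)
  rw [Sylow.coe_subtype, Subgroup.map_subgroupOf_eq_of_le hZL] at h
  obtain ⟨n, hnn, l, hl, hnl⟩ := Subgroup.mem_sup_of_normal_right.1
    (h.symm ▸ Subgroup.mem_top g :
      g ∈ Subgroup.normalizer ((Z : Subgroup G) : Set G) ⊔ L)
  rw [hL] at hl
  obtain ⟨z, hz, hzl⟩ := hl
  exact ⟨n * z, mul_mem hnn (Subgroup.le_normalizer hz), by
    rw [map_mul, hzl, ← map_mul, hnl]⟩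

end CfsgLib.FusionComponents
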