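import Cfsg.Agent.FusionComponents.Dichotomy
import Cfsg.Agent.FusionEnvelope.Envelope

/-!
# The layer exists
-/

set_option autoImplicit false

namespace CfsgLib.FusionComponents

open Cfsg Cfsg.FusionSystem CfsgLib.Fusion

variable {Ω : Type*} [Group Ω] {S T U : Subgroup Ω} {F : FusionSystem S} {C : FusionSystem U}
  {p : ℕ}

/-- The underlying subgroup of a subsystem lies in that of the system. -/
theorem le_of_isSubsystemOf {E : FusionSystem T} (h : C.IsSubsystemOf E) : U ≤ T :=
  le_left (h U (subtype_mem le_rfl))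

/-- A component contained in two normal subsystems lies in a normal subsystem of both. -/
theorem component_le_inter [Finite S] [Fact p.Prime] (hS : IsPGroup p S)
    (hC : C.IsComponentIn F p) {T' : Subgroup Ω} {E : FusionSystem T} {D : FusionSystem T'}
    {W : FusionSystem (T ⊓ T')} (hW : W.IsNormalIn F p) (hE : C.IsSubsystemOf E)
    (hD : C.IsSubsystemOf D) : C.IsSubsystemOf W := by
  rcases component_dichotomy hS hC hW with h | ⟨-, hfix⟩
  · exact h
  · have := finite_of_le (le_of_isSubsystemOf (isSubsystemOf_of_subnormal hC.1))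
    exact (not_centralized hC.2 (le_inf (le_of_isSubsystemOf hE) (le_of_isSubsystemOf hD))
      hfix).elim

/-- **The layer exists.** -/
theorem exists_layer [Finite S] [Fact p.Prime] (hS : IsPGroup p S) (hF : F.IsSaturated p) :
    ∃ (T : Subgroup Ω) (E : FusionSystem T), E.IsLayerOf F p := by
  classical
  let Good : ℕ → Prop := fun n => ∃ (T : Subgroup Ω) (E : FusionSystem T),
    (FusionLayer.mapsSet E).ncard = n ∧ E.IsNormalIn F p ∧
      ∀ (U : Subgroup Ω) (C : FusionSystem U), C.IsComponentIn F p → C.IsSubsystemOf E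
  have hex : ∃ n, Good n := ⟨_, S, F, rfl, FusionEnvelope.isNormalIn_self hS hF,
    fun U C hC => isSubsystemOf_of_subnormal hC.1⟩
  obtain ⟨T, E, hn, hE, hcomp⟩ := Nat.find_spec hex
  refine ⟨T, E, hE, hcomp, fun R D hD hDcomp => ?_⟩
  obtain ⟨W, hW, hWE, hWD⟩ := exists_normal_inter hS hE hD
  have hWc : ∀ (U : Subgroup Ω) (C : FusionSystem U), C.IsComponentIn F p → C.IsSubsystemOf W :=
    fun U C hC => component_le_inter hS hC hW (hcomp U C hC) (hDcomp U C hC)
  intro P φ hφ
  refine hWD.1.2.2.1 P ?_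
  by_contra hnot
  have := finite_of_le hE.1.2.2.2.1.1
  have hlt := FusionLayer.mapsSet_ncard_lt hWE.1.2.2.1 ⟨P, φ, hφ, hnot⟩
  exact Nat.find_min hex (hn ▸ hlt) ⟨_, W, rfl, hW, hWc⟩

end CfsgLib.FusionComponents
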