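import Cfsg.Agent.FusionComponents.Group
import Cfsg.Agent.FusionLayer.ExtensionCondition
import Cfsg.Agent.FusionLayer.Residual.Fix
import Cfsg.Agent.FusionNormal.GoodLift
import Cfsg.Agent.Fusion.NormalizerSaturated

/-!
# Normal subsystems act trivially modulo their underlying subgroup

If `M` is normal in `F` over `T`, `Q ≤ T` is fully normalized in `F` and `g ∈ Aut_M(Q)` has order
prime to `p` and normalizes a subgroup `X` of `Aut_S(Q)` containing `Inn(Q)`, then `g` extends to an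
automorphism of order prime to `p` of `N_S^X(Q)` which is trivial modulo `T`.
-/

set_option autoImplicit false

namespace CfsgLib.FusionComponents

open Cfsg Cfsg.FusionSystem CfsgLib.Fusion

variable {Ω : Type*} [Group Ω] {S T U V W Q : Subgroup Ω} {F : FusionSystem S}
  {M : FusionSystem T} {p : ℕ}

/-- An automorphism of a finite subgroup has finite order. -/
theorem finite_mulAut [Finite V] : Finite (MulAut V) :=
  Finite.of_injective (fun f : MulAut V => (f : V → V)) DFunLike.coe_injective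

/-- `b` is the restriction of `a`. -/
def Agrees (h : V ≤ W) (b : MulAut V) (a : MulAut W) : Prop :=
  ∀ x : V, (a ⟨x, h x.2⟩ : Ω) = (b x : Ω)

theorem Agrees.one (h : V ≤ W) : Agrees h (1 : MulAut V) (1 : MulAut W) := fun _ => rfl

theorem Agrees.mul {h : V ≤ W} {b b' : MulAut V} {a a' : MulAut W} (h₁ : Agrees h b a)
    (h₂ : Agrees h b' a') : Agrees h (b * b') (a * a') := fun x => by
  rw [MulAut.mul_apply, MulAut.mul_apply,
    show a' ⟨x, h x.2⟩ = ⟨(b' x : Ω), h (b' x).2⟩ from Subtype.ext (h₂ x)]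
  exact h₁ (b' x)

theorem Agrees.inv {h : V ≤ W} {b : MulAut V} {a : MulAut W} (h₁ : Agrees h b a) :
    Agrees h b⁻¹ a⁻¹ := fun x => by
  have e : a ⟨(b⁻¹ x : V), h (b⁻¹ x).2⟩ = ⟨x, h x.2⟩ := by
    refine Subtype.ext ((h₁ (b⁻¹ x)).trans ?_)
    rw [MulAut.apply_inv_self]
  rw [← e, MulAut.inv_apply_self]

theorem Agrees.pow {h : V ≤ W} {b : MulAut V} {a : MulAut W} (h₁ : Agrees h b a) (n : ℕ) :
    Agrees h (b ^ n) (a ^ n) := by
  induction n with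
  | zero => rw [pow_zero, pow_zero]; exact Agrees.one h
  | succ n ih => rw [pow_succ, pow_succ]; exact ih.mul h₁

theorem Agrees.unique {h : V ≤ W} {b b' : MulAut V} {a : MulAut W} (h₁ : Agrees h b a)
    (h₂ : Agrees h b' a) : b = b' :=
  MulEquiv.ext fun x => Subtype.ext ((h₁ x).symm.trans (h₂ x))

theorem Agrees.trans {h : U ≤ V} {h' : V ≤ W} {c : MulAut U} {b : MulAut V} {a : MulAut W}
    (h₁ : Agrees h c b) (h₂ : Agrees h' b a) : Agrees (h.trans h') c a := fun x =>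
  (h₂ ⟨x, h x.2⟩).trans (h₁ x)

/-- A `p`-element of `Aut_M(Q)` induced by `S` is induced by `T` when `Q` is fully automized in
`M`. -/
theorem mem_autInducedBy_of_normal [Finite S] [Fact p.Prime] (hS : IsPGroup p S) (hTS : T ≤ S)
    (hQa : M.IsFullyAutomized p Q) {x : MulAut Q} (hx : x ∈ M.autGroup Q)
    (hxS : x ∈ autInducedBy S Q) : x ∈ autInducedBy T Q := by
  have := finite_of_le hTS
  have h := eq_autInducedBy_of_le hQa (X := M.autGroup Q ⊓ autInducedBy S Q) inf_le_left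
    ((isPGroup_autInducedBy hS Q).to_le inf_le_right)
    (le_inf (autInducedBy_le_autGroup hQa.1) (autInducedBy_mono hTS Q))
  exact h ▸ ⟨hx, hxS⟩

/-- **Normal subsystems act trivially modulo their underlying subgroup.** -/
theorem master [Finite S] [Fact p.Prime] (hS : IsPGroup p S) (hn : M.IsNormalIn F p)
    (hQT : Q ≤ T) (hQn : F.IsFullyNormalized Q) {g : MulAut Q} (hg : g ∈ M.autGroup Q)
    (hgp : (orderOf g).Coprime p) {X : Subgroup (MulAut Q)} (hX : X ≤ autInducedBy S Q)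
    (hI : Inn Q ≤ X) (hgX : ∀ x ∈ X, g * x * g⁻¹ ∈ X) :
    ∃ hQW : Q ≤ kNormalizer S Q X, ∃ β ∈ F.autGroup (kNormalizer S Q X),
      (orderOf β).Coprime p ∧ Agrees hQW g β ∧
        ∀ w : kNormalizer S Q X, (w : Ω)⁻¹ * (β w : Ω) ∈ T := by
  classical
  obtain ⟨⟨hMs, hF, hinv⟩, -⟩ := id hn
  have hT : F.StronglyClosed T := hinv.2.1
  have hTS : T ≤ S := hT.1
  have hQS : Q ≤ S := hQn.1
  have hsi := strongInvariant_of_invariant hinv
  have := finite_of_le hQS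
  have := finite_of_le hTS
  have := finite_mulAut (V := Q)
  have hTp : IsPGroup p T := hS.to_le hTS
  obtain ⟨W, hW⟩ : ∃ W, W = kNormalizer S Q X := ⟨_, rfl⟩
  rw [← hW]
  have hWS : W ≤ S := hW ▸ kNormalizer_le X
  have := finite_of_le hWS
  have := finite_mulAut (V := W)
  have hWp : IsPGroup p W := hS.to_le hWS
  have hWN : W ≤ normalizerIn S Q := hW ▸ kNormalizer_le_normalizerIn X
  have hQW : Q ≤ W := fun q hq => by
    rw [hW]
    refine mem_kNormalizer.2 ⟨hQS hq, Q.normalizerMonoidHom ⟨q, Subgroup.le_normalizer hq⟩,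
      hI ⟨⟨q, hq⟩, MulEquiv.ext fun _ => rfl⟩, fun _ => rfl⟩
  refine ⟨hQW, ?_⟩
  -- the group `K` generated by `g` and `X`
  have hXp : IsPGroup p X := (isPGroup_autInducedBy hS Q).to_le hX
  have hXg : ∀ a ∈ Subgroup.zpowers g, ∀ x ∈ X, a * x * a⁻¹ ∈ X := by
    have hle : Subgroup.zpowers g ≤ Subgroup.normalizer (X : Set (MulAut Q)) := by
      refine Subgroup.zpowers_le.2 (Subgroup.mem_normalizer_iff.2 fun x => ⟨hgX x, fun h => ?_⟩)
      have hinj : Function.Injective (fun y : X => (⟨g * y * g⁻¹, hgX y y.2⟩ : X)) :=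
        fun a b e => Subtype.ext (mul_left_cancel (mul_right_cancel (congrArg Subtype.val e)))
      obtain ⟨y, hy⟩ := Finite.injective_iff_surjective.1 hinj ⟨_, h⟩
      have : (y : MulAut Q) = x :=
        mul_left_cancel (mul_right_cancel (congrArg Subtype.val hy))
      exact this ▸ y.2
    exact fun a ha x hx => (Subgroup.mem_normalizer_iff.1 (hle ha) x).1 hx
  obtain ⟨K, hK⟩ : ∃ K, K = X ⊔ Subgroup.zpowers g := ⟨_, rfl⟩
  have hXK : X ≤ K := hK ▸ le_sup_left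
  have hgK : g ∈ K := hK ▸ Subgroup.mem_sup_right (Subgroup.mem_zpowers g)
  have hKp : ∀ x ∈ K, (∃ k, x ^ p ^ k = 1) → x ∈ X := by
    intro x hx ⟨k, hk⟩
    have hnK : (X.subgroupOf K).Normal := by
      refine Subgroup.normal_subgroupOf_of_le_normalizer (hK ▸ sup_le Subgroup.le_normalizer ?_)
      intro a ha
      refine Subgroup.mem_normalizer_iff.2 fun y => ⟨hXg a ha y, fun h => ?_⟩
      have := hXg a⁻¹ (inv_mem ha) _ h
      simpa [mul_assoc] using this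
    obtain ⟨π, hπ⟩ : ∃ π, π = QuotientGroup.mk' (X.subgroupOf K) := ⟨_, rfl⟩
    have h1 : orderOf (π ⟨x, hx⟩) ∣ p ^ k := orderOf_dvd_of_pow_eq_one (by
      rw [← map_pow, show (⟨x, hx⟩ : K) ^ p ^ k = 1 from Subtype.ext (by simpa using hk), map_one])
    have hgen : π ⟨x, hx⟩ ∈ Subgroup.zpowers (π ⟨g, hgK⟩) := by
      have hle : K ≤ ((Subgroup.zpowers (π ⟨g, hgK⟩)).comap π).map K.subtype := by
        conv_lhs => rw [hK]
        refine sup_le (fun y hy => ⟨⟨y, hXK hy⟩, ?_, rfl⟩)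
          (Subgroup.zpowers_le.2 ⟨⟨g, hgK⟩, Subgroup.mem_zpowers _, rfl⟩)
        show π ⟨y, hXK hy⟩ ∈ Subgroup.zpowers _
        rw [show π ⟨y, hXK hy⟩ = 1 by
          rw [hπ]; exact (QuotientGroup.eq_one_iff _).2 (Subgroup.mem_subgroupOf.2 hy)]
        exact one_mem _
      obtain ⟨y, hy, hyx⟩ := hle hx
      rwa [show y = ⟨x, hx⟩ from Subtype.ext hyx] at hy
    have h2 : orderOf (π ⟨x, hx⟩) ∣ orderOf g := by
      refine (orderOf_dvd_of_mem_zpowers hgen).trans ?_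
      have := orderOf_map_dvd π ⟨g, hgK⟩
      rwa [Subgroup.orderOf_mk] at this
    have h3 : π ⟨x, hx⟩ = 1 :=
      orderOf_eq_one_iff.1 (Nat.eq_one_of_dvd_coprimes (hgp.pow_right k) h2 h1)
    rw [hπ] at h3
    exact Subgroup.mem_subgroupOf.1 ((QuotientGroup.eq_one_iff _).1 h3)
  have hKX : ∀ {L : Subgroup (MulAut Q)}, L ≤ K → IsPGroup p L → L ≤ X := fun hL hp x hx =>
    hKp x (hL hx) ((hp ⟨x, hx⟩).imp fun k hk => congrArg Subtype.val hk)
  -- the system `N_F^K(Q)` over `W`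
  obtain ⟨hQa, hQr⟩ := automized_receptive hS hF hQn
  have hKS : IsSylowIn p (F.autGroup Q ⊓ K) (autInducedBy S Q ⊓ K) :=
    isSylowIn_of_card_max (inf_le_inf_right _ (autInducedBy_le_autGroup hQS))
      ((isPGroup_autInducedBy hS Q).to_le inf_le_left) fun L hL hLp =>
        Subgroup.card_le_of_le fun x hx => Subgroup.mem_inf.2
          ⟨hX (hKX (hL.trans inf_le_right) hLp hx), (hL hx).2⟩
  have hN : W = kNormalizer S Q K := by
    refine le_antisymm (fun w hw => ?_) fun w hw => ?_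
    · obtain ⟨hwS, α, hα, hv⟩ := mem_kNormalizer.1 (hW ▸ hw)
      exact mem_kNormalizer.2 ⟨hwS, α, hXK hα, hv⟩
    · obtain ⟨hwS, α, hα, hv⟩ := mem_kNormalizer.1 hw
      rw [hW]
      refine mem_kNormalizer.2 ⟨hwS, α, hKp α hα ?_, hv⟩
      have hαS : α ∈ autInducedBy S Q := Subgroup.subset_closure ⟨w, hwS, hv⟩
      exact (isPGroup_autInducedBy hS Q ⟨α, hαS⟩).imp fun k hk => congrArg Subtype.val hk
  obtain ⟨F', hF'⟩ : ∃ F', F' = kSystem F hQS K hN := ⟨_, rfl⟩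
  have hF's : F'.IsSaturated p := hF' ▸ isSaturated_kSystem hS hF hQS hQr K hKS hN
  have hF'F : ∀ {V : Subgroup Ω} {a : MulAut V}, V ≤ W → a ∈ F'.autGroup V →
      a ∈ F.autGroup V := fun hV ha => by
    have h := (mem_autGroup_iff hV).1 ha
    rw [hF'] at h
    exact (mem_autGroup_iff (hV.trans hWS)).2 h.1
  -- the subgroups `Y` and `Y₂`
  obtain ⟨Y, hY⟩ : ∃ Y, Y = W ⊓ T := ⟨_, rfl⟩
  have hYW : Y ≤ W := hY ▸ inf_le_left
  have hYT : Y ≤ T := hY ▸ inf_le_right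
  have hQY : Q ≤ Y := hY ▸ le_inf hQW hQT
  have hCW : centralizerIn S Q ≤ W := fun c hc => by
    rw [hW]
    exact mem_kNormalizer.2 ⟨hc.1, 1, one_mem _, fun q =>
      ((mem_centralizerIn'.1 hc).2 q q.2).symm⟩
  obtain ⟨Y₂, hY₂⟩ : ∃ Y₂, Y₂ = Y ⊔ centralizerIn S Y := ⟨_, rfl⟩
  have hYY₂ : Y ≤ Y₂ := hY₂ ▸ le_sup_left
  have hY₂W : Y₂ ≤ W :=
    hY₂ ▸ sup_le hYW ((centralizerIn_anti hQY).trans hCW)
  have hQY₂ : Q ≤ Y₂ := hQY.trans hYY₂
  have hY₂S : Y₂ ≤ S := hY₂W.trans hWS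
  have := finite_of_le hY₂S
  have := finite_of_le (hYW.trans hWS)
  have := finite_mulAut (V := Y₂)
  have := finite_mulAut (V := Y)
  have hWY : ∀ w ∈ W, ∀ y ∈ Y, w * y * w⁻¹ ∈ Y := fun w hw y hy => by
    rw [hY] at hy ⊢
    exact ⟨W.mul_mem (W.mul_mem hw hy.1) (W.inv_mem hw),
      FusionFactor.conj_mem_of_stronglyClosed hT (hWS hw) hy.2⟩
  have hWYn : W ≤ Subgroup.normalizer (Y : Set Ω) := fun w hw =>
    SatCriterion.mem_normalizer_of_finite fun y hy => hWY w hw y hy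
  have hWY₂n : W ≤ Subgroup.normalizer (Y₂ : Set Ω) := by
    intro w hw
    refine SatCriterion.mem_normalizer_of_finite fun y hy => ?_
    have hle : Y₂ ≤ Y₂.comap (MulAut.conj w).toMonoidHom := by
      conv_lhs => rw [hY₂]
      refine sup_le (fun a ha => hYY₂ (hWY w hw a ha)) fun c hc => ?_
      rw [hY₂]
      refine Subgroup.mem_sup_right (mem_centralizerIn'.2
        ⟨S.mul_mem (S.mul_mem (hWS hw) hc.1) (S.inv_mem (hWS hw)), fun a ha => ?_⟩)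
      have ha' : w⁻¹ * a * w ∈ Y := (Subgroup.mem_normalizer_iff''.1 (hWYn hw) a).1 ha
      have h1 := (mem_centralizerIn'.1 hc).2 _ ha'
      show w * c * w⁻¹ * a * (w * c * w⁻¹)⁻¹ = a
      calc w * c * w⁻¹ * a * (w * c * w⁻¹)⁻¹ = w * (c * (w⁻¹ * a * w) * c⁻¹) * w⁻¹ := by group
        _ = w * (w⁻¹ * a * w) * w⁻¹ := by rw [h1]
        _ = a := by group
    exact hle hy
  have hnormW : normalizerIn W Y₂ = W :=
    le_antisymm (normalizerIn_le W Y₂) (le_inf le_rfl hWY₂n)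
  have hY₂n : F'.IsFullyNormalized Y₂ := ⟨hY₂W, fun R _ => by
    rw [hnormW]
    exact Subgroup.card_le_of_le (normalizerIn_le W R)⟩
  obtain ⟨⟨-, hZS⟩, hY₂r⟩ := automized_receptive hWp hF's hY₂n
  obtain ⟨Z, hZ⟩ : ∃ Z, Z = autInducedBy W Y₂ := ⟨_, rfl⟩
  have hZF' : Z ≤ F'.autGroup Y₂ := hZ ▸ autInducedBy_le_autGroup hY₂W
  have hZsyl : IsSylowIn p (F'.autGroup Y₂) Z := hZ ▸ hZS
  have hcY : ∀ w (hw : w ∈ W), Agrees hYY₂ (Y.normalizerMonoidHom ⟨w, hWYn hw⟩)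
      (Y₂.normalizerMonoidHom ⟨w, hWY₂n hw⟩) := fun w hw y => rfl
  -- the automorphisms of `Y₂` in `M` and trivial modulo `Y`
  let A : Subgroup (MulAut Y₂) :=
    { carrier := {a | a ∈ F'.autGroup Y₂ ∧ (∃ b ∈ M.autGroup Y, Agrees hYY₂ b a) ∧
        ∀ y : Y₂, (y : Ω)⁻¹ * (a y : Ω) ∈ Y}
      one_mem' := ⟨one_mem _, ⟨1, one_mem _, Agrees.one _⟩, fun y => by
        rw [MulAut.one_apply, inv_mul_cancel]; exact one_mem _⟩
      mul_mem' := fun {a a'} ⟨ha, ⟨b, hb, hab⟩, had⟩ ⟨ha', ⟨b', hb', hab'⟩, had'⟩ =>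
        ⟨mul_mem ha ha', ⟨b * b', mul_mem hb hb', hab.mul hab'⟩, fun y => by
          have := Y.mul_mem (had' y) (had (a' y))
          rwa [mul_assoc, mul_inv_cancel_left] at this⟩
      inv_mem' := fun {a} ⟨ha, ⟨b, hb, hab⟩, had⟩ =>
        ⟨inv_mem ha, ⟨b⁻¹, inv_mem hb, hab.inv⟩, fun y => by
          have := Y.inv_mem (had (a⁻¹ y))
          rwa [MulAut.apply_inv_self, mul_inv_rev, inv_inv] at this⟩ }
  have hAF' : A ≤ F'.autGroup Y₂ := fun a ha => ha.1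
  have hZA : ∀ z ∈ Z, ∀ a ∈ A, z * a * z⁻¹ ∈ A := by
    intro z hz a ⟨ha, ⟨b, hb, hab⟩, had⟩
    obtain ⟨w, hw, hwn, hzv⟩ := mem_autInducedBy_iff.1 (hZ ▸ hz)
    have hze : z = Y₂.normalizerMonoidHom ⟨w, hwn⟩ :=
      MulEquiv.ext fun x => Subtype.ext (hzv x)
    have hzY : Agrees hYY₂ (Y.normalizerMonoidHom ⟨w, hWYn hw⟩) z := hze ▸ hcY w hw
    refine ⟨mul_mem (mul_mem (hZF' hz) ha) (inv_mem (hZF' hz)),
      ⟨_, ?_, (hzY.mul hab).mul hzY.inv⟩, fun y => ?_⟩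
    · rw [← congr_self_eq]
      exact congr_mem_of_invariant hsi hYT hYT
        (conj_mem' (hYT.trans hTS) (hWS hw) fun _ => rfl) hb
    · obtain ⟨x, rfl⟩ := z.surjective y
      show (z x : Ω)⁻¹ * (z (a (z⁻¹ (z x))) : Ω) ∈ Y
      rw [MulAut.inv_apply_self, hzv, hzv]
      rw [show (w * (x : Ω) * w⁻¹)⁻¹ * (w * (a x : Ω) * w⁻¹) =
        w * ((x : Ω)⁻¹ * (a x : Ω)) * w⁻¹ by group]
      exact hWY w hw _ (had x)
  -- restriction to `Q`
  have hres : ∀ a : F'.autGroup Y₂, ∃ α ∈ K, Agrees hQY₂ α (a : MulAut Y₂) := by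
    rintro ⟨a, ha⟩
    have h := (mem_autGroup_iff hY₂W).1 ha
    rw [hF'] at h
    obtain ⟨-, -, -, ψ, -, h1, α, hα, h2⟩ := h
    refine ⟨α, hα, fun q => ?_⟩
    exact ((h1 ⟨q, hQY₂ q.2⟩).symm.trans (h2 q) :)
  choose r hrK hr using hres
  let ρ : F'.autGroup Y₂ →* MulAut Q :=
    MonoidHom.mk' r fun a b => (hr (a * b)).unique ((hr a).mul (hr b))
  obtain ⟨G, hG⟩ : ∃ G, G = A ⊔ Z := ⟨_, rfl⟩
  have hGF' : G ≤ F'.autGroup Y₂ := hG ▸ sup_le hAF' hZF'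
  have hZG : Z ≤ G := hG ▸ le_sup_right
  have : Finite G := inferInstance
  obtain ⟨Zs, hZs⟩ := hZsyl.mono hZG hGF'
  -- a lift of `g` in `A`
  have hMn := FusionNormal.fullyNormalized_of_le hS hF hinv hQT hQn
  obtain ⟨hQMa, hQMr⟩ := automized_receptive hTp hMs hMn
  have hgI : IsIso M g := (mem_autGroup_iff hQT).1 hg
  have hcong : ∀ t (ht : t ∈ T) (htW : t ∈ W), ∀ α : MulAut Q,
      (∀ q : Q, (α q : Ω) = t * q * t⁻¹) →
      g * α * g⁻¹ ∈ autInducedBy T Q ∧ g * α * g⁻¹ ∈ X := by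
    intro t ht htW α hα
    obtain ⟨-, α', hα', hα'v⟩ := mem_kNormalizer.1 (hW ▸ htW)
    have hαX : α ∈ X :=
      (MulEquiv.ext fun q => Subtype.ext ((hα q).trans (hα'v q).symm) : α = α') ▸ hα'
    have hX' := hgX α hαX
    refine ⟨mem_autInducedBy_of_normal hS hTS hQMa (mul_mem (mul_mem hg ?_) (inv_mem hg))
      (hX hX'), hX'⟩
    exact (mem_autGroup_iff hQT).2 (conj_mem' hQT ht hα)
  obtain ⟨m, hm, hmQ⟩ := exists_extension (T := Y) hQMr hgI fun t ht => by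
    have htN : t ∈ normalizerIn T Q := ⟨hYT ht, (hWN (hYW ht)).2⟩
    refine mem_extender_of_congr htN (α := Q.normalizerMonoidHom ⟨t, htN.2⟩) (fun _ => rfl) ?_
    rw [congr_self_eq]
    exact (hcong t (hYT ht) (hYW ht) _ fun _ => rfl).1
  have hmr : ∀ y : Y, m y ∈ Y := by
    intro y
    refine hY.ge (Subgroup.mem_inf.2 ⟨?_, apply_mem hm y⟩)
    rw [hW]
    have hyN := (hWN (hYW y.2)).2
    refine mem_kNormalizer.2 ⟨hTS (apply_mem hm y), g * Q.normalizerMonoidHom ⟨y, hyN⟩ * g⁻¹,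
      (hcong y (hYT y.2) (hYW y.2) _ fun _ => rfl).2, fun q => ?_⟩
    obtain ⟨q₀, rfl⟩ := g.surjective q
    rw [MulAut.mul_apply, MulAut.mul_apply, MulAut.inv_apply_self,
      ← hmQ (Q.normalizerMonoidHom ⟨y, hyN⟩ q₀) (hQY (Subtype.mem _)), ← hmQ q₀ (hQY q₀.2),
      ← map_inv, ← map_mul, ← map_mul]
    exact congrArg m (Subtype.ext rfl)
  obtain ⟨b, hb, hbv⟩ := exists_aut_restrict (F := M) hm le_rfl fun x hx => hmr ⟨x, hx⟩
  have hYc : M.IsCentric Y := by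
    have h1 := FusionNormal.isCentric_sup_centralizerIn (S := T) (F := M) (R := Q)
      (fullyCentralized_of_normalized hTp hMs hMn)
    refine isCentric_of_le h1 (sup_le hQY fun c hc => ?_) hYT
    rw [hY]
    exact ⟨hCW ⟨hTS hc.1, hc.2⟩, hc.1⟩
  obtain ⟨β₀, hβ₀, hβ₀Y, hβ₀C⟩ := FusionLayer.trivialExt_of_normal hS hn hYc hb
  subst hY₂
  have hbQ : Agrees hQY g b := fun q => (hbv ⟨q, hQY q.2⟩).trans (hmQ q (hQY q.2))
  have hβ₀d : ∀ y : ↥(Y ⊔ centralizerIn S Y), (y : Ω)⁻¹ * (β₀ y : Ω) ∈ Y := by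
    intro y
    obtain ⟨a, ha, c, hc, hac⟩ := FusionLayer.exists_mul_of_mem_sup
      ((centralizerIn_le_normalizerIn S Y).trans inf_le_right) y.2
    have e : y = Subgroup.inclusion le_sup_left ⟨a, ha⟩ * ⟨c, Subgroup.mem_sup_right hc⟩ :=
      Subtype.ext hac.symm
    have h1 := (hβ₀C ⟨c, Subgroup.mem_sup_right hc⟩ hc).1
    have h2 : a⁻¹ * (b ⟨a, ha⟩ : Ω) ∈ Y := mul_mem (inv_mem ha) (b _).2
    have hc' : ∀ z ∈ Y, c⁻¹ * z * c = z := fun z hz => by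
      rw [mul_assoc, (mem_centralizerIn.1 hc).2 z hz, inv_mul_cancel_left]
    rw [e, map_mul, Subgroup.coe_mul, Subgroup.coe_mul, hβ₀Y, Subgroup.coe_inclusion, mul_inv_rev]
    rw [show c⁻¹ * a⁻¹ * ((b ⟨a, ha⟩ : Ω) * (β₀ ⟨c, Subgroup.mem_sup_right hc⟩ : Ω)) =
      c⁻¹ * (a⁻¹ * (b ⟨a, ha⟩ : Ω)) * c * (c⁻¹ * (β₀ ⟨c, Subgroup.mem_sup_right hc⟩ : Ω))
      by group, hc' _ h2]
    exact mul_mem h2 h1
  have hβ₀F' : β₀ ∈ F'.autGroup (Y ⊔ centralizerIn S Y) := by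
    refine (mem_autGroup_iff hY₂W).2 ?_
    subst hF'
    refine ⟨(mem_autGroup_iff hY₂S).1 hβ₀, hY₂W, fun y => hY₂W (β₀ y).2,
      restrictHom ((Y ⊔ centralizerIn S Y).subtype.comp β₀.toMonoidHom) (sup_le le_rfl hQY₂),
      restrict_mem ((mem_autGroup_iff hY₂S).1 hβ₀) _, fun y => rfl, g, hgK, fun q => ?_⟩
    exact (hβ₀Y ⟨q, hQY q.2⟩).trans (hbQ q)
  have hβ₀A : β₀ ∈ A := ⟨hβ₀F', ⟨b, hb, hβ₀Y⟩, hβ₀d⟩
  have hρg : r ⟨β₀, hβ₀F'⟩ = g :=
    (hr ⟨β₀, hβ₀F'⟩).unique (hbQ.trans (h' := hYY₂) hβ₀Y)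
  -- a lift normalizing `Z`
  have hρZ : ∀ x : F'.autGroup (Y ⊔ centralizerIn S Y),
      (x : MulAut ↥(Y ⊔ centralizerIn S Y)) ∈ Z → r x ∈ X := by
    intro x hx
    refine hKp _ (hrK x) ?_
    have hx' : (x : MulAut _) ∈ autInducedBy W (Y ⊔ centralizerIn S Y) := hZ ▸ hx
    obtain ⟨k, hk⟩ := (isPGroup_autInducedBy hWp _) ⟨_, hx'⟩
    refine ⟨k, ?_⟩
    show (r x) ^ p ^ k = 1
    have : x ^ p ^ k = 1 := Subtype.ext (congrArg Subtype.val hk :)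
    rw [show r x = ρ x from rfl, ← map_pow, this, map_one]
  obtain ⟨n, hnN, hnρ⟩ := exists_normalizing_lift (ρ.comp (Subgroup.inclusion hGF')) Zs
    (fun a z hz => by
      rw [hZs] at hz ⊢
      have h1 := hρZ (Subgroup.inclusion hGF' z) hz
      have h2 : r (Subgroup.inclusion hGF' a) * r (Subgroup.inclusion hGF' z) *
          (r (Subgroup.inclusion hGF' a))⁻¹ ∈ X := by
        have hle : K ≤ Subgroup.normalizer (X : Set (MulAut Q)) := hK ▸ sup_le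
          Subgroup.le_normalizer fun a ha => Subgroup.mem_normalizer_iff.2 fun y =>
            ⟨hXg a ha y, fun h => by
              have := hXg a⁻¹ (inv_mem ha) _ h
              simpa [mul_assoc] using this⟩
        exact (Subgroup.mem_normalizer_iff.1 (hle (hrK _)) _).1 h1
      obtain ⟨w, hwS, hwN, hwv⟩ := mem_autInducedBy_iff.1 (hX h2)
      have hwW : w ∈ W := hW ▸ mem_kNormalizer.2 ⟨hwS, _, h2, hwv⟩
      have hmem : (Y ⊔ centralizerIn S Y).normalizerMonoidHom ⟨w, hWY₂n hwW⟩ ∈ Z :=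
        hZ ▸ mem_autInducedBy_iff.2 ⟨w, hwW, hWY₂n hwW, fun _ => rfl⟩
      refine ⟨⟨_, hZG hmem⟩, hmem, ?_⟩
      exact (hr _).unique fun q => (hwv q).symm)
    ⟨β₀, hG ▸ Subgroup.mem_sup_left hβ₀A⟩
  have hnv : r (Subgroup.inclusion hGF' n) = g := (hnρ : r _ = r _).trans hρg
  obtain ⟨k, hkp, hkg⟩ := FusionLayer.exists_coprime_pow hgp (n : MulAut ↥(Y ⊔ centralizerIn S Y))
  obtain ⟨n', hn'⟩ : ∃ n', n' = (n : MulAut ↥(Y ⊔ centralizerIn S Y)) ^ k := ⟨_, rfl⟩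
  rw [← hn'] at hkp
  have hn'G : n' ∈ G := hn' ▸ pow_mem n.2 k
  have hn'A : n' ∈ A :=
    mem_of_coprime_sup (hZ ▸ isPGroup_autInducedBy hWp _) hZA (hG ▸ hn'G) hkp
  have hn'Q : Agrees hQY₂ g n' := by
    have := (hr (Subgroup.inclusion hGF' n)).pow k
    rw [hnv, hkg] at this
    exact hn' ▸ this
  have hn'Z : ∀ z ∈ Z, n' * z * n'⁻¹ ∈ Z := by
    intro z hz
    have h1 : n ^ k ∈ Subgroup.normalizer ((Zs : Subgroup G) : Set G) := pow_mem hnN k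
    have h2 := (Subgroup.mem_normalizer_iff.1 h1 ⟨z, hZG hz⟩).1 (hZs.symm ▸ hz)
    rw [hZs] at h2
    rw [hn']
    exact (Subgroup.mem_subgroupOf.1 h2 :)
  -- the extension to `W`
  obtain ⟨ψ, hψ, hψv⟩ := exists_extension (T := W) hY₂r
    ((mem_autGroup_iff hY₂W).1 hn'A.1) fun w hw => by
      refine mem_extender_of_congr (hnormW.symm ▸ hw)
        (α := (Y ⊔ centralizerIn S Y).normalizerMonoidHom ⟨w, hWY₂n hw⟩) (fun _ => rfl) ?_
      rw [congr_self_eq, ← hZ]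
      exact hn'Z _ (hZ ▸ mem_autInducedBy_iff.2 ⟨w, hw, hWY₂n hw, fun _ => rfl⟩)
  obtain ⟨β₁, hβ₁, hβ₁v⟩ := exists_aut_restrict hψ le_rfl fun x hx => apply_mem hψ ⟨x, hx⟩
  obtain ⟨l, hlp, hln⟩ := FusionLayer.exists_coprime_pow hkp β₁
  have hβA : Agrees hY₂W n' (β₁ ^ l) := by
    have h1 : Agrees hY₂W n' β₁ := fun y => (hβ₁v ⟨y, hY₂W y.2⟩).trans (hψv y (hY₂W y.2))
    have := h1.pow l
    rwa [hln] at this
  have hβF' : β₁ ^ l ∈ F'.autGroup W := pow_mem hβ₁ l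
  refine ⟨β₁ ^ l, hF'F le_rfl hβF', hlp, hn'Q.trans hβA, fun w => ?_⟩
  obtain ⟨β, hβ⟩ : ∃ β, β = β₁ ^ l := ⟨_, rfl⟩
  rw [← hβ] at hβA hlp ⊢
  -- the displacement lies in `Y₂`
  obtain ⟨cw, hcw⟩ : ∃ cw, cw = (Y ⊔ centralizerIn S Y).normalizerMonoidHom
    ⟨(w : Ω), hWY₂n w.2⟩ := ⟨_, rfl⟩
  obtain ⟨d, hd⟩ : ∃ d : W, d = w⁻¹ * β w := ⟨_, rfl⟩
  obtain ⟨cd, hcd⟩ : ∃ cd, cd = (Y ⊔ centralizerIn S Y).normalizerMonoidHom
    ⟨(d : Ω), hWY₂n d.2⟩ := ⟨_, rfl⟩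
  have hcwZ : cw ∈ Z := hcw ▸ hZ ▸ mem_autInducedBy_iff.2 ⟨_, w.2, hWY₂n w.2, fun _ => rfl⟩
  have hcdZ : cd ∈ Z := hcd ▸ hZ ▸ mem_autInducedBy_iff.2 ⟨_, d.2, hWY₂n d.2, fun _ => rfl⟩
  have hcdA : cd ∈ A := by
    have h1 : (cw⁻¹ * n' * cw) * n'⁻¹ ∈ A := by
      refine mul_mem ?_ (inv_mem hn'A)
      have := hZA cw⁻¹ (inv_mem hcwZ) n' hn'A
      rwa [inv_inv] at this
    have key : cw * cd = n' * cw * n'⁻¹ := by
      refine MulEquiv.ext fun x => Subtype.ext ?_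
      obtain ⟨x, rfl⟩ := n'.surjective x
      show (cw (cd (n' x)) : Ω) = (n' (cw (n'⁻¹ (n' x))) : Ω)
      rw [MulAut.inv_apply_self, ← hβA (cw x), hcw, hcd]
      show (w : Ω) * ((d : Ω) * (n' x : Ω) * (d : Ω)⁻¹) * (w : Ω)⁻¹ =
        (β ⟨(w : Ω) * (x : Ω) * (w : Ω)⁻¹, _⟩ : Ω)
      rw [show (⟨(w : Ω) * (x : Ω) * (w : Ω)⁻¹, _⟩ : W) = w * ⟨x, hY₂W x.2⟩ * w⁻¹ from
        Subtype.ext rfl, map_mul, map_mul, map_inv, Subgroup.coe_mul, Subgroup.coe_mul,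
        InvMemClass.coe_inv, hβA x, hd, Subgroup.coe_mul, InvMemClass.coe_inv]
      group
    have e : cd = cw⁻¹ * n' * cw * n'⁻¹ := by
      rw [mul_assoc cw⁻¹, mul_assoc cw⁻¹, ← key, inv_mul_cancel_left]
    exact e ▸ h1
  obtain ⟨-, ⟨bd, hbd, hbdv⟩, -⟩ := hcdA
  have hNM : Y = kNormalizer T Q K := by
    rw [hY]
    ext y
    constructor
    · rintro ⟨hyW, hyT⟩
      obtain ⟨-, α, hα, hv⟩ := mem_kNormalizer.1 (hN ▸ hyW)
      exact mem_kNormalizer.2 ⟨hyT, α, hα, hv⟩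
    · intro hy
      obtain ⟨hyT, α, hα, hv⟩ := mem_kNormalizer.1 hy
      exact ⟨hN ▸ mem_kNormalizer.2 ⟨hTS hyT, α, hα, hv⟩, hyT⟩
  have hKSM : IsSylowIn p (M.autGroup Q ⊓ K) (autInducedBy T Q ⊓ K) :=
    isSylowIn_of_card_max (inf_le_inf_right _ (autInducedBy_le_autGroup hQT))
      ((isPGroup_autInducedBy hTp Q).to_le inf_le_left) fun L hL hLp =>
        Subgroup.card_le_of_le fun x hx => Subgroup.mem_inf.2
          ⟨mem_autInducedBy_of_normal hS hTS hQMa (hL hx).1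
            (hX (hKX (hL.trans inf_le_right) hLp hx)), (hL hx).2⟩
  have := finite_of_le hYT
  have hYp : IsPGroup p Y := hTp.to_le hYT
  have hM's := isSaturated_kSystem hTp hMs hQT hQMr K hKSM hNM
  obtain ⟨⟨-, P, hP⟩, -⟩ :=
    automized_receptive hYp hM's (isFullyNormalized_self (F := kSystem M hQT K hNM))
  have hbd' : bd ∈ (kSystem M hQT K hNM).autGroup Y := by
    refine (mem_autGroup_iff le_rfl).2 ⟨(mem_autGroup_iff hYT).1 hbd, le_rfl, fun y => (bd y).2,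
      restrictHom (Y.subtype.comp bd.toMonoidHom) (sup_le le_rfl hQY),
      restrict_mem ((mem_autGroup_iff hYT).1 hbd) _, fun y => rfl, ?_⟩
    obtain ⟨-, α, hα, hv⟩ := mem_kNormalizer.1 (hN.le d.2)
    refine ⟨α, hα, fun q => ?_⟩
    show (bd ⟨q, hQY q.2⟩ : Ω) = _
    rw [← hbdv ⟨q, hQY q.2⟩, hcd, hv q]
    rfl
  obtain ⟨j, hj⟩ := (hWp d).imp fun k hk => (congrArg Subtype.val hk : (d : Ω) ^ p ^ k = 1)
  have hbdp : IsPGroup p (Subgroup.zpowers bd) := by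
    refine isPGroup_zpowers_of_pow_eq_one (k := j) (MulEquiv.ext fun x => Subtype.ext ?_)
    have h1 := (hbdv.pow (p ^ j)) x
    rw [hcd, ← map_pow, show (⟨(d : Ω), hWY₂n d.2⟩ :
      Subgroup.normalizer ((Y ⊔ centralizerIn S Y : Subgroup Ω) : Set Ω)) ^ p ^ j = 1 from
      Subtype.ext (by simpa using hj), map_one, MulAut.one_apply] at h1
    exact h1.symm
  have hbdI : bd ∈ autInducedBy Y Y := by
    obtain ⟨α, hα, h⟩ := exists_conj_autInducedBy (F := kSystem M hQT K hNM) ⟨le_rfl, P, hP⟩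
      (Subgroup.zpowers_le.2 hbd') hbdp
    have h1 := h bd (Subgroup.mem_zpowers bd)
    rw [← Inn_eq] at h1 ⊢
    have h2 := (Inn_normal Y).conj_mem _ h1 α⁻¹
    simpa [mul_assoc] using h2
  obtain ⟨y, hy, -, hyv⟩ := mem_autInducedBy_iff.1 hbdI
  have hdY₂ : (d : Ω) ∈ Y ⊔ centralizerIn S Y := by
    have hc : y⁻¹ * (d : Ω) ∈ centralizerIn S Y := by
      refine mem_centralizerIn'.2 ⟨S.mul_mem (S.inv_mem (hTS (hYT hy))) (hWS d.2), fun x hx => ?_⟩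
      have h1 := (hbdv ⟨x, hx⟩).trans (hyv ⟨x, hx⟩)
      rw [hcd] at h1
      have h2 : (d : Ω) * x * (d : Ω)⁻¹ = y * x * y⁻¹ := h1
      calc y⁻¹ * (d : Ω) * x * (y⁻¹ * (d : Ω))⁻¹ = y⁻¹ * ((d : Ω) * x * (d : Ω)⁻¹) * y := by
            group
        _ = x := by rw [h2]; group
    have h3 := mul_mem (Subgroup.mem_sup_left (T := centralizerIn S Y) hy)
      (Subgroup.mem_sup_right (S := Y) hc)
    rwa [mul_inv_cancel_left] at h3
  -- the displacement lies in `Y`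
  have hYn : (Y.subgroupOf W).Normal := Subgroup.normal_subgroupOf_of_le_normalizer hWYn
  have hfin := FusionLayer.displacement_mem hlp hYn
    (fun x hx => by
      rw [Subgroup.mem_subgroupOf] at hx ⊢
      rw [show x = (⟨(⟨(x : Ω), Subgroup.mem_sup_left hx⟩ : ↥(Y ⊔ centralizerIn S Y)),
        x.2⟩ : W) from rfl]
      rw [hβA]
      obtain ⟨-, ⟨b', -, hb'⟩, -⟩ := hn'A
      rw [hb' ⟨(x : Ω), hx⟩]
      exact (b' _).2)
    (x := w) (by
      rw [Subgroup.mem_subgroupOf, Subgroup.coe_mul, InvMemClass.coe_inv, ← hd,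
        show d = (⟨((⟨(d : Ω), hdY₂⟩ : ↥(Y ⊔ centralizerIn S Y)) : Ω), d.2⟩ : W) from rfl,
        hβA]
      exact hn'A.2.2 ⟨(d : Ω), hdY₂⟩)
    ((hWp (w⁻¹ * β w)).imp fun k hk => hk)
  rw [Subgroup.mem_subgroupOf] at hfin
  exact hYT hfin

end CfsgLib.FusionComponents
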