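import Cfsg.Agent.FusionComponents.Core
import Cfsg.Agent.Fusion.PPrimeResidual
import Cfsg.Agent.FusionLayer.Residual.Normal

/-!
# Normal subsystems of quasisimple systems

A normal subsystem of a quasisimple system is either over a central subgroup or is the whole
system.
-/

set_option autoImplicit false

namespace CfsgLib.FusionComponents

open Cfsg Cfsg.FusionSystem CfsgLib.Fusion CfsgLib.FusionClosed
open CfsgLib.FusionLayer (apply_eq_of_central induced_value)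

variable {Ω : Type*} [Group Ω] {S T : Subgroup Ω} {F : FusionSystem S} {E : FusionSystem T}
  {p : ℕ}

/-- The image of a normal subsystem in a central factor system is weakly normal. -/
theorem exists_image_weaklyNormal [Finite S] [Fact p.Prime] (hS : IsPGroup p S)
    (hE : E.IsNormalIn F p) {Z : Subgroup Ω} (hZ : F.IsCentral Z)
    {Ω' : Type*} [Group Ω'] {S' : Subgroup Ω'} {θ : S →* Ω'} {F' : FusionSystem S'}
    (hF' : F.IsFactorSystem Z θ F') :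
    ∃ E' : FusionSystem ((T.subgroupOf S).map θ), E'.IsWeaklyNormalIn F' p ∧
      ∀ (P' : Subgroup Ω') (φ' : P' →* Ω'), φ' ∈ E'.Hom P' →
        ∃ φ ∈ E.Hom (preimageAlong θ P' ⊓ T),
          ∀ (x : S) (hx : (x : Ω) ∈ preimageAlong θ P' ⊓ T) (hx' : θ x ∈ P'),
            ∃ hφ : φ ⟨x, hx⟩ ∈ S, φ' ⟨θ x, hx'⟩ = θ ⟨φ ⟨x, hx⟩, hφ⟩ := by
  obtain ⟨⟨hEs, hF, hinv⟩, -⟩ := hE
  have hTS : T ≤ S := hinv.2.1.1
  have := finite_of_le hTS
  have hTp : IsPGroup p T := hS.to_le hTS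
  have hZsc := FusionLayer.stronglyClosed_of_central hZ
  obtain ⟨θT, hθT⟩ : ∃ θT : T →* Ω', θT = θ.comp (Subgroup.inclusion hTS) := ⟨_, rfl⟩
  have hv : ∀ t : T, θT t = θ ⟨t, hTS t.2⟩ := fun t => by rw [hθT]; rfl
  have hker : ∀ t : T, θT t = 1 ↔ (t : Ω) ∈ Z ⊓ T := fun t => by
    rw [hv, hF'.2.1, Subgroup.mem_inf]
    exact ⟨fun h => ⟨h, t.2⟩, And.left⟩
  have hrange : θT.range = (T.subgroupOf S).map θ := by
    ext y
    constructor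
    · rintro ⟨t, rfl⟩
      exact ⟨⟨t, hTS t.2⟩, t.2, (hv t).symm⟩
    · rintro ⟨s, hs, rfl⟩
      exact ⟨⟨s, hs⟩, hv _⟩
  have hZT : E.StronglyClosed (Z ⊓ T) := ⟨inf_le_right, fun P hP φ hφ x =>
    ⟨hZsc.2 P (hP.trans inf_le_left) φ (hinv.1 P hφ) x, apply_mem hφ x⟩⟩
  obtain ⟨E', hE'⟩ : ∃ E' : FusionSystem ((T.subgroupOf S).map θ),
      E.IsFactorSystem (Z ⊓ T) θT E' :=
    ⟨_, FusionFactor.isFactorSystem_factorSystem E _ hZT θT hker _ hrange⟩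
  have hT'S : (T.subgroupOf S).map θ ≤ S' := hF'.2.2.1 ▸ Subgroup.map_le_range _ _
  have hpre : ∀ P', preimageAlong θT P' = preimageAlong θ P' ⊓ T := fun P' => by
    ext x
    rw [Subgroup.mem_inf, FusionFactor.mem_preimageAlong, FusionFactor.mem_preimageAlong]
    constructor
    · rintro ⟨h, hm⟩
      exact ⟨⟨hTS h, hv ⟨x, h⟩ ▸ hm⟩, h⟩
    · rintro ⟨⟨hx, hm⟩, h⟩
      exact ⟨h, (hv ⟨x, h⟩).symm ▸ hm⟩
  -- the maps of `E'` are induced by maps of `E`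
  have hdown : ∀ (P' : Subgroup Ω') (φ' : P' →* Ω'), φ' ∈ E'.Hom P' →
      ∃ φ ∈ E.Hom (preimageAlong θ P' ⊓ T),
        ∀ (x : S) (hx : (x : Ω) ∈ preimageAlong θ P' ⊓ T) (hx' : θ x ∈ P'),
          ∃ hφ : φ ⟨x, hx⟩ ∈ S, φ' ⟨θ x, hx'⟩ = θ ⟨φ ⟨x, hx⟩, hφ⟩ := by
    intro P' φ' hφ'
    obtain ⟨-, φ, hφ, hind⟩ := (hE'.2.2.2 P' φ').1 hφ'
    refine ⟨restrictHom φ (hpre P').ge, restrict_mem hφ _, fun x hx hx' => ?_⟩
    obtain ⟨hm, he⟩ := induced_value hind ⟨x, hx.2⟩ ((hpre P').ge hx)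
      (by rw [hv]; exact hx')
    refine ⟨hTS hm, Eq.trans ?_ (he.trans (hv _))⟩
    exact congrArg φ' (Subtype.ext (hv ⟨x, hx.2⟩).symm)
  refine ⟨E', ⟨FusionFactor.isSaturated_factor hTp hEs hZT hE',
    FusionFactor.isSaturated_factor hS hF hZsc hF', fun P' φ' hφ' => ?_,
    FusionSolvable.stronglyClosed_image hZsc hF' hinv.2.1, ?_, ?_⟩, hdown⟩
  · -- `E'` is a subsystem of `F'`
    have hP' : P' ≤ (T.subgroupOf S).map θ := le_left hφ'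
    obtain ⟨φ, hφ, hφv⟩ := hdown P' φ' hφ'
    obtain ⟨ψ, hψ, h1, h2⟩ := hZ.2 _ φ (hinv.1 _ hφ)
    have hle : preimageAlong θ P' ≤ preimageAlong θ P' ⊓ T ⊔ Z := by
      intro x hx
      obtain ⟨hxS, hm⟩ := FusionFactor.mem_preimageAlong.1 hx
      obtain ⟨t, ht, htv⟩ := hP' hm
      have hz := (hF'.2.1 (t⁻¹ * ⟨x, hxS⟩)).1 (by rw [map_mul, map_inv, htv, inv_mul_cancel])
      have := Subgroup.mul_mem_sup (S := preimageAlong θ P' ⊓ T) (T := Z) (x := (t : Ω))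
        ⟨FusionFactor.mem_preimageAlong.2 ⟨t.2, htv.symm ▸ hm⟩, ht⟩ hz
      simpa using this
    refine (hF'.2.2.2 P' φ').2 ⟨hP'.trans hT'S, restrictHom ψ hle, restrict_mem hψ hle,
      FusionFactor.preimageAlong_le θ P', fun x => apply_mem hψ _,
      fun x => (FusionFactor.mem_preimageAlong.1 x.2).2, ?_⟩
    rintro ⟨x, hx⟩
    obtain ⟨hxS, hm⟩ := FusionFactor.mem_preimageAlong.1 hx
    obtain ⟨t, ht, htv⟩ := hP' hm
    have htm : θ t ∈ P' := htv.symm ▸ hm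
    have htP : (t : Ω) ∈ preimageAlong θ P' ⊓ T :=
      ⟨FusionFactor.mem_preimageAlong.2 ⟨t.2, htm⟩, ht⟩
    have hz := (hF'.2.1 (t⁻¹ * ⟨x, hxS⟩)).1 (by rw [map_mul, map_inv, htv, inv_mul_cancel])
    obtain ⟨hφt, hval⟩ := hφv t htP htm
    have e : (⟨x, hle hx⟩ : ↥(preimageAlong θ P' ⊓ T ⊔ Z)) =
        Subgroup.inclusion le_sup_left ⟨(t : Ω), htP⟩ *
          Subgroup.inclusion le_sup_right ⟨((t⁻¹ * ⟨x, hxS⟩ : S) : Ω), hz⟩ :=
      Subtype.ext (by simp)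
    show φ' ⟨θ ⟨x, _⟩, _⟩ = θ ⟨ψ ⟨x, _⟩, _⟩
    refine Eq.trans (congrArg φ' (Subtype.ext htv.symm :
      (⟨θ ⟨x, hxS⟩, hm⟩ : P') = ⟨θ t, htm⟩)) (hval.trans ?_)
    refine (MonoidHom.eq_iff θ).2 (MonoidHom.mem_ker.2 ((hF'.2.1 _).2 ?_))
    rw [Subgroup.coe_mul, InvMemClass.coe_inv]
    show (ψ ⟨x, hle hx⟩)⁻¹ * φ ⟨t, htP⟩ ∈ Z
    rw [e, map_mul, h1, h2, mul_inv_rev, inv_mul_cancel_right]
    exact inv_mem hz
  · -- invariance
    intro P' hP'T φ' hφ' α' hα'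
    obtain ⟨φ, hφ, hφv⟩ := hdown P' φ' hφ'
    have hT'le := hT'S
    obtain ⟨-, a, ha, hind⟩ := (hF'.2.2.2 _ _).1 ((mem_autGroup_iff hT'S).1 hα')
    have hTpre : T ≤ preimageAlong θ ((T.subgroupOf S).map θ) := fun t ht =>
      FusionFactor.mem_preimageAlong.2 ⟨hTS ht, ⟨t, hTS ht⟩, ht, rfl⟩
    obtain ⟨α, hα, hαv⟩ := exists_aut_restrict ha hTpre fun t ht =>
      apply_mem_stronglyClosed hinv.2.1 ha (x := ⟨t, hTpre ht⟩) ht
    have hαθ : ∀ t : T, ∀ h : θ ⟨t, hTS t.2⟩ ∈ (T.subgroupOf S).map θ,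
        ((α' ⟨_, h⟩ : (T.subgroupOf S).map θ) : Ω') = θ ⟨α t, hTS (α t).2⟩ := fun t h => by
      obtain ⟨hm, he⟩ := induced_value hind ⟨t, hTS t.2⟩ (hTpre t.2) h
      exact he.trans (congrArg θ (Subtype.ext (hαv t).symm))
    obtain ⟨χ, hχ, hχv⟩ := hinv.2.2.1 _ inf_le_right φ hφ α hα
    obtain ⟨χ', hχ', hindχ⟩ :=
      (FusionFactor.isSurjectiveMorphism_of_isFactorSystem hTp hEs hZT hE').1.2 _ χ hχ
    obtain ⟨A, hA⟩ : ∃ A, A = (P'.subgroupOf ((T.subgroupOf S).map θ)).map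
        (((T.subgroupOf S).map θ).subtype.comp α'.toMonoidHom) := ⟨_, rfl⟩
    rw [← hA]
    have hle : A ≤ imageAlong θT ((((preimageAlong θ P' ⊓ T)).subgroupOf T).map
        (T.subtype.comp α.toMonoidHom)) := by
      rw [hA]
      rintro _ ⟨⟨_, s, hs, rfl⟩, hy, rfl⟩
      refine ⟨α ⟨s, hs⟩, ⟨⟨s, hs⟩, ⟨FusionFactor.mem_preimageAlong.2 ⟨s.2, hy⟩, hs⟩, rfl⟩, ?_⟩
      rw [hv]
      exact (hαθ ⟨s, hs⟩ _).symm
    refine ⟨restrictHom χ' hle, restrict_mem hχ' hle, ?_⟩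
    rintro ⟨x, hx⟩ hφx hαx
    obtain ⟨s, hs, rfl⟩ := hP'T hx
    have hsP : (s : Ω) ∈ preimageAlong θ P' ⊓ T :=
      ⟨FusionFactor.mem_preimageAlong.2 ⟨s.2, hx⟩, hs⟩
    obtain ⟨hφs, hval⟩ := hφv s hsP hx
    have hφT : φ ⟨s, hsP⟩ ∈ T := apply_mem hφ _
    have h1 := hχv ⟨s, hsP⟩ hφT ⟨⟨s, hs⟩, hsP, rfl⟩
    obtain ⟨hm, he⟩ := induced_value hindχ (α ⟨s, hs⟩) ⟨⟨s, hs⟩, hsP, rfl⟩
      (by rw [hv]; exact hle ((hαθ ⟨s, hs⟩ _) ▸ hαx))
    show χ' _ = _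
    refine Eq.trans (congrArg χ' (Subtype.ext ((hαθ ⟨s, hs⟩ _).trans (hv _).symm))) (he.trans ?_)
    rw [hv]
    refine Eq.trans ?_ (Eq.trans (hαθ ⟨_, hφT⟩ ⟨⟨_, hφs⟩, hφT, rfl⟩).symm
      (congrArg (fun w => ((α' w : (T.subgroupOf S).map θ) : Ω')) (Subtype.ext hval.symm)))
    exact congrArg θ (Subtype.ext h1)
  · -- the Frattini condition
    intro P' hP'T φ' hφ'
    obtain ⟨-, φ, hφ, hind⟩ := (hF'.2.2.2 P' φ').1 hφ'
    obtain ⟨α, hα, φ₀, hφ₀, hv₀⟩ := hinv.2.2.2 (preimageAlong θ P' ⊓ T) inf_le_right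
      (restrictHom φ inf_le_left) (restrict_mem hφ _)
    obtain ⟨α', hα', hindα⟩ := FusionLayer.exists_image_map hS hF hZ hF' ((mem_autGroup_iff hTS).1 hα)
    have hTle : (T.subgroupOf S).map θ ≤ imageAlong θ T := le_rfl
    obtain ⟨e, he, hev⟩ := exists_iso (Q := (T.subgroupOf S).map θ) (restrict_mem hα' hTle) (by
      ext y
      constructor
      · rintro ⟨⟨_, s, hs, rfl⟩, rfl⟩
        obtain ⟨hm, he⟩ := induced_value hindα s hs ⟨s, hs, rfl⟩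
        exact ⟨_, (α ⟨s, hs⟩).2, he.symm⟩
      · rintro ⟨s, hs, rfl⟩
        obtain ⟨t, ht⟩ := α.surjective ⟨s, hs⟩
        obtain ⟨hm, he⟩ := induced_value hindα ⟨t, hTS t.2⟩ t.2 ⟨⟨t, hTS t.2⟩, t.2, rfl⟩
        exact ⟨_, he.trans (congrArg θ (Subtype.ext (congrArg Subtype.val ht :)))⟩)
    obtain ⟨φ₀', hφ₀', hind₀⟩ :=
      (FusionFactor.isSurjectiveMorphism_of_isFactorSystem hTp hEs hZT hE').1.2 _ φ₀ hφ₀
    have hle : P' ≤ imageAlong θT (preimageAlong θ P' ⊓ T) := fun y hy => by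
      obtain ⟨s, hs, rfl⟩ := hP'T hy
      exact ⟨⟨s, hs⟩, ⟨FusionFactor.mem_preimageAlong.2 ⟨s.2, hy⟩, hs⟩, hv _⟩
    refine ⟨e, he.mem_autGroup, restrictHom φ₀' hle, restrict_mem hφ₀' hle, ?_⟩
    rintro ⟨x, hx⟩ hx'
    obtain ⟨s, hs, rfl⟩ := hP'T hx
    have hsP : (s : Ω) ∈ preimageAlong θ P' ⊓ T :=
      ⟨FusionFactor.mem_preimageAlong.2 ⟨s.2, hx⟩, hs⟩
    obtain ⟨hm, he1⟩ := induced_value hind s hsP.1 hx
    obtain ⟨hm0, he0⟩ := induced_value hind₀ ⟨s, hs⟩ hsP (by rw [hv]; exact hle hx)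
    obtain ⟨hma, hea⟩ := induced_value hindα ⟨φ₀ ⟨s, hsP⟩, hTS hm0⟩ hm0 ⟨_, hm0, rfl⟩
    rw [hev]
    refine he1.trans (Eq.trans ?_ (Eq.trans hea.symm (congrArg α' (Subtype.ext ?_))))
    · exact congrArg θ (Subtype.ext (hv₀ ⟨s, hsP⟩ hm0))
    · show θ ⟨φ₀ ⟨s, hsP⟩, _⟩ = φ₀' _
      rw [← hv ⟨φ₀ ⟨s, hsP⟩, hm0⟩, ← he0]
      exact congrArg φ₀' (Subtype.ext (hv ⟨s, hs⟩))

/-- **Normal subsystems of quasisimple systems.** -/
theorem normal_of_quasisimple [Finite S] [Fact p.Prime] (hS : IsPGroup p S) (hq : F.Quasisimple p)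
    (hE : E.IsNormalIn F p) : T ≤ F.center ∨ ∀ P, F.Hom P ⊆ E.Hom P := by
  obtain ⟨hF, hperf, hfac⟩ := id hq
  obtain ⟨⟨hEs, -, hinv⟩, -⟩ := id hE
  have hTS : T ≤ S := hinv.2.1.1
  have hZ : F.IsCentral F.center := FusionFactor.isCentral_center F
  obtain ⟨F', hF'⟩ := FusionFactor.exists_factorSystem_quotient F F.center
    (FusionLayer.stronglyClosed_of_central hZ)
  obtain ⟨E', hE', hdown⟩ := exists_image_weaklyNormal hS hE hZ hF'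
  have hT' := hE'.2.2.2.1
  have : Finite (⊤ : Subgroup (↥S ⧸ (F.center).subgroupOf S)) :=
    Finite.of_surjective _ (Subgroup.topEquiv.symm.surjective.comp
      (QuotientGroup.mk'_surjective _))
  have hTop : IsPGroup p (⊤ : Subgroup (↥S ⧸ (F.center).subgroupOf S)) :=
    (hS.to_quotient _).of_equiv Subgroup.topEquiv.symm
  have := finite_of_le hT'.1
  have hres := PPrimeResidual.residual_isPPrimeResidual (hTop.to_le hT'.1) hE'.1
  rcases (hfac F' hF').2.2 _ _ (FusionLayer.isNormalIn_of_isPPrimeResidual hTop hE' hres) with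
    hbot | ⟨htop, hhom⟩
  · refine Or.inl fun t ht => ?_
    refine (hF'.2.1 ⟨t, hTS ht⟩).1 (Subgroup.mem_bot.1 (hbot ▸ ?_))
    exact ⟨⟨t, hTS ht⟩, ht, rfl⟩
  right
  have hdec : ∀ x ∈ S, ∃ t ∈ T, ∃ z ∈ F.center, x = t * z := by
    intro x hx
    obtain ⟨t, ht, htv⟩ := htop.ge (Subgroup.mem_top (QuotientGroup.mk' _ ⟨x, hx⟩))
    refine ⟨t, ht, _, (hF'.2.1 (t⁻¹ * ⟨x, hx⟩)).1 (by rw [map_mul, map_inv, htv, inv_mul_cancel]),
      ?_⟩
    rw [Subgroup.coe_mul, InvMemClass.coe_inv, mul_inv_cancel_left]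
  have hST : T = S := by
    refine le_antisymm hTS (hperf.ge.trans ((Subgroup.closure_le _).2 ?_))
    rintro _ ⟨P, α, x, hP, -, rfl⟩
    obtain ⟨ψ, hψ, h1, h2⟩ := hZ.2 P _ ((mem_autGroup_iff hP).1 α.2)
    obtain ⟨t, ht, z, hz, htz⟩ := hdec x (hP x.2)
    have htm : t ∈ P ⊔ F.center := by
      rw [show t = (x : Ω) * z⁻¹ by rw [htz, mul_inv_cancel_right]]
      exact mul_mem (Subgroup.mem_sup_left x.2) (Subgroup.mem_sup_right (inv_mem hz))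
    have hψt : ψ ⟨t, htm⟩ ∈ T :=
      apply_mem_stronglyClosed hinv.2.1 hψ (x := ⟨t, htm⟩) ht
    have h3 : (((α : MulAut P) x : P) : Ω) = ψ ⟨t, htm⟩ * z := by
      refine (h1 x).symm.trans ?_
      rw [show Subgroup.inclusion le_sup_left x = (⟨t, htm⟩ : ↥(P ⊔ F.center)) *
        Subgroup.inclusion le_sup_right ⟨z, hz⟩ from Subtype.ext htz, map_mul, h2]
    show (x : Ω)⁻¹ * (((α : MulAut P) x : P) : Ω) ∈ T
    have hzT : ∀ w ∈ T, z⁻¹ * w * z = w := fun w hw => by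
      rw [mul_assoc, Subgroup.mem_centralizer_iff.1 (F.center_le_centralizer hz) w (hTS hw),
        inv_mul_cancel_left]
    rw [h3, htz, show (t * z)⁻¹ * (ψ ⟨t, htm⟩ * z) = z⁻¹ * (t⁻¹ * ψ ⟨t, htm⟩) * z by group,
      hzT _ (T.mul_mem (T.inv_mem ht) hψt)]
    exact T.mul_mem (T.inv_mem ht) hψt
  subst hST
  refine fun P φ hφ => mem_le_of_pResidual hS hF (D := E) (fun P hP α hα => ?_) hφ
  refine (mem_autGroup_iff hP).1 ?_
  obtain ⟨a, ha, rfl⟩ := hα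
  induction ha using Subgroup.closure_induction with
  | one => exact one_mem _
  | mul a b _ _ iha ihb => rw [map_mul]; exact mul_mem iha ihb
  | inv a _ iha => rw [map_inv]; exact inv_mem iha
  | mem a ha =>
    have hap : (orderOf (a : MulAut P)).Coprime p := by rwa [Subgroup.orderOf_coe]
    obtain ⟨ψ, hψ, h1, h2⟩ := hZ.2 P _ ((mem_autGroup_iff hP).1 a.2)
    obtain ⟨Q, hQ⟩ : ∃ Q, Q = P ⊔ F.center := ⟨_, rfl⟩
    have hQS : Q ≤ T := hQ ▸ sup_le hP hZ.1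
    have := finite_of_le hQS
    have := finite_mulAut (V := Q)
    have hmem : ∀ v (hv : v ∈ P ⊔ F.center), ψ ⟨v, hv⟩ ∈ P ⊔ F.center := fun v hv =>
      forall_mem_sup ψ le_sup_left le_sup_right
        (fun y hy => Subgroup.mem_sup_left ((h1 ⟨y, hy⟩).symm ▸ ((a : MulAut P) ⟨y, hy⟩).2))
        (fun y hy => Subgroup.mem_sup_right ((h2 ⟨y, hy⟩).symm ▸ hy)) hv hv
    obtain ⟨b, hb, hbv⟩ := exists_aut_restrict hψ (P := Q) hQ.le
      fun v hv => hQ.ge (hmem v (hQ.le hv))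
    obtain ⟨k, hkp, hka⟩ := FusionLayer.exists_coprime_pow hap b
    have hPQ : P ≤ Q := hQ ▸ le_sup_left
    have hag : Agrees hPQ (a : MulAut P) (b ^ k) := hka ▸ (Agrees.pow (h := hPQ)
      (fun x => (hbv ⟨x, hPQ x.2⟩).trans (h1 x)) k)
    suffices hbE : b ^ k ∈ E.autGroup Q by
      exact mem_autGroup_of_le_of_eq hP (restrict_mem ((mem_autGroup_iff hQS).1 hbE) hPQ)
        fun x => (hag x).symm
    have hZQ : F.center ≤ Q := hQ ▸ le_sup_right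
    -- the automorphism induced on the quotient lies in the image of `E`
    obtain ⟨φ', hφ', hind⟩ := FusionLayer.exists_image_map hS hF hZ hF'
      ((mem_autGroup_iff hQS).1 (pow_mem hb k))
    have hφE := hres.2.1.1 _ ((hhom _).ge hφ')
    obtain ⟨h, hh, hhv⟩ := hdown _ φ' hφE
    have hQle : Q ≤ preimageAlong (QuotientGroup.mk' ((F.center).subgroupOf T))
        (imageAlong (QuotientGroup.mk' ((F.center).subgroupOf T)) Q) ⊓ T := fun q hq =>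
      ⟨FusionFactor.mem_preimageAlong.2 ⟨hQS hq, ⟨q, hQS hq⟩, hq, rfl⟩, hQS hq⟩
    have hval : ∀ q : Q, (((b ^ k) q : Q) : Ω)⁻¹ * h ⟨q, hQle q.2⟩ ∈ F.center := by
      intro q
      obtain ⟨hm, he⟩ := induced_value hind ⟨q, hQS q.2⟩ q.2 ⟨⟨q, hQS q.2⟩, q.2, rfl⟩
      obtain ⟨hm', he'⟩ := hhv ⟨q, hQS q.2⟩ (hQle q.2) ⟨⟨q, hQS q.2⟩, q.2, rfl⟩
      exact (hF'.2.1 (⟨_, hm⟩⁻¹ * ⟨_, hm'⟩)).1 (by
        rw [map_mul, map_inv, ← he, ← he', inv_mul_cancel])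
    have hhQ : ∀ q (hq : q ∈ Q), restrictHom h hQle ⟨q, hq⟩ ∈ Q := fun q hq => by
      have := Q.mul_mem ((b ^ k) ⟨q, hq⟩).2 (hZQ (hval ⟨q, hq⟩))
      rwa [mul_inv_cancel_left] at this
    obtain ⟨c, hc, hcv⟩ := exists_aut_restrict (restrict_mem hh hQle) le_rfl hhQ
    have hcF : c ∈ F.autGroup Q :=
      (mem_autGroup_iff hQS).2 (hinv.1 _ ((mem_autGroup_iff hQS).1 hc))
    have hu : c⁻¹ * b ^ k ∈ FusionLayer.kerAut hZ hQS := by
      refine FusionLayer.mem_kerAut.2 ⟨mul_mem (inv_mem hcF) (pow_mem hb k), fun q => ?_⟩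
      have h4 : ((c⁻¹ (⟨_, hZQ (hval q)⟩ : Q) : Q) : Ω) = ((b ^ k) q : Ω)⁻¹ * h ⟨q, hQle q.2⟩ :=
        apply_eq_of_central hZ ((mem_autGroup_iff hQS).1 (inv_mem hcF))
          (x := ⟨_, hZQ (hval q)⟩) (hval q)
      rw [show (⟨_, hZQ (hval q)⟩ : Q) = ((b ^ k) q)⁻¹ * c q from
        Subtype.ext (by rw [Subgroup.coe_mul, InvMemClass.coe_inv, hcv]; rfl), map_mul, map_inv,
        MulAut.inv_apply_self, Subgroup.coe_mul, InvMemClass.coe_inv] at h4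
      rw [MulAut.mul_apply]
      have h5 := inv_mem (hval q)
      rw [← h4, mul_inv_rev, inv_inv] at h5
      exact h5
    refine mem_of_coprime_sup (A := E.autGroup Q) (Z := FusionLayer.kerAut hZ hQS)
      (FusionLayer.kerAut_isPGroup hS hZ hQS) (fun z hz y hy => ?_) ?_ hkp
    · have hzF : z ∈ F.autGroup Q := (FusionLayer.mem_kerAut.1 hz).1
      rw [← congr_self_eq]
      exact congr_mem_of_invariant (strongInvariant_of_invariant hinv) hQS hQS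
        ((mem_autGroup_iff hQS).1 hzF) hy
    · rw [show b ^ k = c * (c⁻¹ * b ^ k) by group]
      exact mul_mem (Subgroup.mem_sup_left hc) (Subgroup.mem_sup_right hu)

end CfsgLib.FusionComponents
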